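import Groth.Agent.Unibranch.EquidimAt

/-!
# Local dimensions of fibres and chains
-/

universe u

open CategoryTheory AlgebraicGeometry Topology TopologicalSpace

namespace Groth.Agent.Unibranch

variable {X Y : Scheme.{u}}

theorem topologicalKrullDim_le_natCast {α : Type u} [TopologicalSpace α] [T0Space α] [QuasiSober α]
    {e : ℕ} (h : ∀ (k : ℕ) (c : Fin (k + 1) → α),
      (∀ i : Fin k, c i.castSucc ⤳ c i.succ ∧ c i.castSucc ≠ c i.succ) → k ≤ e) :
    topologicalKrullDim α ≤ e := by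
  rcases isEmpty_or_nonempty α with hα | hα
  · have : IsEmpty (IrreducibleCloseds α) := ⟨fun Z ↦ isEmptyElim Z.2.nonempty.some⟩
    rw [topologicalKrullDim, Order.krullDim_eq_bot]
    exact bot_le
  rw [topologicalKrullDim]
  refine iSup_le fun l ↦ ?_
  have h1 : (l.length : WithBot ℕ∞) ≤ topologicalKrullDim α := Order.LTSeries.length_le_krullDim l
  obtain ⟨c, hc⟩ := exists_chain_of_le_topologicalKrullDim h1
  exact WithBot.coe_le_coe.mpr (ENat.natCast_le_natCast.mpr (h _ c hc))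

/-- Every point has a neighbourhood in its fibre of finite dimension. -/
theorem exists_fibreDimAt_le (f : X ⟶ Y) [LocallyOfFiniteType f] (x : X) :
    ∃ s : ℕ, FlatMor.fibreDimAt f x ≤ (s : WithBot ℕ∞) := by
  obtain ⟨SV, hSV, hyV, -⟩ := Y.isBasis_affineOpens.exists_subset_of_mem_open
    (Set.mem_univ (f x)) isOpen_univ
  obtain ⟨V, hV, rfl⟩ : ∃ U : Y.Opens, IsAffineOpen U ∧ (U : Set Y) = SV := hSV
  obtain ⟨SW, hSW, hxW, hWV⟩ := X.isBasis_affineOpens.exists_subset_of_mem_open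
    (show x ∈ f ⁻¹ᵁ V from hyV) (f ⁻¹ᵁ V).2
  obtain ⟨W, hW, rfl⟩ : ∃ U : X.Opens, IsAffineOpen U ∧ (U : Set X) = SW := hSW
  let := (f.appLE V W hWV).hom.toAlgebra
  have : Algebra.FiniteType Γ(Y, V) Γ(X, W) := f.finiteType_appLE hV hW hWV
  let n := hW.primeIdealOf ⟨x, hxW⟩
  let p := PrimeSpectrum.comap (algebraMap Γ(Y, V) Γ(X, W)) n
  have : Nontrivial (p.asIdeal.Fiber Γ(X, W)) := PrimeSpectrum.nonempty_iff_nontrivial.mp
    ⟨PrimeSpectrum.preimageOrderIsoFiber Γ(Y, V) Γ(X, W) p ⟨n, rfl⟩⟩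
  obtain ⟨s, g, hgi, hgf⟩ := exists_finite_inj_algHom_of_fg p.asIdeal.ResidueField
    (p.asIdeal.Fiber Γ(X, W))
  refine ⟨s, ?_⟩
  let O : Opens ↥(f.fiber (f x)) := ⟨f.fiberι (f x) ⁻¹' W, W.2.preimage (f.fiberι (f x)).continuous⟩
  have hO : f.asFiber x ∈ O := by
    show f.fiberι (f x) (f.asFiber x) ∈ W
    rw [Scheme.Hom.fiberι_asFiber]; exact hxW
  refine le_trans (iInf_le _ ⟨O, hO⟩) ?_
  show topologicalKrullDim (O : Set ↥(f.fiber (f x))) ≤ _
  have : QuasiSober (O : Set ↥(f.fiber (f x))) := O.2.isOpenEmbedding_subtypeVal.quasiSober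
  refine topologicalKrullDim_le_natCast fun k c hc ↦ ?_
  have hkey : ∀ q, hV.fromSpec (PrimeSpectrum.comap (algebraMap Γ(Y, V) Γ(X, W)) q) =
      f (hW.fromSpec q) := fun q ↦ ((Scheme.Hom.comp_apply _ _ _).symm.trans
      (congr($(IsAffineOpen.SpecMap_appLE_fromSpec f hV hW hWV) q))).trans
        (Scheme.Hom.comp_apply _ _ _)
  let P : Fin (k + 1) → PrimeSpectrum Γ(X, W) := fun i ↦ hW.primeIdealOf ⟨f.fiberι (f x) (c i).1, (c i).2⟩
  have hP : ∀ i, PrimeSpectrum.comap (algebraMap Γ(Y, V) Γ(X, W)) (P i) = p := fun i ↦ by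
    apply hV.fromSpec.isOpenEmbedding.injective
    refine (hkey _).trans (((congrArg f (hW.fromSpec_primeIdealOf _)).trans ?_).trans (hkey n).symm)
    rw [hW.fromSpec_primeIdealOf ⟨x, hxW⟩]
    exact (f.range_fiberι (f x)).le ⟨_, rfl⟩
  let o := PrimeSpectrum.preimageOrderIsoFiber Γ(Y, V) Γ(X, W) p
  have hlt : ∀ i : Fin k, P i.castSucc < P i.succ := fun i ↦ by
    refine lt_of_le_of_ne ((PrimeSpectrum.le_iff_specializes _ _).mpr
      ((hW.fromSpec.isOpenEmbedding.isInducing.specializes_iff).mp ?_)) fun h ↦ (hc i).2 ?_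
    · convert ((hc i).1.map continuous_subtype_val).map (f.fiberι (f x)).continuous using 1 <;>
        exact hW.fromSpec_primeIdealOf _
    · have h1 := congrArg hW.fromSpec h
      exact Subtype.ext ((f.fiberι (f x)).isEmbedding.injective
        ((hW.fromSpec_primeIdealOf ⟨_, (c i.castSucc).2⟩).symm.trans
          (h1.trans (hW.fromSpec_primeIdealOf ⟨_, (c i.succ).2⟩))))
  have h1 : (k : WithBot ℕ∞) ≤ ringKrullDim (p.asIdeal.Fiber Γ(X, W)) :=
    Order.le_krullDim_iff.mpr ⟨⟨k, fun i ↦ o ⟨P i, hP i⟩, fun i ↦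
      o.strictMono (show (⟨P i.castSucc, hP _⟩ : PrimeSpectrum.comap
        (algebraMap Γ(Y, V) Γ(X, W)) ⁻¹' {p}) < ⟨P i.succ, hP _⟩ from hlt i)⟩, rfl⟩
  rw [ringKrullDim_eq_of_finite_inj g hgi hgf] at h1
  exact ENat.natCast_le_natCast.mp (WithBot.coe_le_coe.mp h1)

/-- If the local dimension of the fibre at `x` is at most `e`, chains near `x` are that short. -/
theorem chain_bound_of_fibreDimAt_le (f : X ⟶ Y) (x : X) {e : ℕ}
    (h : FlatMor.fibreDimAt f x ≤ (e : WithBot ℕ∞)) :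
    ∃ U : X.Opens, x ∈ U ∧ ∀ (k : ℕ) (c : Fin (k + 1) → X),
      (∀ i, c i ∈ U ∧ f (c i) = f x) → IsChain' c → k ≤ e := by
  obtain ⟨⟨O, hO⟩, hdim⟩ : ∃ O : {O : Opens ↥(f.fiber (f x)) // f.asFiber x ∈ O},
      topologicalKrullDim (O.1 : Set ↥(f.fiber (f x))) ≤ (e : WithBot ℕ∞) := by
    by_contra hne
    simp only [not_exists] at hne
    have h1 : ((e + 1 : ℕ) : WithBot ℕ∞) ≤ FlatMor.fibreDimAt f x := le_iInf fun O ↦ by
      have h2 := not_le.mp (hne O)
      revert h2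
      generalize topologicalKrullDim (O.1 : Set ↥(f.fiber (f x))) = d
      cases d with
      | bot => exact fun h2 ↦ absurd h2 not_lt_bot
      | coe a =>
        intro h2
        refine WithBot.coe_le_coe.mpr ?_
        exact_mod_cast (ENat.add_one_le_iff (ENat.natCast_ne_top e)).mpr (WithBot.coe_lt_coe.mp h2)
    have h2 := ENat.natCast_le_natCast.mp (WithBot.coe_le_coe.mp (h1.trans h))
    omega
  obtain ⟨U', hU', hUO⟩ := (f.fiberι (f x)).isEmbedding.isInducing.isOpen_iff.mp O.2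
  let U : X.Opens := ⟨U', hU'⟩
  refine ⟨U, ?_, fun k c hcU hc ↦ ?_⟩
  · have : f.asFiber x ∈ f.fiberι (f x) ⁻¹' U' := hUO.symm ▸ hO
    simpa [U] using this
  · let d : Fin (k + 1) → ↥(f.fiber (f x)) := fun i ↦ (f.fiberHomeo (f x)).symm ⟨c i, (hcU i).2⟩
    have hjd : ∀ i, f.fiberι (f x) (d i) = c i := fun i ↦ Scheme.Hom.fiberι_fiberHomeo_symm _ _ _
    have hdO : ∀ i, d i ∈ O := fun i ↦ by
      show d i ∈ (O : Set ↥(f.fiber (f x)))
      rw [show (O : Set ↥(f.fiber (f x))) = f.fiberι (f x) ⁻¹' U' from hUO.symm, Set.mem_preimage, hjd]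
      exact (hcU i).1
    have : QuasiSober (O : Set ↥(f.fiber (f x))) := O.2.isOpenEmbedding_subtypeVal.quasiSober
    have h1 := natCast_le_topologicalKrullDim (α := (O : Set ↥(f.fiber (f x))))
      (fun i ↦ ⟨d i, hdO i⟩) fun i ↦ ⟨(subtype_specializes_iff _ _).mpr (by
        rw [← (f.fiberι (f x)).isEmbedding.isInducing.specializes_iff]
        simp only [hjd]; exact (hc i).1), fun h ↦ (hc i).2 (by
        rw [← hjd, ← hjd]; exact congrArg _ (congrArg Subtype.val h))⟩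
    exact ENat.natCast_le_natCast.mp (WithBot.coe_le_coe.mp (h1.trans hdim))

end Groth.Agent.Unibranch
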