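import Groth.Agent.Unibranch.Affine
import Groth.Agent.SerreReg.MiracleFinite

/-!
# Quasi-finite factorisations through affine space
-/

universe u

open PrimeSpectrum TensorProduct

namespace Groth.Agent.Unibranch

/-- A finite injective map from a polynomial ring over a field computes the dimension. -/
theorem ringKrullDim_eq_of_finite_inj {K D : Type u} [Field K] [CommRing D] [Algebra K D] {s : ℕ}
    (g : MvPolynomial (Fin s) K →ₐ[K] D) (hgi : Function.Injective g) (hgf : g.Finite) :
    ringKrullDim D = s := by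
  letI := g.toRingHom.toAlgebra
  haveI : Module.Finite (MvPolynomial (Fin s) K) D := hgf
  haveI : Algebra.IsIntegral (MvPolynomial (Fin s) K) D := Algebra.IsIntegral.of_finite _ _
  have h1 : ringKrullDim D ≤ ringKrullDim (MvPolynomial (Fin s) K) :=
    Order.krullDim_le_of_strictMono (PrimeSpectrum.comap g.toRingHom) fun a b hab ↦
      Ideal.IsIntegral.comap_lt_comap (R := MvPolynomial (Fin s) K) hab
  have h2 := SerreReg.ringKrullDim_le_of_isIntegral (R := MvPolynomial (Fin s) K) (A := D) hgi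
  rw [MvPolynomial.ringKrullDim_of_isNoetherianRing, ringKrullDim_eq_zero_of_field, zero_add,
    Nat.card_fin] at h1 h2
  exact h1.antisymm h2

variable {A B : Type u} [CommRing A] [CommRing B] [Algebra A B] [Algebra.FiniteType A B]

/-- Chains of primes in the fibre ring are chains of primes over `p`. -/
theorem length_le_of_fiber (p : PrimeSpectrum A) {e : ℕ}
    (he : ∀ l : LTSeries (PrimeSpectrum B), (∀ i, comap (algebraMap A B) (l i) = p) → l.length ≤ e)
    (l : LTSeries (PrimeSpectrum (p.asIdeal.Fiber B))) : l.length ≤ e := by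
  let o := (PrimeSpectrum.preimageOrderIsoFiber A B p).symm
  exact he (l.map (fun q ↦ (o q).1) fun a b h ↦ o.strictMono h) fun i ↦ (o (l i)).2

/-- Local Noether normalisation: if the fibre through `n` has dimension at most `e`, then `B` is
quasi-finite at `n` over a polynomial ring in `e` variables. -/
theorem exists_quasiFiniteAt_aeval (n : PrimeSpectrum B) {e : ℕ}
    (he : ∀ l : LTSeries (PrimeSpectrum B),
      (∀ i, comap (algebraMap A B) (l i) = comap (algebraMap A B) n) → l.length ≤ e) :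
    ∃ t : ULift.{u} (Fin e) → B,
      letI := (MvPolynomial.aeval (R := A) t).toRingHom.toAlgebra
      Algebra.QuasiFiniteAt (MvPolynomial (ULift.{u} (Fin e)) A) n.asIdeal := by
  let p := comap (algebraMap A B) n
  let k := p.asIdeal.ResidueField
  let C := p.asIdeal.Fiber B
  let oi := PrimeSpectrum.preimageOrderIsoFiber A B p
  let n₁ : PrimeSpectrum C := oi ⟨n, rfl⟩
  have : Nontrivial C := PrimeSpectrum.nonempty_iff_nontrivial.mp ⟨n₁⟩
  obtain ⟨s, g, hgi, hgf⟩ := exists_finite_inj_algHom_of_fg k C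
  -- the number of variables is at most `e`
  have hs : s ≤ e := by
    by_contra hse
    have h2 : ((e + 1 : ℕ) : WithBot ℕ∞) ≤ ringKrullDim C :=
      by rw [ringKrullDim_eq_of_finite_inj g hgi hgf]; exact_mod_cast Nat.lt_iff_add_one_le.mp (not_le.mp hse)
    obtain ⟨l, hl⟩ := Order.le_krullDim_iff.mp h2
    have := length_le_of_fiber p he l
    omega
  -- clear denominators
  choose r hr b hb using fun i : Fin s ↦
    Ideal.Fiber.exists_smul_eq_one_tmul p.asIdeal (g (MvPolynomial.X i))
  let t : ULift.{u} (Fin e) → B := fun i ↦ if h : (i.down : ℕ) < s then b ⟨i.down, h⟩ else 0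
  refine ⟨t, ?_⟩
  letI := (MvPolynomial.aeval (R := A) t).toRingHom.toAlgebra
  let M := MvPolynomial (ULift.{u} (Fin e)) A
  haveI : IsScalarTower A M B :=
    IsScalarTower.of_algebraMap_eq fun a ↦ ((MvPolynomial.aeval (R := A) t).commutes a).symm
  haveI : Algebra.FiniteType M B := Algebra.FiniteType.of_restrictScalars_finiteType A M B
  let N := MvPolynomial (ULift.{u} (Fin e)) k
  let γ : N →ₐ[k] C := MvPolynomial.aeval fun i ↦ (1 : k) ⊗ₜ[A] t i
  let inc : B →+* C := (Algebra.TensorProduct.includeRight : B →ₐ[A] C).toRingHom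
  have hγ : ∀ i, γ (MvPolynomial.X i) = (1 : k) ⊗ₜ[A] t i := fun i ↦ MvPolynomial.aeval_X _ _
  have hrk : ∀ {x : A}, x ∉ p.asIdeal → algebraMap A k x ≠ 0 := fun hx h ↦
    hx (Ideal.algebraMap_residueField_eq_zero.mp h)
  have hgγ : g.range ≤ γ.range := by
    rw [← Algebra.map_top, ← MvPolynomial.adjoin_range_X, Subalgebra.map_le, Algebra.adjoin_le_iff]
    rintro _ ⟨i, rfl⟩
    show g (MvPolynomial.X i) ∈ γ.range
    have h1 : ((1 : k) ⊗ₜ[A] b i : C) ∈ γ.range := by
      refine ⟨MvPolynomial.X ⟨Fin.castLE hs i⟩, (hγ _).trans ?_⟩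
      simp [t]
    have h3 : algebraMap A k (r i) • g (MvPolynomial.X i) = (1 : k) ⊗ₜ[A] b i := by
      rw [algebraMap_smul]; exact hb i
    rw [← inv_smul_smul₀ (hrk (hr i)) (g (MvPolynomial.X i)), h3]
    exact γ.range.smul_mem h1 _
  have hγf : γ.toRingHom.Finite := by
    letI := g.toRingHom.toAlgebra
    have : Module.Finite (MvPolynomial (Fin s) k) C := hgf
    obtain ⟨S, hS⟩ := this.fg_top
    letI := γ.toRingHom.toAlgebra
    refine ⟨⟨S, ?_⟩⟩
    rw [eq_top_iff]
    intro x _
    have hx : x ∈ Submodule.span (MvPolynomial (Fin s) k) (S : Set C) := hS ▸ Submodule.mem_top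
    induction hx using Submodule.span_induction with
    | mem x hx => exact Submodule.subset_span hx
    | zero => exact Submodule.zero_mem _
    | add x y _ _ hx hy => exact Submodule.add_mem _ (hx trivial) (hy trivial)
    | smul a x _ hx =>
      obtain ⟨a', ha'⟩ := hgγ ⟨a, rfl⟩
      have : a • x = a' • x := by
        rw [Algebra.smul_def, Algebra.smul_def]
        exact congrArg (· * x) ha'.symm
      rw [this]
      exact Submodule.smul_mem _ _ (hx trivial)
  -- every element of `N` comes from `M` up to a unit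
  have hN : ∀ f : N, ∃ a ∉ p.asIdeal, ∃ f₀ : M,
      MvPolynomial.map (algebraMap A k) f₀ = MvPolynomial.C (algebraMap A k a) * f := by
    intro f
    induction f using MvPolynomial.induction_on with
    | C z =>
      obtain ⟨x, y, hy, rfl⟩ := IsFractionRing.div_surjective (A := A ⧸ p.asIdeal) z
      obtain ⟨c, rfl⟩ := Ideal.Quotient.mk_surjective x
      obtain ⟨a, rfl⟩ := Ideal.Quotient.mk_surjective y
      have ha : a ∉ p.asIdeal := fun h ↦
        nonZeroDivisors.ne_zero hy (Ideal.Quotient.eq_zero_iff_mem.mpr h)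
      refine ⟨a, ha, MvPolynomial.C c, ?_⟩
      rw [MvPolynomial.map_C, ← map_mul, ← Ideal.Quotient.algebraMap_eq,
        ← IsScalarTower.algebraMap_apply, ← IsScalarTower.algebraMap_apply,
        mul_div_cancel₀ _ (hrk ha)]
    | add f f' hf hf' =>
      obtain ⟨a, ha, f₀, h₀⟩ := hf
      obtain ⟨a', ha', f₁, h₁⟩ := hf'
      refine ⟨a * a', fun h ↦ (p.isPrime.mem_or_mem h).elim ha ha',
        MvPolynomial.C a' * f₀ + MvPolynomial.C a * f₁, ?_⟩
      rw [map_add, map_mul, map_mul, h₀, h₁, MvPolynomial.map_C, MvPolynomial.map_C, map_mul, map_mul]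
      ring
    | mul_X f i hf =>
      obtain ⟨a, ha, f₀, h₀⟩ := hf
      exact ⟨a, ha, f₀ * MvPolynomial.X i, by rw [map_mul, h₀, MvPolynomial.map_X, mul_assoc]⟩
  have hcomm : inc.comp (algebraMap M B) = γ.toRingHom.comp (MvPolynomial.map (algebraMap A k)) := by
    refine MvPolynomial.ringHom_ext (fun a ↦ ?_) (fun i ↦ ?_)
    · show (1 : k) ⊗ₜ[A] MvPolynomial.aeval t (MvPolynomial.C a) =
        γ (MvPolynomial.map _ (MvPolynomial.C a))
      rw [MvPolynomial.map_C, MvPolynomial.aeval_C, MvPolynomial.aeval_C,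
        Algebra.TensorProduct.algebraMap_apply, Algebra.algebraMap_eq_smul_one,
        ← TensorProduct.smul_tmul, Algebra.smul_def, mul_one]
      rfl
    · show (1 : k) ⊗ₜ[A] MvPolynomial.aeval t (MvPolynomial.X i) =
        γ (MvPolynomial.map _ (MvPolynomial.X i))
      rw [MvPolynomial.map_X, MvPolynomial.aeval_X, hγ]
  -- primes in the fibre over `n ∩ M` form a finite discrete set
  let T := comap (algebraMap M B) ⁻¹' {comap (algebraMap M B) n}
  have hTp : ∀ q ∈ T, comap (algebraMap A B) q = p := fun q hq ↦ by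
    show _ = comap (algebraMap A B) n
    rw [IsScalarTower.algebraMap_eq A M B, comap_comp_apply, comap_comp_apply,
      show comap (algebraMap M B) q = comap (algebraMap M B) n from hq]
  have hoi : ∀ (q : PrimeSpectrum B) (hq : comap (algebraMap A B) q = p),
      comap inc (oi ⟨q, hq⟩) = q := fun q hq ↦ congrArg Subtype.val (oi.symm_apply_apply ⟨q, hq⟩)
  have hsame : ∀ q ∈ T, ∀ hq, comap γ.toRingHom (oi ⟨q, hq⟩) = comap γ.toRingHom n₁ := by
    intro q hqT hq
    have h1 : comap (MvPolynomial.map (algebraMap A k)) (comap γ.toRingHom (oi ⟨q, hq⟩)) =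
        comap (MvPolynomial.map (algebraMap A k)) (comap γ.toRingHom n₁) := by
      rw [← comap_comp_apply, ← comap_comp_apply, ← hcomm, comap_comp_apply, comap_comp_apply,
        hoi q hq, hoi n rfl]
      exact hqT
    have hu : ∀ (Q : PrimeSpectrum N) (f : N) (a : A) (f₀ : M), a ∉ p.asIdeal →
        MvPolynomial.map (algebraMap A k) f₀ = MvPolynomial.C (algebraMap A k a) * f →
        (f ∈ Q.asIdeal ↔ f₀ ∈ (comap (MvPolynomial.map (algebraMap A k)) Q).asIdeal) := by
      intro Q f a f₀ ha hf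
      show _ ↔ MvPolynomial.map (algebraMap A k) f₀ ∈ Q.asIdeal
      rw [hf,
        Ideal.unit_mul_mem_iff_mem _ ((IsUnit.mk0 _ (hrk ha)).map MvPolynomial.C)]
    refine PrimeSpectrum.ext (Ideal.ext fun f ↦ ?_)
    obtain ⟨a, ha, f₀, hf₀⟩ := hN f
    rw [hu _ f a f₀ ha hf₀, hu _ f a f₀ ha hf₀, h1]
  algebraize [γ.toRingHom]
  haveI : Module.Finite N C := hγf
  haveI : Algebra.IsIntegral N C := Algebra.IsIntegral.of_finite _ _
  haveI : Algebra.QuasiFinite N C := inferInstance
  have hfin : T.Finite := by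
    refine ((Algebra.QuasiFinite.finite_comap_preimage_singleton
      (comap γ.toRingHom n₁)).image (comap inc)).subset fun q hq ↦ ?_
    exact ⟨oi ⟨q, hTp q hq⟩, hsame q hq _, hoi q _⟩
  have hinc : ∀ q ∈ T, q ≤ n → q = n := by
    intro q hq hqn
    by_contra hne
    have hlt : oi ⟨q, hTp q hq⟩ < n₁ := oi.lt_iff_lt.mpr (lt_of_le_of_ne (show (⟨q, hTp q hq⟩ : comap (algebraMap A B) ⁻¹' {p}) ≤ ⟨n, rfl⟩ from hqn) fun h ↦ hne (congrArg Subtype.val h))
    have := Ideal.IsIntegral.comap_lt_comap (R := N) hlt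
    exact this.ne (congrArg PrimeSpectrum.asIdeal (hsame q hq _))
  refine Algebra.QuasiFiniteAt.of_isOpen_singleton_fiber n ?_
  rw [isOpen_induced_iff]
  refine ⟨(⋃ q ∈ T \ {n}, closure {q})ᶜ,
    ((hfin.subset Set.sdiff_subset).isClosed_biUnion fun q _ ↦ isClosed_closure).isOpen_compl, ?_⟩
  ext ⟨q, hq⟩
  simp only [Set.mem_preimage, Set.mem_compl_iff, Set.mem_singleton_iff, Subtype.mk.injEq]
  constructor
  · intro h
    by_contra hne
    exact h (Set.mem_biUnion (x := q) ⟨hq, fun h' ↦ hne (by first | exact h' | exact Subtype.ext h')⟩ (subset_closure rfl))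
  · intro he' h
    obtain rfl : q = n := by first | exact he' | exact congrArg Subtype.val he'
    obtain ⟨q', ⟨hq', hne⟩, hcl⟩ := Set.mem_iUnion₂.mp h
    exact hne (hinc q' hq' ((le_iff_mem_closure _ _).mpr hcl))

/-- Lower bound for the transcendence degree by the length of a chain of primes. -/
theorem exists_algebraicIndependent_of_ltSeries {L : Type u} [Field L] [Algebra A L] (ι : B →ₐ[A] L)
    (l : LTSeries (PrimeSpectrum B))
    (hl : ∀ i, (comap (algebraMap A B) (l i)).asIdeal = RingHom.ker (algebraMap A L))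
    (hhead : RingHom.ker ι.toRingHom ≤ (l 0).asIdeal)
    [Algebra (A ⧸ RingHom.ker (algebraMap A L)) L]
    [IsScalarTower A (A ⧸ RingHom.ker (algebraMap A L)) L] :
    (l.length : Cardinal.{u}) ≤ Algebra.trdeg (A ⧸ RingHom.ker (algebraMap A L)) L := by
  let p₀ := RingHom.ker (algebraMap A L)
  have : p₀.IsPrime := RingHom.ker_isPrime _
  let p : PrimeSpectrum A := ⟨p₀, this⟩
  let K := p₀.ResidueField
  let κ : K →ₐ[A] L := Ideal.ResidueField.liftₐ p₀ (Algebra.ofId A L) le_rfl
    fun x (hx : x ∉ p₀) ↦ IsUnit.mk0 (algebraMap A L x) hx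
  letI := κ.toRingHom.toAlgebra
  haveI : IsScalarTower A K L := IsScalarTower.of_algebraMap_eq fun a ↦ (κ.commutes a).symm
  let C := p₀.Fiber B
  let lam : C →ₐ[K] L := Algebra.TensorProduct.lift (Algebra.ofId K L) ι fun _ _ ↦ .all _ _
  let P := RingHom.ker lam.toRingHom
  haveI : P.IsPrime := RingHom.ker_isPrime _
  let D := C ⧸ P
  haveI : IsDomain D := Ideal.Quotient.isDomain P
  let oi := PrimeSpectrum.preimageOrderIsoFiber A B p
  have hlp : ∀ i, comap (algebraMap A B) (l i) = p := fun i ↦ PrimeSpectrum.ext (hl i)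
  let l' : LTSeries (PrimeSpectrum C) :=
    ⟨l.length, fun i ↦ oi ⟨l i, hlp i⟩, fun i ↦ oi.strictMono (show (⟨l i.castSucc, hlp _⟩ :
      comap (algebraMap A B) ⁻¹' {p}) < ⟨l i.succ, hlp _⟩ from l.step i)⟩
  have hP : ∀ i, P ≤ (l' i).asIdeal := by
    intro i
    have h0 : P ≤ (l' 0).asIdeal := by
      let P₁ : PrimeSpectrum C := ⟨P, inferInstance⟩
      have h1 : comap (algebraMap A B) (oi.symm P₁).1 = p := (oi.symm P₁).2
      have h2 : oi.symm P₁ ≤ ⟨l 0, hlp 0⟩ := by
        show ((oi.symm P₁).1).asIdeal ≤ (l 0).asIdeal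
        refine le_trans (fun x hx ↦ ?_) hhead
        have hx' : lam ((1 : K) ⊗ₜ[A] x) = 0 := hx
        have h3 : lam ((1 : K) ⊗ₜ[A] x) = Algebra.ofId K L 1 * ι x :=
          Algebra.TensorProduct.lift_tmul _ _ _ _ _
        rw [h3, map_one, one_mul] at hx'
        exact hx'
      have := oi.monotone h2
      rwa [oi.apply_symm_apply] at this
    exact h0.trans (show (l' 0).asIdeal ≤ (l' i).asIdeal from l'.monotone (Fin.zero_le _))
  have hsurj : Function.Surjective (Ideal.Quotient.mk P) := Ideal.Quotient.mk_surjective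
  have hl'' : (l.length : WithBot ℕ∞) ≤ ringKrullDim D := by
    let f : Fin (l.length + 1) → PrimeSpectrum D := fun i ↦
      ⟨(l' i).asIdeal.map (Ideal.Quotient.mk P),
        Ideal.map_isPrime_of_surjective hsurj (by rw [Ideal.mk_ker]; exact hP i)⟩
    refine Order.le_krullDim_iff.mpr ⟨⟨l.length, f, fun i ↦ ?_⟩, rfl⟩
    have h := l'.step i
    have hc : ∀ j, (f j).asIdeal.comap (Ideal.Quotient.mk P) = (l' j).asIdeal := fun j ↦ by
      rw [Ideal.comap_map_of_surjective _ hsurj, ← RingHom.ker_eq_comap_bot, Ideal.mk_ker,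
        sup_eq_left.mpr (hP j)]
    refine lt_of_le_of_ne (Ideal.map_mono h.le) fun e ↦ h.ne (PrimeSpectrum.ext ?_)
    have h5 := congrArg (Ideal.comap (Ideal.Quotient.mk P)) e
    exact (hc _).symm.trans (h5.trans (hc _))
  haveI : Algebra.FiniteType K D := .trans (R := K) (S := C) inferInstance inferInstance
  haveI : Nontrivial D := inferInstance
  obtain ⟨s, g, hgi, hgf⟩ := exists_finite_inj_algHom_of_fg K D
  have hs : l.length ≤ s := by
    have hd : ringKrullDim D = (s : WithBot ℕ∞) :=
      ringKrullDim_eq_of_finite_inj (K := K) (D := D) g hgi hgf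
    rw [hd] at hl''
    exact_mod_cast hl''
  let ψ : D →ₐ[K] L := Ideal.Quotient.liftₐ P lam fun x hx ↦ hx
  have hψ : Function.Injective ψ := by
    rw [injective_iff_map_eq_zero]
    intro x hx
    obtain ⟨x, rfl⟩ := Ideal.Quotient.mk_surjective x
    exact Ideal.Quotient.eq_zero_iff_mem.mpr hx
  have hind : AlgebraicIndependent K fun i : Fin s ↦ ψ (g (MvPolynomial.X i)) := by
    rw [algebraicIndependent_iff_injective_aeval]
    have : MvPolynomial.aeval (fun i : Fin s ↦ ψ (g (MvPolynomial.X i))) = ψ.comp g :=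
      MvPolynomial.algHom_ext fun i ↦ by simp
    rw [this]
    exact hψ.comp hgi
  haveI hT : IsScalarTower (A ⧸ p₀) K L := IsScalarTower.of_algebraMap_eq fun x ↦ by
    obtain ⟨a, rfl⟩ := Ideal.Quotient.mk_surjective x
    rw [← Ideal.Quotient.algebraMap_eq, ← IsScalarTower.algebraMap_apply A (A ⧸ p₀) L,
      ← IsScalarTower.algebraMap_apply A (A ⧸ p₀) K, ← IsScalarTower.algebraMap_apply A K L]
  have := (hind.restrictScalars (R := A ⧸ p₀) (IsFractionRing.injective (A ⧸ p₀) K)).lift_cardinalMk_le_trdeg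
  simp only [Cardinal.mk_fin, Cardinal.lift_natCast, Cardinal.lift_id'] at this
  exact le_trans (by exact_mod_cast hs) this

/-- A quasi-finite factorisation with enough transcendence degree is generically dominant. -/
theorem ker_eq_of_quasiFiniteAt {σ L : Type u} [Finite σ] [Field L] [Algebra A L] (ι : B →ₐ[A] L)
    (hfrac : ∀ x : L, ∃ b c : B, ι c ≠ 0 ∧ x * ι c = ι b) (t : σ → B)
    (q₀ : Ideal B) [q₀.IsPrime] (hq₀ : RingHom.ker ι.toRingHom = q₀)
    (hqf : letI := (MvPolynomial.aeval (R := A) t).toRingHom.toAlgebra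
      Algebra.QuasiFiniteAt (MvPolynomial σ A) q₀)
    [Algebra (A ⧸ RingHom.ker (algebraMap A L)) L]
    [IsScalarTower A (A ⧸ RingHom.ker (algebraMap A L)) L]
    (htr : Cardinal.mk σ ≤ Algebra.trdeg (A ⧸ RingHom.ker (algebraMap A L)) L) :
    (q₀.comap (MvPolynomial.aeval (R := A) t).toRingHom) =
      (q₀.under A).map (MvPolynomial.C : A →+* MvPolynomial σ A) := by
  let p₀ := RingHom.ker (algebraMap A L)
  have : p₀.IsPrime := RingHom.ker_isPrime _
  letI := (MvPolynomial.aeval (R := A) t).toRingHom.toAlgebra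
  let M := MvPolynomial σ A
  haveI : IsScalarTower A M B :=
    IsScalarTower.of_algebraMap_eq fun a ↦ ((MvPolynomial.aeval (R := A) t).commutes a).symm
  haveI : Algebra.FiniteType M B := Algebra.FiniteType.of_restrictScalars_finiteType A M B
  haveI := hqf
  let R := A ⧸ p₀
  let ev : MvPolynomial σ R →ₐ[R] L := MvPolynomial.aeval fun i ↦ ι (t i)
  have hev : ev.toRingHom.comp (MvPolynomial.map (Ideal.Quotient.mk p₀)) =
      ι.toRingHom.comp (MvPolynomial.aeval (R := A) t).toRingHom := by
    refine MvPolynomial.ringHom_ext (fun a ↦ ?_) (fun i ↦ ?_)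
    · simp only [RingHom.comp_apply, MvPolynomial.map_C, AlgHom.toRingHom_eq_coe, RingHom.coe_coe,
        ev, MvPolynomial.aeval_C, AlgHom.commutes]
      exact (IsScalarTower.algebraMap_apply A R L a).symm
    · simp [ev]
  let S := Algebra.adjoin R (Set.range fun i ↦ ι (t i))
  obtain ⟨r, hr, hri, hrx⟩ := Algebra.zariskisMainProperty_iff.mp
    (Algebra.ZariskisMainProperty.of_finiteType (R := M) q₀)
  have hint : ∀ x : B, IsIntegral M x → IsIntegral S (ι x) := by
    intro x hx
    have hS : ∀ f : M, ι (MvPolynomial.aeval t f) ∈ S := fun f ↦ by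
      have := RingHom.congr_fun hev f
      simp only [RingHom.comp_apply, AlgHom.toRingHom_eq_coe, RingHom.coe_coe] at this
      rw [← this, show S = ev.range from Algebra.adjoin_range_eq_range_aeval R _]
      exact ⟨_, rfl⟩
    exact IsIntegral.map_of_comp_eq ((ι.toRingHom.comp (algebraMap M B)).codRestrict S.toSubring hS)
      ι.toRingHom (RingHom.ext fun _ ↦ rfl) hx
  have halg : Algebra.IsAlgebraic S L := by
    haveI : IsDomain S := inferInstance
    refine ⟨fun x ↦ ?_⟩
    obtain ⟨b, c, hc, hx⟩ := hfrac x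
    have hr0 : ι r ≠ 0 := fun h ↦ hr (hq₀ ▸ h)
    have hb : ∀ y : B, IsAlgebraic S (ι y) := fun y ↦ by
      obtain ⟨m, hm⟩ := hrx y
      have h1 : IsAlgebraic S (ι (r ^ m * y) * (ι r ^ m)⁻¹) :=
        (hint _ hm).isAlgebraic.mul ((hint _ hri).isAlgebraic.pow m).inv
      rwa [map_mul, map_pow, mul_comm (ι r ^ m), mul_assoc,
        mul_inv_cancel₀ (pow_ne_zero m hr0), mul_one] at h1
    have h2 := (hb b).mul (hb c).inv
    rwa [← hx, mul_assoc, mul_inv_cancel₀ hc, mul_one] at h2
  have hinj : Function.Injective ev := by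
    haveI := halg
    haveI : FaithfulSMul R L := by
      refine (faithfulSMul_iff_algebraMap_injective R L).mpr ((injective_iff_map_eq_zero _).mpr ?_)
      intro x hx
      obtain ⟨a, rfl⟩ := Ideal.Quotient.mk_surjective x
      rw [← Ideal.Quotient.algebraMap_eq, ← IsScalarTower.algebraMap_apply] at hx
      exact Ideal.Quotient.eq_zero_iff_mem.mpr hx
    exact (Algebra.IsAlgebraic.isTranscendenceBasis_of_le_trdeg_of_finite R (fun i ↦ ι (t i)) htr).1
  have hp : q₀.under A = p₀ := by
    ext a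
    rw [← hq₀]
    show ι (algebraMap A B a) = 0 ↔ algebraMap A L a = 0
    rw [AlgHom.commutes]
  rw [hp, ← hq₀, RingHom.comap_ker, ← hev, ← RingHom.comap_ker,
    (RingHom.injective_iff_ker_eq_bot ev.toRingHom).mp hinj, ← RingHom.ker_eq_comap_bot, MvPolynomial.ker_map,
    Ideal.mk_ker]

end Groth.Agent.Unibranch
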