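import Groth.Agent.Unibranch.FibreChains
import Groth.Agent.GoingDown.Scheme

/-!
# Lifting generisations keeping the dimension of fibres
-/

universe u

open CategoryTheory AlgebraicGeometry Limits Topology TopologicalSpace TensorProduct

namespace Groth.Agent.Unibranch

variable {X Y : Scheme.{u}}

/-- Universal openness gives openness. -/
theorem isOpenAt_of_isUnivOpenAt (f : X ⟶ Y) (x : X) (H : EGA43.IsUnivOpenAt f x) :
    EGA43.IsOpenAt f x := by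
  intro U hU
  have hpt : ∀ q : ↥(pullback f (𝟙 Y)), f (pullback.fst f (𝟙 Y) q) = pullback.snd f (𝟙 Y) q :=
    fun q ↦ by rw [← Scheme.Hom.comp_apply, pullback.condition, Category.comp_id]
  obtain ⟨x', hx₁, hx₂⟩ :=
    Scheme.Pullback.exists_preimage_pullback (f := f) (g := 𝟙 Y) x (f x) rfl
  have h1 := H Y (𝟙 Y) x' hx₁ (pullback.fst f (𝟙 Y) ⁻¹' U)
    ((pullback.fst f (𝟙 Y)).continuous.continuousAt.preimage_mem_nhds (hx₁.symm ▸ hU))
  rw [hx₂] at h1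
  refine Filter.mem_of_superset h1 ?_
  rintro _ ⟨w, hw, rfl⟩
  exact ⟨_, hw, hpt w⟩

/-- Generisations of the image lift to generisations at points of openness. -/
theorem exists_specializes_of_isOpenAt (f : X ⟶ Y) {z : X} (H : EGA43.IsOpenAt f z) {η : Y}
    (hη : η ⤳ f z) : ∃ ζ, ζ ⤳ z ∧ f ζ = η := by
  obtain ⟨V, W, hV, hW, hzW, hWV, -⟩ := exists_chart_le f (U := ⊤) (x := z) trivial
  let := (f.appLE V W hWV).hom.toAlgebra
  let n := hW.primeIdealOf ⟨z, hzW⟩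
  have hηV : η ∈ V := hη.mem_open V.2 (hWV hzW)
  have hn : PrimeSpectrum.comap (algebraMap Γ(Y, V) Γ(X, W)) n =
      hV.primeIdealOf ⟨f z, hWV hzW⟩ :=
    IsAffineOpen.comap_primeIdealOf_appLE V hV W hW hWV hzW
  obtain ⟨q, hq, hqp⟩ := exists_le_of_mem_nhds (R := Γ(Y, V)) n (fun s hs ↦ by
      have h0 := hW.fromSpec.isOpenEmbedding.isOpenMap.image_mem_nhds hs
      rw [hW.fromSpec_primeIdealOf] at h0
      have h1 := H _ h0
      rw [hn]
      refine Filter.mem_of_superset (hV.fromSpec.continuous.continuousAt.preimage_mem_nhds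
        (show f '' (hW.fromSpec '' s) ∈ nhds (hV.fromSpec (hV.primeIdealOf ⟨f z, hWV hzW⟩)) by
          rw [hV.fromSpec_primeIdealOf]; exact h1)) ?_
      rintro p ⟨_, ⟨a, ha, rfl⟩, hap⟩
      exact ⟨a, ha, hV.fromSpec.isOpenEmbedding.injective
        ((fromSpec_comap_appLE f hV hW hWV a).trans hap)⟩)
    (hV.primeIdealOf ⟨η, hηV⟩) (by rw [hn]; exact (primeIdealOf_le_iff hV _ _).mpr hη)
  refine ⟨hW.fromSpec q, ?_, ?_⟩
  · have := ((PrimeSpectrum.le_iff_specializes _ _).mp hq).map hW.fromSpec.continuous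
    rwa [hW.fromSpec_primeIdealOf] at this
  · rw [← fromSpec_comap_appLE f hV hW hWV]
    exact (congrArg hV.fromSpec hqp).trans (hV.fromSpec_primeIdealOf _)

theorem hasChain_closure_of_genAt (f : X ⟶ Y) [LocallyOfFiniteType f] {V : Y.Opens} {W : X.Opens}
    (hV : IsAffineOpen V) (hW : IsAffineOpen W) (hWV : W ≤ f ⁻¹ᵁ V) {z : X} (hzW : z ∈ W) {η : Y}
    (hηV : η ∈ V) (q : PrimeSpectrum Γ(X, W))
    (hq : q.asIdeal ≤ (hW.primeIdealOf ⟨z, hzW⟩).asIdeal)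
    (hqp : letI := (f.appLE V W hWV).hom.toAlgebra
      q.asIdeal.under Γ(Y, V) = (hV.primeIdealOf ⟨η, hηV⟩).asIdeal)
    {σ : Type u} [Finite σ] (t : σ → Γ(X, W))
    (hcard : rdimIn f hW hWV z hzW ≤ Nat.card σ)
    (hgen : letI := (f.appLE V W hWV).hom.toAlgebra
      GenAt (A := Γ(Y, V)) t q.asIdeal) :
    ∃ ζ, ζ ⤳ z ∧ f ζ = η ∧
      ∀ k, HasChain f (closure {z}) (f z) k → HasChain f (closure {ζ}) η k := by
  let := (f.appLE V W hWV).hom.toAlgebra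
  have : Algebra.FiniteType Γ(Y, V) Γ(X, W) := f.finiteType_appLE hV hW hWV
  have hζ : hW.fromSpec q ∈ W := hW.range_fromSpec.le ⟨q, rfl⟩
  have hfζ : f (hW.fromSpec q) = η := by
    rw [← fromSpec_comap_appLE f hV hW hWV]
    exact (congrArg hV.fromSpec (PrimeSpectrum.ext hqp)).trans (hV.fromSpec_primeIdealOf ⟨η, hηV⟩)
  refine ⟨hW.fromSpec q, ?_, hfζ, fun k hk ↦ ?_⟩
  · have := ((PrimeSpectrum.le_iff_specializes _ _).mp hq).map hW.fromSpec.continuous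
    rwa [hW.fromSpec_primeIdealOf] at this
  have hqe : hW.primeIdealOf ⟨hW.fromSpec q, hζ⟩ = q :=
    hW.fromSpec.isOpenEmbedding.injective (hW.fromSpec_primeIdealOf _)
  have h1 : k ≤ rdimIn f hW hWV (hW.fromSpec q) hζ := by
    refine le_trans (hk.le (chainsLE_of_specializes f specializes_rfl hzW
      (chainsLE_rdimIn hV hW hWV hzW))) (hcard.trans ?_)
    show Nat.card σ ≤ rdim Γ(Y, V) _
    rw [hqe]
    exact hgen.card_le
  rw [← hfζ]
  exact ((hasChain_rdimIn hV hW hWV hζ).mono Set.inter_subset_right).anti h1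

/-- A point of universal openness lifts generisations keeping the dimension of the fibre. -/
theorem exists_hasChain_of_isUnivOpenAt (f : X ⟶ Y) [LocallyOfFiniteType f] {z : X}
    (H : EGA43.IsUnivOpenAt f z) {η : Y} (hη : η ⤳ f z) :
    ∃ ζ, ζ ⤳ z ∧ f ζ = η ∧
      ∀ k, HasChain f (closure {z}) (f z) k → HasChain f (closure {ζ}) η k := by
  obtain ⟨V, W, hV, hW, hzW, hWV, -⟩ := exists_chart_le f (U := ⊤) (x := z) trivial
  let := (f.appLE V W hWV).hom.toAlgebra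
  have : Algebra.FiniteType Γ(Y, V) Γ(X, W) := f.finiteType_appLE hV hW hWV
  let n := hW.primeIdealOf ⟨z, hzW⟩
  have hηV : η ∈ V := hη.mem_open V.2 (hWV hzW)
  have hn : n.asIdeal.under Γ(Y, V) = (hV.primeIdealOf ⟨f z, hWV hzW⟩).asIdeal :=
    congrArg PrimeSpectrum.asIdeal (IsAffineOpen.comap_primeIdealOf_appLE V hV W hW hWV hzW)
  obtain ⟨t, -, ht⟩ := exists_genAt (A := Γ(Y, V)) n.asIdeal
  obtain ⟨q, hqn, hqp, hgen⟩ := exists_genAt_of_univOpen n (fun D _ _ P hP s hs ↦ by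
      let g : Spec (CommRingCat.of D) ⟶ Y :=
        Spec.map (CommRingCat.ofHom (algebraMap Γ(Y, V) D)) ≫ hV.fromSpec
      obtain ⟨j, hj, hjfst, hjsnd, -⟩ := GoingDown.exists_chart (f := f) (g := g) (A := Γ(Y, V))
        (B := Γ(X, W)) (D := D) hW.fromSpec hV.fromSpec (𝟙 _)
        (IsAffineOpen.SpecMap_appLE_fromSpec f hV hW hWV).symm (Category.id_comp _)
      have hkey : ∀ Q, pullback.snd f g (j Q) = PrimeSpectrum.comap (algebraMap D _) Q := fun Q ↦ by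
        rw [← Scheme.Hom.comp_apply, hjsnd, Category.comp_id]
        rfl
      have hjP : pullback.fst f g (j P) = z :=
        ((Scheme.Hom.comp_apply _ _ _).symm.trans ((congr($hjfst P)).trans
          (Scheme.Hom.comp_apply _ _ _))).trans
          ((congrArg hW.fromSpec hP).trans (hW.fromSpec_primeIdealOf ⟨z, hzW⟩))
      have h1 := H _ g (j P) hjP _ (j.isOpenEmbedding.isOpenMap.image_mem_nhds hs)
      rw [hkey] at h1
      refine Filter.mem_of_superset h1 ?_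
      rintro _ ⟨_, ⟨Q, hQ, rfl⟩, rfl⟩
      exact ⟨Q, hQ, (hkey Q).symm⟩) t ht
    (hV.primeIdealOf ⟨η, hηV⟩).asIdeal (by
      rw [hn]
      exact (primeIdealOf_le_iff hV _ _).mpr hη)
  exact hasChain_closure_of_genAt f hV hW hWV hzW hηV q hqn hqp t
    (by rw [Nat.card_eq_fintype_card, Fintype.card_ulift, Fintype.card_fin]; rfl) hgen

/-- Over a locally Noetherian base, lifting generisations already keeps the dimension of the fibre. -/
theorem exists_hasChain_of_lifts [IsLocallyNoetherian Y] (f : X ⟶ Y) [LocallyOfFiniteType f] {z : X}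
    {η : Y} (hη : η ⤳ f z) (hmax : ∀ y, y ⤳ η → y = η)
    (H : ∀ η', η ⤳ η' → η' ⤳ f z → ∃ ζ, ζ ⤳ z ∧ f ζ = η') :
    ∃ ζ, ζ ⤳ z ∧ f ζ = η ∧
      ∀ k, HasChain f (closure {z}) (f z) k → HasChain f (closure {ζ}) η k := by
  obtain ⟨V, W, hV, hW, hzW, hWV, -⟩ := exists_chart_le f (U := ⊤) (x := z) trivial
  let := (f.appLE V W hWV).hom.toAlgebra
  have : Algebra.FiniteType Γ(Y, V) Γ(X, W) := f.finiteType_appLE hV hW hWV
  have : IsNoetherianRing Γ(Y, V) := IsLocallyNoetherian.component_noetherian ⟨V, hV⟩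
  let n := hW.primeIdealOf ⟨z, hzW⟩
  have hηV : η ∈ V := hη.mem_open V.2 (hWV hzW)
  have hn : n.asIdeal.under Γ(Y, V) = (hV.primeIdealOf ⟨f z, hWV hzW⟩).asIdeal :=
    congrArg PrimeSpectrum.asIdeal (IsAffineOpen.comap_primeIdealOf_appLE V hV W hW hWV hzW)
  have hp : ∀ {y : Y} (hy : y ∈ V) (p : PrimeSpectrum Γ(Y, V)),
      (p.asIdeal ≤ (hV.primeIdealOf ⟨y, hy⟩).asIdeal ↔ hV.fromSpec p ⤳ y) ∧
      ((hV.primeIdealOf ⟨y, hy⟩).asIdeal ≤ p.asIdeal ↔ y ⤳ hV.fromSpec p) := by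
    intro y hy p
    refine ⟨?_, ?_⟩ <;>
      refine ((PrimeSpectrum.asIdeal_le_asIdeal _ _).trans (PrimeSpectrum.le_iff_specializes _ _)).trans
        (hV.fromSpec.isOpenEmbedding.isInducing.specializes_iff.symm.trans ?_) <;>
      rw [hV.fromSpec_primeIdealOf]
  obtain ⟨t, hgent, -⟩ := exists_genAt (A := Γ(Y, V)) n.asIdeal
  obtain ⟨q, hqn, hqp, hgen⟩ := exists_genAt_of_lifts n t hgent (hV.primeIdealOf ⟨η, hηV⟩).asIdeal
    ⟨⟨(hV.primeIdealOf ⟨η, hηV⟩).2, bot_le⟩, fun J hJ hJle ↦ by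
      let p : PrimeSpectrum Γ(Y, V) := ⟨J, hJ.1⟩
      have h1 := hmax _ ((hp hηV p).1.mp hJle)
      exact ((hp hηV p).2.mpr (specializes_of_eq h1.symm))⟩
    (by rw [hn]; exact (primeIdealOf_le_iff hV _ _).mpr hη)
    fun J hJ hle hJle ↦ by
      let p : PrimeSpectrum Γ(Y, V) := ⟨J, hJ⟩
      obtain ⟨ζ, hζz, hζ⟩ := H (hV.fromSpec p) ((hp hηV p).2.mp hle)
        ((hp (hWV hzW) p).1.mp (hn ▸ hJle))
      have hζW : ζ ∈ W := hζz.mem_open W.2 hzW
      refine ⟨hW.primeIdealOf ⟨ζ, hζW⟩, (primeIdealOf_le_iff hW _ _).mpr hζz, ?_⟩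
      refine congrArg PrimeSpectrum.asIdeal (show PrimeSpectrum.comap (algebraMap Γ(Y, V) Γ(X, W))
        (hW.primeIdealOf ⟨ζ, hζW⟩) = p from ?_)
      refine (IsAffineOpen.comap_primeIdealOf_appLE V hV W hW hWV hζW).trans ?_
      apply hV.fromSpec.isOpenEmbedding.injective
      rw [hV.fromSpec_primeIdealOf]
      exact hζ
  exact hasChain_closure_of_genAt f hV hW hWV hzW hηV q hqn hqp t
    (by rw [Nat.card_eq_fintype_card, Fintype.card_ulift, Fintype.card_fin]; rfl) hgen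

/-- The points of a fibre in an affine open specialise from finitely many of its maximal points. -/
theorem exists_finite_maximal (f : X ⟶ Y) [LocallyOfFiniteType f] {V : Y.Opens} {W : X.Opens}
    (hV : IsAffineOpen V) (hW : IsAffineOpen W) (hWV : W ≤ f ⁻¹ᵁ V) (η : Y) :
    ∃ M : Set X, M.Finite ∧ (∀ m ∈ M, m ∈ W ∧ f m = η ∧ ∀ z, f z = η → z ⤳ m → z = m) ∧
      ∀ z ∈ W, f z = η → ∃ m ∈ M, m ⤳ z := by
  by_cases hηV : η ∈ V
  swap
  · refine ⟨∅, Set.finite_empty, by simp, fun z hz hfz ↦ absurd (hfz ▸ hWV hz) hηV⟩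
  let := (f.appLE V W hWV).hom.toAlgebra
  have : Algebra.FiniteType Γ(Y, V) Γ(X, W) := f.finiteType_appLE hV hW hWV
  let p := hV.primeIdealOf ⟨η, hηV⟩
  let F := p.asIdeal.Fiber Γ(X, W)
  have : IsNoetherianRing F := Algebra.FiniteType.isNoetherianRing p.asIdeal.ResidueField F
  let o := PrimeSpectrum.preimageOrderIsoFiber Γ(Y, V) Γ(X, W) p
  let pt : PrimeSpectrum F → X := fun P ↦ hW.fromSpec (o.symm P).1
  have hpt : ∀ P, pt P ∈ W ∧ f (pt P) = η := fun P ↦ by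
    refine ⟨hW.range_fromSpec.le ⟨_, rfl⟩, ?_⟩
    show f (hW.fromSpec _) = η
    rw [← fromSpec_comap_appLE f hV hW hWV]
    exact (congrArg hV.fromSpec (o.symm P).2).trans (hV.fromSpec_primeIdealOf _)
  have hinv : ∀ z (hz : z ∈ W), f z = η → ∃ P, pt P = z := fun z hz hfz ↦ by
    have hmem : PrimeSpectrum.comap (algebraMap Γ(Y, V) Γ(X, W)) (hW.primeIdealOf ⟨z, hz⟩) = p :=
      hV.fromSpec.isOpenEmbedding.injective (by
        rw [RingHom.algebraMap_toAlgebra, fromSpec_comap_appLE f hV hW hWV, hW.fromSpec_primeIdealOf,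
          hV.fromSpec_primeIdealOf]
        exact hfz)
    refine ⟨o ⟨_, hmem⟩, ?_⟩
    show hW.fromSpec (o.symm (o ⟨_, hmem⟩)).1 = z
    rw [OrderIso.symm_apply_apply]
    exact hW.fromSpec_primeIdealOf _
  have hle : ∀ P Q, pt P ⤳ pt Q ↔ P ≤ Q := fun P Q ↦ by
    show hW.fromSpec _ ⤳ hW.fromSpec _ ↔ _
    rw [hW.fromSpec.isOpenEmbedding.isInducing.specializes_iff]
    exact (PrimeSpectrum.le_iff_specializes _ _).symm.trans o.symm.le_iff_le
  refine ⟨pt '' {P | P.asIdeal ∈ minimalPrimes F}, ((minimalPrimes.finite_of_isNoetherianRing F).preimage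
    fun P _ Q _ h ↦ PrimeSpectrum.ext h).image pt, ?_, fun z hz hfz ↦ ?_⟩
  · rintro _ ⟨P, hP, rfl⟩
    refine ⟨(hpt P).1, (hpt P).2, fun z hfz hzm ↦ ?_⟩
    obtain ⟨Q, rfl⟩ := hinv z (hzm.mem_open W.2 (hpt P).1) hfz
    exact congrArg pt (((hle Q P).mp hzm).antisymm (hP.2 ⟨Q.2, bot_le⟩ ((hle Q P).mp hzm)))
  · obtain ⟨P, rfl⟩ := hinv z hz hfz
    obtain ⟨J, hJ, hJP⟩ := Ideal.exists_minimalPrimes_le (I := (⊥ : Ideal F)) (J := P.asIdeal) bot_le
    exact ⟨pt ⟨J, hJ.1.1⟩, ⟨_, hJ, rfl⟩, (hle _ _).mpr hJP⟩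

/-- Near a point, every point of its fibre specialises from a maximal point of the fibre through it. -/
theorem exists_opens_maximal (f : X ⟶ Y) [LocallyOfFiniteType f] {x : X} {U : X.Opens} (hxU : x ∈ U)
    (η : Y) :
    ∃ U' : X.Opens, x ∈ U' ∧ U' ≤ U ∧ ∀ z ∈ U', f z = η →
      ∃ m, m ⤳ x ∧ m ⤳ z ∧ f m = η ∧ m ∈ U' ∧ ∀ w, f w = η → w ⤳ m → w = m := by
  obtain ⟨V, W, hV, hW, hxW, hWV, hWU⟩ := exists_chart_le f hxU
  obtain ⟨M, hM, hMp, hMc⟩ := exists_finite_maximal f hV hW hWV η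
  let C : Set X := ⋃ m ∈ {m ∈ M | ¬ m ⤳ x}, closure {m}
  have hC : IsClosed C := (hM.subset (Set.sep_subset _ _)).isClosed_biUnion fun _ _ ↦ isClosed_closure
  let U' : X.Opens := W ⊓ ⟨Cᶜ, hC.isOpen_compl⟩
  have hxU' : x ∈ U' := ⟨hxW, fun h ↦ by
    obtain ⟨m, hm, hxm⟩ := Set.mem_iUnion₂.mp h
    exact hm.2 (specializes_iff_mem_closure.mpr hxm)⟩
  refine ⟨U', hxU', fun z hz ↦ hWU hz.1, fun z hz hfz ↦ ?_⟩
  obtain ⟨m, hm, hmz⟩ := hMc z hz.1 hfz
  refine ⟨m, ?_, hmz, (hMp m hm).2.1, hmz.mem_open U'.2 hz, (hMp m hm).2.2⟩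
  by_contra hmx
  exact hz.2 (Set.mem_iUnion₂.mpr ⟨m, ⟨hm, hmx⟩, specializes_iff_mem_closure.mp hmz⟩)

/-- A criterion of universal openness along one component. -/
theorem isUnivOpenAt_of_chainsLE (f : X ⟶ Y) [LocallyOfFiniteType f] (x : X)
    (hy : CAlg2.IsGeomUnibranch (Y.presheaf.stalk (f x))) {e : ℕ} {ζ : X} (hζ : ζ ⤳ x)
    (hη : ∃ V₀ : Y.Opens, f x ∈ V₀ ∧ ∀ z ∈ V₀, f ζ ⤳ z)
    (hle : ∃ U : X.Opens, x ∈ U ∧ ChainsLE f ((U : Set X) ∩ closure {ζ}) (f x) e)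
    (hge : HasChain f (closure {ζ}) (f ζ) e) :
    EGA43.IsUnivOpenAt f x := by
  let Z : Closeds X := ⟨closure {ζ}, isClosed_closure⟩
  let ι := (Scheme.IdealSheafData.vanishingIdeal Z).subschemeι
  have hr : Set.range ι = closure {ζ} := by
    rw [Scheme.IdealSheafData.range_subschemeι, Scheme.IdealSheafData.coe_support_vanishingIdeal]
    rfl
  obtain ⟨x', hx'⟩ : x ∈ Set.range ι := hr.ge (specializes_iff_mem_closure.mp hζ)
  obtain ⟨ζ', hζ'⟩ : ζ ∈ Set.range ι := hr.ge (subset_closure rfl)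
  have hsp : ∀ a b, ι a ⤳ ι b ↔ a ⤳ b := fun a b ↦ ι.isEmbedding.isInducing.specializes_iff
  have hc : ∀ a, (ι ≫ f) a = f (ι a) := fun a ↦ Scheme.Hom.comp_apply _ _ _
  rw [← hx']
  refine GoingDown.isUnivOpenAt_right_of_comp ι f x'
    (isUnivOpenAt_of_chains (ι ≫ f) x' (by rw [hc, hx']; exact hy) e ζ'
      ((hsp _ _).mp (by rw [hζ', hx']; exact hζ)) (by simpa only [hc, hx', hζ'] using hη) ?_ ?_)
  · obtain ⟨U, hxU, hU⟩ := hle
    refine ⟨ι ⁻¹ᵁ U, show ι x' ∈ U by rw [hx']; exact hxU, fun k c hc₁ hc₂ ↦ hU k (fun i ↦ ι (c i))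
      (fun i ↦ ⟨⟨(hc₁ i).1, hr.le ⟨_, rfl⟩⟩, ?_⟩) fun i ↦ ⟨(hsp _ _).mpr (hc₂ i).1,
        fun h ↦ (hc₂ i).2 (ι.isEmbedding.injective h)⟩⟩
    rw [← hc, (hc₁ i).2, hc, hx']
  · obtain ⟨c, hc₁, hc₂⟩ := hge
    choose d hd using fun i ↦ hr.ge (hc₁ i).1
    refine ⟨d, fun i ↦ ?_, fun i ↦ ⟨?_, fun h ↦ (hc₂ i).2 ?_⟩, ?_⟩
    · rw [hc, hc, hd, hζ']; exact (hc₁ i).2
    · rw [← hsp, hd, hd]; exact (hc₂ i).1
    · rw [← hd, ← hd, h]
    · rw [← hsp, hd, hζ']; exact specializes_iff_mem_closure.mpr (hc₁ 0).1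

end Groth.Agent.Unibranch
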