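import Groth.Agent.Unibranch.ComponentTransfer
import Groth.Agent.S1333
import Groth.Agent.S4913

/-!
# Dimensions of fibres of morphisms that lift generisations
-/

set_option linter.style.haveILetI false

universe u

open CategoryTheory AlgebraicGeometry Topology TopologicalSpace Limits

namespace Groth.Agent.Unibranch

variable {X Y : Scheme.{u}}

/-- Over a locally Noetherian base, lifting the generisations between `η` and `f z` keeps the
dimension of the fibre; `η` need not be maximal. -/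
theorem exists_hasChain_of_lifts' [IsLocallyNoetherian Y] (f : X ⟶ Y) [LocallyOfFiniteType f] {z : X}
    {η : Y} (hη : η ⤳ f z) (H : ∀ η', η ⤳ η' → η' ⤳ f z → ∃ ζ, ζ ⤳ z ∧ f ζ = η') :
    ∃ ζ, ζ ⤳ z ∧ f ζ = η ∧
      ∀ k, HasChain f (closure {z}) (f z) k → HasChain f (closure {ζ}) η k := by
  let Z : Closeds Y := ⟨closure {η}, isClosed_closure⟩
  let ι := (Scheme.IdealSheafData.vanishingIdeal Z).subschemeι
  have : IsLocallyNoetherian (Scheme.IdealSheafData.vanishingIdeal Z).subscheme :=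
    LocallyOfFiniteType.isLocallyNoetherian ι
  have hr : Set.range ι = closure {η} := by
    rw [Scheme.IdealSheafData.range_subschemeι, Scheme.IdealSheafData.coe_support_vanishingIdeal]
    rfl
  let f' := pullback.snd f ι
  let π := pullback.fst f ι
  have hπι : ∀ p, f (π p) = ι (f' p) := fun p ↦ by
    rw [← Scheme.Hom.comp_apply, pullback.condition, Scheme.Hom.comp_apply]
  have hlift : ∀ x : X, f x ∈ Set.range ι → ∃ p, π p = x := fun x ⟨t, ht⟩ ↦ by
    obtain ⟨p, hp, -⟩ := Scheme.Pullback.exists_preimage_pullback (f := f) (g := ι) x t ht.symm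
    exact ⟨p, hp⟩
  have hπ : ∀ a b, π a ⤳ π b ↔ a ⤳ b := fun a b ↦ π.isEmbedding.isInducing.specializes_iff
  obtain ⟨η', hη'⟩ : η ∈ Set.range ι := hr.ge (subset_closure rfl)
  obtain ⟨z', hz'⟩ := hlift z (hr.ge (specializes_iff_mem_closure.mp hη))
  have hιz : ι (f' z') = f z := by rw [← hπι, hz']
  have hsp : η' ⤳ f' z' := ι.isEmbedding.isInducing.specializes_iff.mp (by rw [hη', hιz]; exact hη)
  have hmax : ∀ t, t ⤳ η' → t = η' := fun t ht ↦ by
    have h1 : η ⤳ ι t := specializes_iff_mem_closure.mpr (hr.le ⟨t, rfl⟩)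
    exact ι.isEmbedding.injective (((hη' ▸ ht.map ι.continuous).antisymm h1).eq.trans hη'.symm)
  obtain ⟨ζ, hζz, hfζ, hζ⟩ := exists_hasChain_of_lifts f' hsp hmax fun t _ ht₂ ↦ by
    obtain ⟨x, hxz, hfx⟩ := H (ι t) (specializes_iff_mem_closure.mpr (hr.le ⟨t, rfl⟩))
      (hιz ▸ ht₂.map ι.continuous)
    obtain ⟨p, hp⟩ := hlift x ⟨t, hfx.symm⟩
    refine ⟨p, (hπ p z').mp (by rw [hp, hz']; exact hxz), ι.isEmbedding.injective ?_⟩
    rw [← hπι, hp, hfx]
  refine ⟨π ζ, hz' ▸ hζz.map π.continuous, by rw [hπι, hfζ, hη'], fun k ⟨c, hc, hc'⟩ ↦ ?_⟩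
  have hcr : ∀ i, f (c i) ∈ Set.range ι := fun i ↦ ⟨f' z', by rw [(hc i).2, hιz]⟩
  choose d hd using fun i ↦ hlift (c i) (hcr i)
  obtain ⟨e, he, he'⟩ := hζ k ⟨d, fun i ↦ ⟨specializes_iff_mem_closure.mp ((hπ _ _).mp (by
      rw [hz', hd]; exact specializes_iff_mem_closure.mpr (hc i).1)), ι.isEmbedding.injective (by
      rw [← hπι, hd, (hc i).2, hιz])⟩, fun i ↦ ⟨(hπ _ _).mp (by rw [hd, hd]; exact (hc' i).1),
        fun h ↦ (hc' i).2 (by rw [← hd, ← hd, h])⟩⟩
  exact ⟨fun i ↦ π (e i), fun i ↦ ⟨specializes_iff_mem_closure.mp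
      ((specializes_iff_mem_closure.mpr (he i).1).map π.continuous), by rw [hπι, (he i).2, hη']⟩,
    fun i ↦ ⟨(he' i).1.map π.continuous, fun h ↦ (he' i).2 (π.isEmbedding.injective h)⟩⟩

/-- Openness at a maximal point `z` of a fibre: over each generisation `η` of its image a component
of the fibre has the dimension of the component of `z`. -/
theorem exists_maximal_same_dim' [IsLocallyNoetherian Y] (f : X ⟶ Y) [LocallyOfFiniteType f] {z : X}
    {η : Y} (hη : η ⤳ f z) (hmax : ∀ w, f w = f z → w ⤳ z → w = z)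
    (H : EGA43.IsOpenAt f.base z) :
    ∃ m, m ⤳ z ∧ f m = η ∧ (∀ w, f w = η → w ⤳ m → w = m) ∧
      topologicalKrullDim ↥(closure ({m} : Set X) ∩ f ⁻¹' {η}) =
        topologicalKrullDim ↥(closure ({z} : Set X) ∩ f ⁻¹' {f z}) := by
  obtain ⟨d, hd₁, hd₂, hd⟩ := exists_dim_closure_eq f z
  obtain ⟨ζ, hζz, hfζ, hchain⟩ := exists_hasChain_of_lifts' f hη
    fun η' _ hη' ↦ exists_specializes_of_isOpenAt f H hη'
  obtain ⟨U, hzU, -, hU⟩ := exists_opens_maximal f (U := ⊤) (x := z) trivial η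
  obtain ⟨m, hmz, hmζ, hfm, -, hm⟩ := hU ζ (hζz.mem_open U.2 hzU) hfζ
  obtain ⟨U', hzU', -, hU'⟩ := exists_opens_maximal f (U := ⊤) (x := z) trivial (f z)
  have hle : ChainsLE f ((U' : Set X) ∩ closure {m}) (f z) d := by
    intro k c hc hch
    refine hd₁ k c (fun i ↦ ⟨?_, (hc i).2⟩) hch
    obtain ⟨m', hm'z, hm'c, hfm', -, -⟩ := hU' (c i) (hc i).1.1 (hc i).2
    rw [← hmax m' hfm' hm'z]
    exact specializes_iff_mem_closure.mp hm'c
  have hle' := chainsLE_of_specializes f hmz hzU' hle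
  rw [hfm] at hle'
  refine ⟨m, hmz, hfm, hm, ?_⟩
  rw [hd, topologicalKrullDim_inter_eq f isClosed_closure.isLocallyClosed η hle'
    ((hchain d hd₂).mono (closure_minimal (Set.singleton_subset_iff.mpr hmζ.mem_closure)
      isClosed_closure))]

/-- The dimensions of the components of a fibre. -/
noncomputable def dims (f : X ⟶ Y) (z : Y) : Set (WithBot ℕ∞) :=
  (fun Z : Set ↥(f.fiber z) => topologicalKrullDim ↥Z) '' irreducibleComponents ↥(f.fiber z)

theorem dims_subset_of_isOpenAt [IsLocallyNoetherian Y] (f : X ⟶ Y) [LocallyOfFiniteType f] {y η : Y}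
    (hη : η ⤳ y) (h : ∀ x : X, f.base x = y → EGA43.IsOpenAt f.base x) : dims f y ⊆ dims f η := by
  rintro _ ⟨Z, hZ, rfl⟩
  obtain ⟨z, hz, hmax, -, hdim⟩ := exists_genericPoint_component f y hZ
  subst hz
  obtain ⟨m, -, hfm, hm, hmdim⟩ := exists_maximal_same_dim' f hη hmax (h z rfl)
  obtain ⟨Z', hZ', hdim'⟩ := exists_component_of_maximal f hfm hm
  exact ⟨Z', hZ', hdim'.trans (hmdim.trans hdim.symm)⟩

theorem dim_le_of_isOpenAt [IsLocallyNoetherian Y] (f : X ⟶ Y) [LocallyOfFiniteType f] {y η : Y}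
    (hη : η ⤳ y) (h : ∀ x : X, f.base x = y → EGA43.IsOpenAt f.base x) :
    topologicalKrullDim ↥(f.fiber y) ≤ topologicalKrullDim ↥(f.fiber η) :=
  topologicalKrullDim_le_of_components fun Z hZ ↦ by
    obtain ⟨Z', -, h'⟩ := dims_subset_of_isOpenAt f hη h ⟨Z, hZ, rfl⟩
    exact ⟨Z', h'.symm⟩

/-- A locally constructible set containing all generisations of a point is a neighbourhood of it. -/
theorem mem_nhds_of_isLocallyConstructible {S : Set Y} (hS : IsLocallyConstructible S) {y : Y}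
    (h : ∀ y' : Y, y' ⤳ y → y' ∈ S) : S ∈ nhds y := by
  obtain ⟨SV, hSV, hyV, -⟩ := Y.isBasis_affineOpens.exists_subset_of_mem_open
    (Set.mem_univ y) isOpen_univ
  obtain ⟨V, hV, rfl⟩ : ∃ U : Y.Opens, IsAffineOpen U ∧ (U : Set Y) = SV := hSV
  have hc : IsConstructible (hV.fromSpec ⁻¹' S) :=
    (ConsEngine.isLocallyConstructible_preimage hV.fromSpec hS).isConstructible
  have hmem : hV.fromSpec ⁻¹' S ∈ nhds (hV.primeIdealOf ⟨y, hyV⟩) := by
    refine GoingDown.mem_nhds_of_isConstructible hc fun q hq ↦ h _ ?_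
    have := ((PrimeSpectrum.le_iff_specializes _ _).mp hq).map hV.fromSpec.continuous
    rwa [hV.fromSpec_primeIdealOf] at this
  have h2 := hV.fromSpec.isOpenEmbedding.isOpenMap.image_mem_nhds hmem
  rw [hV.fromSpec_primeIdealOf] at h2
  exact Filter.mem_of_superset h2 (Set.image_preimage_subset _ _)

/-- For an open morphism of finite type the fibre dimension is constant near `y` once it agrees with
that over the generic points of the components through `y`. -/
theorem dim_const_of_isOpenMap [IsLocallyNoetherian Y] (f : X ⟶ Y) [LocallyOfFiniteType f]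
    [QuasiCompact f] (hf : IsOpenMap f.base) (y : Y)
    (h : ∀ η : Y, y ∈ closure {η} → closure {η} ∈ irreducibleComponents (Y : Type u) →
      topologicalKrullDim ↥(f.fiber y) = topologicalKrullDim ↥(f.fiber η)) :
    {z : Y | topologicalKrullDim ↥(f.fiber z) = topologicalKrullDim ↥(f.fiber y)} ∈ nhds y := by
  have := LocallyOfFiniteType.isLocallyNoetherian f
  have := ConsEngine.lfp_of_lft f
  have hopen : ∀ (w : Y) (x : X), f.base x = w → EGA43.IsOpenAt f.base x :=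
    fun _ x _ U hU ↦ hf.image_mem_nhds hU
  refine mem_nhds_of_isLocallyConstructible (S1333.result f _) fun y' hy' ↦ ?_
  obtain ⟨η, hη, hηy'⟩ := exists_isMaxPt_specializes y'
  exact le_antisymm ((dim_le_of_isOpenAt f hηy' (hopen y')).trans
    (h η (specializes_iff_mem_closure.mp (hηy'.trans hy')) hη.mem_irreducibleComponents).ge)
    (dim_le_of_isOpenAt f hy' (hopen y))


/-- Near `y` every point is a specialisation of a maximal generisation of `y`. -/
theorem exists_opens_maxPt_specializes [IsLocallyNoetherian Y] (y : Y) :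
    ∃ O : Y.Opens, y ∈ O ∧ ∀ z ∈ O, ∃ η : Y, IsMaxPt η ∧ η ⤳ z ∧ η ⤳ y := by
  obtain ⟨V, hyV, hfin⟩ := exists_opens_finite_components y
  let M : Set Y := {η | η ∈ V ∧ IsMaxPt η}
  have hM : M.Finite := by
    have hcl : ∀ η (h : η ∈ V), V.ι ⁻¹' closure ({η} : Set Y) = closure {(⟨η, h⟩ : (V : Scheme.{u}))} :=
      fun η h ↦ ((V.ι.isEmbedding.closure_eq_preimage_closure_image {(⟨η, h⟩ : (V : Scheme.{u}))}).trans
        (congrArg (fun s ↦ V.ι ⁻¹' closure s) (Set.image_singleton (f := V.ι) (a := (⟨η, h⟩ : (V : Scheme.{u})))))).symm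
    refine Set.Finite.of_finite_image (f := fun η ↦ V.ι ⁻¹' closure ({η} : Set Y))
      (hfin.subset ?_) fun a ha b hb hab ↦ ?_
    · rintro _ ⟨η, hη, rfl⟩
      have hm : IsMaxPt (X := (V : Scheme.{u})) ⟨η, hη.1⟩ := fun w hw ↦
        V.ι.isEmbedding.injective (hη.2 _ (hw.map V.ι.continuous))
      show V.ι ⁻¹' closure ({η} : Set Y) ∈ _
      exact (hcl η hη.1).symm ▸ hm.mem_irreducibleComponents
    · have h1 := (hcl a ha.1).symm.trans (hab.trans (hcl b hb.1))
      exact congrArg Subtype.val (eq_of_closure_eq (X := (V : Scheme.{u})) h1)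
  let C : Set Y := ⋃ η ∈ {η ∈ M | ¬ η ⤳ y}, closure {η}
  have hC : IsClosed C := (hM.subset (Set.sep_subset _ _)).isClosed_biUnion fun _ _ ↦ isClosed_closure
  refine ⟨V ⊓ ⟨Cᶜ, hC.isOpen_compl⟩, ⟨hyV, fun h ↦ ?_⟩, fun z hz ↦ ?_⟩
  · obtain ⟨η, hη, hyη⟩ := Set.mem_iUnion₂.mp h
    exact hη.2 (specializes_iff_mem_closure.mpr hyη)
  · obtain ⟨η, hη, hηz⟩ := exists_isMaxPt_specializes z
    refine ⟨η, hη, hηz, ?_⟩
    by_contra hn
    exact hz.2 (Set.mem_iUnion₂.mpr ⟨η, ⟨⟨hηz.mem_open V.2 hz.1, hη⟩, hn⟩,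
      specializes_iff_mem_closure.mp hηz⟩)

/-- Fibres are bounded by a bound on the local dimensions. -/
theorem dim_fiber_le_of_forall (f : X ⟶ Y) (y : Y) {n : ℕ}
    (h : ∀ x, f x = y → FlatMor.fibreDimAt f x ≤ (n : WithBot ℕ∞)) :
    topologicalKrullDim ↥(f.fiber y) ≤ (n : WithBot ℕ∞) := by
  refine (topologicalKrullDim_le_iff f (f.fiberι y).isEmbedding
    (S := Set.univ) (by rw [Scheme.Hom.range_fiberι, Set.univ_inter])).mpr fun k c hc hch ↦ ?_
  obtain ⟨U, hxU, hU⟩ := (fibreDimAt_le_iff f _).mp (h _ (hc (Fin.last k)).2)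
  refine hU k c (fun i ↦ ⟨?_, (hc i).2.trans (hc (Fin.last k)).2.symm⟩) hch
  refine (show c i ⤳ c (Fin.last k) from ?_).mem_open U.2 hxU
  induction i using Fin.reverseInduction with
  | last => exact specializes_rfl
  | cast j hj => exact (hch j).1.trans hj

/-- A fibre of a morphism of finite type has finite dimension. -/
theorem exists_natCast_dim_fiber (f : X ⟶ Y) [LocallyOfFiniteType f] [QuasiCompact f] (y : Y) :
    IsEmpty ↥(f.fiber y) ∨ ∃ n : ℕ, topologicalKrullDim ↥(f.fiber y) = (n : WithBot ℕ∞) := by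
  rcases isEmpty_or_nonempty ↥(f.fiber y) with h | ⟨⟨x⟩⟩
  · exact .inl h
  right
  choose d U hxU hU using fun z : ↥(f.fiber y) ↦ show ∃ d : ℕ, ∃ U : X.Opens, f.fiberι y z ∈ U ∧
      ∀ y, ChainsLE f U y d from by
    obtain ⟨d, hd⟩ := exists_fibreDimAt_eq f (f.fiberι y z)
    obtain ⟨U, hxU, hU⟩ := (fibreDimAt_le_iff f _).mp hd.le
    obtain ⟨U', hxU', -, hU'⟩ := exists_opens_chainsLE f hxU hU
    exact ⟨d, U', hxU', hU'⟩
  obtain ⟨s, hs⟩ := isCompact_univ.elim_finite_subcover (fun z => f.fiberι y ⁻¹' (U z : Set X))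
    (fun z => (U z).2.preimage (f.fiberι y).continuous) (fun z _ => Set.mem_iUnion.mpr ⟨z, hxU z⟩)
  have hle : topologicalKrullDim ↥(f.fiber y) ≤ ((s.sup d : ℕ) : WithBot ℕ∞) :=
    dim_fiber_le_of_forall f y fun w hw ↦ by
      obtain ⟨p, rfl⟩ := (f.range_fiberι y).ge hw
      obtain ⟨z, hz, hpz⟩ := Set.mem_iUnion₂.mp (hs (Set.mem_univ p))
      exact (fibreDimAt_le_iff f _).mpr ⟨U z, hpz, fun k c hc hch ↦
        (hU z _ k c hc hch).trans (Finset.le_sup hz)⟩
  have h0 : ((0 : ℕ) : WithBot ℕ∞) ≤ topologicalKrullDim ↥(f.fiber y) :=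
    natCast_le_topologicalKrullDim (fun _ : Fin 1 => x) fun i => i.elim0
  classical
  let P := fun k : ℕ => (k : WithBot ℕ∞) ≤ topologicalKrullDim ↥(f.fiber y)
  refine ⟨Nat.findGreatest P (s.sup d), le_antisymm (le_of_forall_natCast_le fun k hk => ?_)
    (Nat.findGreatest_spec (P := P) (Nat.zero_le _) h0)⟩
  exact_mod_cast Nat.le_findGreatest (P := P) (by exact_mod_cast hk.trans hle) hk

/-- Fibres of a restriction to an open. -/
theorem dim_fiber_restrict (f : X ⟶ Y) (U : X.Opens) (z : Y) :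
    topologicalKrullDim ↥((U.ι ≫ f).fiber z) = topologicalKrullDim ↥((U : Set X) ∩ f.base ⁻¹' {z}) := by
  have himg : U.ι '' ((U.ι ≫ f) ⁻¹' {z}) = (U : Set X) ∩ f.base ⁻¹' {z} := by
    ext x
    constructor
    · rintro ⟨a, ha, rfl⟩
      exact ⟨a.2, ha⟩
    · exact fun ⟨hx, hfx⟩ ↦ ⟨⟨x, hx⟩, hfx, rfl⟩
  rw [IsHomeomorph.topologicalKrullDim_eq _ ((((U.ι ≫ f).fiberHomeo z).trans
    (U.ι.isEmbedding.homeomorphImage _)).trans (Homeomorph.setCongr himg)).isHomeomorph]

theorem isOpenMap_restrict (f : X ⟶ Y) (hf : IsOpenMap f.base) (U : X.Opens) :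
    IsOpenMap (U.ι ≫ f).base := by
  rw [Scheme.Hom.comp_base]
  exact hf.comp U.ι.isOpenEmbedding.isOpenMap

end Groth.Agent.Unibranch
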