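import Groth.Agent.Unibranch.TrDeg

/-!
# Lifting generisations keeping the relative dimension
-/

universe u

open PrimeSpectrum TensorProduct

namespace Groth.Agent.Unibranch

variable {A B : Type u} [CommRing A] [CommRing B] [Algebra A B] {σ : Type u}

theorem exists_dvd_forall {V : Type u} [CommRing V] [IsDomain V] [ValuationRing V] {ι : Type u}
    (s : Finset ι) (hs : s.Nonempty) (f : ι → V) : ∃ i ∈ s, ∀ j ∈ s, f i ∣ f j := by
  classical
  induction hs using Finset.Nonempty.cons_induction with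
  | singleton a => exact ⟨a, by simp, by simp⟩
  | cons a s ha hs ih =>
    obtain ⟨i, hi, h⟩ := ih
    rcases ValuationRing.dvd_total (f a) (f i) with h' | h'
    · refine ⟨a, Finset.mem_cons_self a s, fun j hj ↦ ?_⟩
      rcases Finset.mem_cons.mp hj with rfl | hj
      · exact dvd_rfl
      · exact h'.trans (h j hj)
    · refine ⟨i, Finset.mem_cons_of_mem hi, fun j hj ↦ ?_⟩
      rcases Finset.mem_cons.mp hj with rfl | hj
      · exact h'
      · exact h j hj

/-- A point of a field over `n` at which `t` becomes generic over a given field. -/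
theorem exists_genericPoint (n : PrimeSpectrum B) (t : σ → B)
    (ht : IsTranscendenceBasis (A ⧸ n.asIdeal.under A) fun i ↦ Ideal.Quotient.mk n.asIdeal (t i))
    (κ : Type u) [Field κ] [Algebra A κ] (hκ : RingHom.ker (algebraMap A κ) = n.asIdeal.under A) :
    ∃ (F : Type u) (_ : Field F) (toF : MvPolynomial σ κ →+* F) (χ : B →+* F),
      Function.Injective toF ∧ RingHom.ker χ = n.asIdeal ∧
      (∀ a, χ (algebraMap A B a) = toF (MvPolynomial.C (algebraMap A κ a))) ∧
      ∀ i, χ (t i) = toF (MvPolynomial.X i) := by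
  let P := n.asIdeal.under A
  let Rk := A ⧸ P
  let kκ : Rk →+* κ := Ideal.Quotient.lift P (algebraMap A κ) fun a ha ↦ by
    rw [← RingHom.mem_ker, hκ]; exact ha
  have hkκ : Function.Injective kκ :=
    RingHom.lift_injective_of_ker_le_ideal _ _ hκ.le
  let F := AlgebraicClosure (FractionRing (MvPolynomial σ κ))
  let Bn := B ⧸ n.asIdeal
  let x : σ → Bn := fun i ↦ Ideal.Quotient.mk n.asIdeal (t i)
  let S := Algebra.adjoin Rk (Set.range x)
  let toF : MvPolynomial σ κ →+* F := algebraMap (MvPolynomial σ κ) F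
  have htoF : Function.Injective toF := by
    show Function.Injective (algebraMap (MvPolynomial σ κ) F)
    rw [IsScalarTower.algebraMap_eq (MvPolynomial σ κ) (FractionRing (MvPolynomial σ κ)) F]
    exact (algebraMap (FractionRing (MvPolynomial σ κ)) F).injective.comp
      (IsFractionRing.injective _ _)
  let hS : S →+* F :=
    toF.comp ((MvPolynomial.map kκ).comp ht.1.aevalEquiv.symm.toRingEquiv.toRingHom)
  have hSi : Function.Injective hS :=
    htoF.comp ((MvPolynomial.map_injective _ hkκ).comp ht.1.aevalEquiv.symm.injective)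
  let := hS.toAlgebra
  have hSi' : Function.Injective (algebraMap S F) := hSi
  have : FaithfulSMul S F := (faithfulSMul_iff_algebraMap_injective S F).mpr hSi'
  have halg : Algebra.IsAlgebraic S Bn := ht.isAlgebraic
  let χ : Bn →ₐ[S] F := IsAlgClosed.lift
  have hχ : Function.Injective χ := by
    rw [injective_iff_map_eq_zero]
    intro b hb
    by_contra hb0
    obtain ⟨r, hr0, z, hz⟩ :=
      (halg.isAlgebraic b).exists_nonzero_dvd (mem_nonZeroDivisors_of_ne_zero hb0)
    have := congrArg χ hz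
    rw [AlgHom.commutes, map_mul, hb, zero_mul, map_eq_zero_iff _ hSi'] at this
    exact hr0 this
  refine ⟨F, inferInstance, toF, χ.toRingHom.comp (Ideal.Quotient.mk n.asIdeal), htoF, ?_,
    fun a ↦ ?_, fun i ↦ ?_⟩
  · ext b
    show χ (Ideal.Quotient.mk n.asIdeal b) = 0 ↔ _
    rw [map_eq_zero_iff _ hχ, Ideal.Quotient.eq_zero_iff_mem]
  · have h1 : Ideal.Quotient.mk n.asIdeal (algebraMap A B a) =
        algebraMap S Bn (algebraMap Rk S (Ideal.Quotient.mk P a)) := rfl
    show χ _ = _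
    rw [h1, AlgHom.commutes]
    show toF (MvPolynomial.map kκ (ht.1.aevalEquiv.symm _)) = _
    rw [AlgEquiv.commutes, MvPolynomial.algebraMap_eq, MvPolynomial.map_C]
    rfl
  · have h1 : Ideal.Quotient.mk n.asIdeal (t i) =
        algebraMap S Bn (ht.1.aevalEquiv (MvPolynomial.X i)) := by
      rw [ht.1.algebraMap_aevalEquiv, MvPolynomial.aeval_X]
    show χ _ = _
    rw [h1, AlgHom.commutes]
    show toF (MvPolynomial.map kκ (ht.1.aevalEquiv.symm _)) = _
    rw [AlgEquiv.symm_apply_apply, MvPolynomial.map_X]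

/-- If generisations lift after every change of base, they lift keeping a transcendence basis independent. -/
theorem exists_genAt_of_liftsUniversally [Algebra.FiniteType A B] (n : PrimeSpectrum B)
    (H : ∀ (V : Type u) [CommRing V] [Algebra A V] (P : PrimeSpectrum (V ⊗[A] B)),
      comap (Algebra.TensorProduct.includeRight : B →ₐ[A] V ⊗[A] B).toRingHom P = n →
      ∀ v : PrimeSpectrum V, v.asIdeal ≤ (comap (algebraMap V (V ⊗[A] B)) P).asIdeal →
      ∃ Q : PrimeSpectrum (V ⊗[A] B), Q.asIdeal ≤ P.asIdeal ∧ comap (algebraMap V (V ⊗[A] B)) Q = v)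
    [Finite σ] (t : σ → B)
    (ht : IsTranscendenceBasis (A ⧸ n.asIdeal.under A) fun i ↦ Ideal.Quotient.mk n.asIdeal (t i))
    (p : Ideal A) [p.IsPrime] (hp : p ≤ n.asIdeal.under A) :
    ∃ q : PrimeSpectrum B, q.asIdeal ≤ n.asIdeal ∧ q.asIdeal.under A = p ∧
      GenAt (A := A) t q.asIdeal := by
  let P := n.asIdeal.under A
  -- a valuation ring of `κ(p)` centred at `P`
  let K := FractionRing (A ⧸ p)
  have hkerK : ∀ a : A, algebraMap A K a = 0 ↔ a ∈ p := fun a ↦ by
    rw [IsScalarTower.algebraMap_apply A (A ⧸ p) K,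
      map_eq_zero_iff _ (IsFractionRing.injective (A ⧸ p) K), Ideal.Quotient.algebraMap_eq,
      Ideal.Quotient.eq_zero_iff_mem]
  let f : Localization.AtPrime P →+* K := IsLocalization.lift (M := P.primeCompl)
    (g := algebraMap A K) fun s ↦ IsUnit.mk0 _ fun h ↦ s.2 (hp ((hkerK _).mp h))
  obtain ⟨Vs, hmem, hloc⟩ := IsLocalRing.exists_factor_valuationRing f
  let g : A →+* Vs := (f.codRestrict Vs.toSubring hmem).comp (algebraMap A (Localization.AtPrime P))
  let := g.toAlgebra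
  have hgK : ∀ a, ((algebraMap A Vs a : Vs) : K) = algebraMap A K a := fun a ↦
    IsLocalization.lift_eq _ a
  have hmax : (IsLocalRing.maximalIdeal Vs).comap (algebraMap A Vs) = P := by
    show (IsLocalRing.maximalIdeal Vs).comap g = P
    have : IsLocalHom (f.codRestrict Vs.toSubring hmem) := hloc
    exact (Ideal.comap_comap _ _).symm.trans
      (by rw [IsLocalRing.maximalIdeal_comap]; exact IsLocalization.AtPrime.under_maximalIdeal _ P)
  let κV := IsLocalRing.ResidueField Vs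
  have hkerκ : RingHom.ker (algebraMap A κV) = P := by
    rw [IsScalarTower.algebraMap_eq A Vs κV, ← RingHom.comap_ker,
      IsLocalRing.ResidueField.algebraMap_eq, IsLocalRing.ker_residue, hmax]
  obtain ⟨F, _, toF, χB, htoF, hkerχ, hχA, hχt⟩ := exists_genericPoint n t ht κV hkerκ
  let gV : Vs →+* F := toF.comp (MvPolynomial.C.comp (IsLocalRing.residue Vs))
  let : Algebra A F := (gV.comp (algebraMap A Vs)).toAlgebra
  let gVₐ : Vs →ₐ[A] F := { gV with commutes' := fun _ ↦ rfl }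
  let χBₐ : B →ₐ[A] F := { χB with commutes' := hχA }
  let Ψ : Vs ⊗[A] B →ₐ[A] F := Algebra.TensorProduct.lift gVₐ χBₐ fun _ _ ↦ .all _ _
  let P' : PrimeSpectrum (Vs ⊗[A] B) := ⟨RingHom.ker Ψ.toRingHom, RingHom.ker_isPrime _⟩
  let inc : B →+* Vs ⊗[A] B := (Algebra.TensorProduct.includeRight : B →ₐ[A] Vs ⊗[A] B).toRingHom
  have hP'n : comap inc P' = n := by
    refine PrimeSpectrum.ext (Ideal.ext fun b ↦ ?_)
    show Ψ (1 ⊗ₜ b) = 0 ↔ b ∈ n.asIdeal
    rw [Algebra.TensorProduct.lift_tmul, map_one, one_mul, ← hkerχ]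
    exact (RingHom.mem_ker (f := χB)).symm
  obtain ⟨Q, hQle, hQV⟩ := H Vs P' hP'n ⟨⊥, Ideal.isPrime_bot⟩ bot_le
  have hQ0 : ∀ v : Vs, algebraMap Vs (Vs ⊗[A] B) v ∈ Q.asIdeal → v = 0 := fun v hv ↦ by
    have h1 : v ∈ (comap (algebraMap Vs (Vs ⊗[A] B)) Q).asIdeal := hv
    rw [hQV] at h1
    exact h1
  let q : PrimeSpectrum B := comap inc Q
  have hqp : q.asIdeal.under A = p := by
    ext a
    rw [← hkerK, ← hgK, ZeroMemClass.coe_eq_zero]
    show (1 : Vs) ⊗ₜ[A] algebraMap A B a ∈ Q.asIdeal ↔ _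
    rw [← Algebra.TensorProduct.algebraMap_apply', IsScalarTower.algebraMap_apply A Vs (Vs ⊗[A] B)]
    exact ⟨hQ0 _, fun h ↦ by rw [h, map_zero]; exact Ideal.zero_mem _⟩
  refine ⟨q, hP'n ▸ fun b hb ↦ hQle hb, hqp, ?_⟩
  rw [genAt_iff_comap, hqp]
  refine le_antisymm (fun F₀ hF₀ ↦ ?_) ?_
  · rw [MvPolynomial.mem_map_C_iff]
    intro m
    rw [← hkerK, ← hgK, ZeroMemClass.coe_eq_zero, ← MvPolynomial.coeff_map]
    suffices hG : MvPolynomial.map (algebraMap A Vs) F₀ = 0 by rw [hG, MvPolynomial.coeff_zero]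
    let G := MvPolynomial.map (algebraMap A Vs) F₀
    by_contra hG
    obtain ⟨m₀, hm₀, hdvd⟩ := exists_dvd_forall G.support (MvPolynomial.support_nonempty.mpr hG)
      fun m ↦ G.coeff m
    let c := G.coeff m₀
    have hc : c ≠ 0 := MvPolynomial.mem_support_iff.mp hm₀
    obtain ⟨G₁, hG₁⟩ : MvPolynomial.C c ∣ G := (MvPolynomial.C_dvd_iff_dvd_coeff c G).mpr fun i ↦ by
      by_cases hi : i ∈ G.support
      · exact hdvd i hi
      · rw [MvPolynomial.notMem_support_iff.mp hi]; exact dvd_zero _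
    have hG₁m : G₁.coeff m₀ = 1 := by
      have := congrArg (MvPolynomial.coeff m₀) hG₁
      rw [MvPolynomial.coeff_C_mul] at this
      exact mul_left_cancel₀ hc ((show c = c * G₁.coeff m₀ from this).symm.trans (mul_one c).symm)
    let ev : MvPolynomial σ Vs →+* Vs ⊗[A] B :=
      MvPolynomial.eval₂Hom (algebraMap Vs (Vs ⊗[A] B)) fun i ↦ inc (t i)
    have hev : ev G ∈ Q.asIdeal := by
      have : ev.comp (MvPolynomial.map (algebraMap A Vs)) =
          inc.comp (MvPolynomial.aeval (R := A) t).toRingHom := by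
        refine MvPolynomial.ringHom_ext (fun a ↦ ?_) (fun i ↦ ?_)
        · simp only [RingHom.comp_apply, MvPolynomial.map_C, ev, MvPolynomial.eval₂Hom_C,
            AlgHom.toRingHom_eq_coe, RingHom.coe_coe, MvPolynomial.aeval_C]
          rw [← IsScalarTower.algebraMap_apply A Vs (Vs ⊗[A] B)]
          exact (Algebra.TensorProduct.includeRight.commutes a).symm
        · simp [ev]
      rw [show ev G = inc (MvPolynomial.aeval t F₀) from RingHom.congr_fun this F₀]
      exact hF₀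
    rw [hG₁, map_mul] at hev
    have hcQ : ev (MvPolynomial.C c) ∉ Q.asIdeal := fun h ↦ hc (hQ0 c (by simpa [ev] using h))
    have h1 : Ψ (ev G₁) = 0 := hQle ((Q.isPrime.mem_or_mem hev).resolve_left hcQ)
    have h2 : Ψ.toRingHom.comp ev = toF.comp (MvPolynomial.map (IsLocalRing.residue Vs)) := by
      refine MvPolynomial.ringHom_ext (fun v ↦ ?_) (fun i ↦ ?_)
      · simp only [RingHom.comp_apply, MvPolynomial.map_C, ev, MvPolynomial.eval₂Hom_C]
        show Ψ (v ⊗ₜ 1) = _
        rw [Algebra.TensorProduct.lift_tmul, map_one, mul_one]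
        rfl
      · simp only [RingHom.comp_apply, MvPolynomial.map_X, ev, MvPolynomial.eval₂Hom_X']
        show Ψ (1 ⊗ₜ t i) = _
        rw [Algebra.TensorProduct.lift_tmul, map_one, one_mul]
        exact hχt i
    have h3 := RingHom.congr_fun h2 G₁
    rw [RingHom.comp_apply, AlgHom.toRingHom_eq_coe, RingHom.coe_coe, h1, RingHom.comp_apply,
      eq_comm, map_eq_zero_iff _ htoF] at h3
    have h4 := congrArg (MvPolynomial.coeff m₀) h3
    rw [MvPolynomial.coeff_map, hG₁m, map_one, MvPolynomial.coeff_zero] at h4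
    exact one_ne_zero h4
  · rw [Ideal.map_le_iff_le_comap]
    intro a ha
    show MvPolynomial.aeval t (MvPolynomial.C a) ∈ q.asIdeal
    rw [MvPolynomial.aeval_C]
    exact hqp.ge ha

/-- A universally open point lifts generisations keeping a transcendence basis independent. -/
theorem exists_genAt_of_univOpen [Algebra.FiniteType A B] (n : PrimeSpectrum B)
    (H : ∀ (V : Type u) [CommRing V] [Algebra A V] (P : PrimeSpectrum (V ⊗[A] B)),
      comap (Algebra.TensorProduct.includeRight : B →ₐ[A] V ⊗[A] B).toRingHom P = n →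
      ∀ s ∈ nhds P, comap (algebraMap V (V ⊗[A] B)) '' s ∈
        nhds (comap (algebraMap V (V ⊗[A] B)) P))
    [Finite σ] (t : σ → B)
    (ht : IsTranscendenceBasis (A ⧸ n.asIdeal.under A) fun i ↦ Ideal.Quotient.mk n.asIdeal (t i))
    (p : Ideal A) [p.IsPrime] (hp : p ≤ n.asIdeal.under A) :
    ∃ q : PrimeSpectrum B, q.asIdeal ≤ n.asIdeal ∧ q.asIdeal.under A = p ∧
      GenAt (A := A) t q.asIdeal := by
  exact exists_genAt_of_liftsUniversally n
    (fun V _ _ P hP v hv ↦ exists_le_of_mem_nhds P (fun s hs ↦ H V P hP s hs) v hv) t ht p hp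

/-- A prime minimal over a prime and one further element has nothing in between. -/
theorem eq_of_lt_of_mem_minimalPrimes [IsNoetherianRing A] {p q q₁ : Ideal A} [p.IsPrime]
    [q₁.IsPrime] {b : A} (hq : q ∈ (p ⊔ Ideal.span {b}).minimalPrimes) (hp : p ≤ q₁) (h : q₁ < q) :
    q₁ = p := by
  have hqp : q.IsPrime := hq.1.1
  let π := Ideal.Quotient.mk p
  have hπ : Function.Surjective π := Ideal.Quotient.mk_surjective
  have hpq : p ≤ q := hp.trans h.le
  have hcm : ∀ I : Ideal A, p ≤ I → (I.map π).comap π = I := fun I hI ↦ by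
    rw [Ideal.comap_map_of_surjective _ hπ, ← RingHom.ker_eq_comap_bot, Ideal.mk_ker,
      sup_eq_left.mpr hI]
  have hq' : (q.map π).IsPrime := Ideal.map_isPrime_of_surjective hπ (by rw [Ideal.mk_ker]; exact hpq)
  have hq₁' : (q₁.map π).IsPrime :=
    Ideal.map_isPrime_of_surjective hπ (by rw [Ideal.mk_ker]; exact hp)
  have hmem : q.map π ∈ (Ideal.span {π b}).minimalPrimes := by
    refine ⟨⟨hq', Ideal.span_le.mpr (Set.singleton_subset_iff.mpr (Ideal.mem_map_of_mem _
      (hq.1.2 (Ideal.mem_sup_right (Ideal.mem_span_singleton_self b)))))⟩, fun Z hZ hZq ↦ ?_⟩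
    have h1 : q ≤ Z.comap π := hq.2 ⟨hZ.1.comap π, sup_le
      (fun a ha ↦ by
        show π a ∈ Z
        rw [show π a = 0 from Ideal.Quotient.eq_zero_iff_mem.mpr ha]
        exact Z.zero_mem)
      (Ideal.span_le.mpr (Set.singleton_subset_iff.mpr (hZ.2 (Ideal.mem_span_singleton_self _))))⟩
      (by rw [← hcm q hpq]; exact Ideal.comap_mono hZq)
    exact Ideal.map_le_iff_le_comap.mpr h1
  have h1 := Ideal.height_le_one_of_isPrincipal_of_mem_minimalPrimes _ _ hmem
  have hlt : q₁.map π < q.map π := lt_of_le_of_ne (Ideal.map_mono h.le) fun e ↦ h.ne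
    (by rw [← hcm q₁ hp, e, hcm q hpq])
  have h2 := (Ideal.height_strict_mono_of_isPrime_of_isPrime hlt).trans_le h1
  rw [Order.lt_one_iff, Ideal.height_eq_zero_iff,
    IsDomain.minimalPrimes_eq_singleton_bot, Set.mem_singleton_iff] at h2
  rw [← hcm q₁ hp, h2, ← RingHom.ker_eq_comap_bot, Ideal.mk_ker]

theorem exists_prime_dim_one [IsNoetherianRing A] {p₀ P : Ideal A} [p₀.IsPrime] [P.IsPrime]
    (h : p₀ < P) {a : A} (ha : a ∉ p₀) :
    ∃ p : Ideal A, p.IsPrime ∧ p₀ ≤ p ∧ p < P ∧ a ∉ p ∧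
      ∃ b, P ∈ (p ⊔ Ideal.span {b}).minimalPrimes := by
  obtain ⟨(p : Ideal A), ⟨hp, hp₀, hpP, hap⟩, hmax⟩ :=
    set_has_maximal_iff_noetherian.mpr ‹IsNoetherianRing A›
    {q : Ideal A | q.IsPrime ∧ p₀ ≤ q ∧ q < P ∧ a ∉ q} ⟨p₀, ‹_›, le_rfl, h, ha⟩
  have := hp
  refine ⟨p, hp, hp₀, hpP, hap, ?_⟩
  let S := (p ⊔ Ideal.span {a}).minimalPrimes
  have hS : S.Finite := Ideal.finite_minimalPrimes_of_isNoetherianRing A _
  by_cases hPS : P ∈ S
  · exact ⟨a, hPS⟩
  classical
  let T := hS.toFinset.filter (· ≤ P)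
  obtain ⟨b, hbP, hbp, hbT⟩ : ∃ b ∈ P, b ∉ p ∧ ∀ q₁ ∈ T, b ∉ q₁ := by
    by_contra hcon
    push Not at hcon
    have hsub : (P : Set A) ⊆ ⋃ i ∈ ((insert p T : Finset (Ideal A)) : Set (Ideal A)), (i : Set A) := by
      intro b hb
      rw [Set.mem_iUnion₂]
      by_cases hbp : b ∈ p
      · exact ⟨p, Finset.mem_coe.mpr (Finset.mem_insert_self _ _), hbp⟩
      · obtain ⟨q₁, hq₁, hbq⟩ := hcon b hb hbp
        exact ⟨q₁, Finset.mem_coe.mpr (Finset.mem_insert_of_mem hq₁), hbq⟩
    obtain ⟨i, hi, hle⟩ := (Ideal.subset_union_prime p p (fun i hi _ _ ↦ by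
      rcases Finset.mem_insert.mp hi with rfl | hi
      · exact hp
      · exact (hS.mem_toFinset.mp (Finset.mem_filter.mp hi).1).1.1)).mp hsub
    rcases Finset.mem_insert.mp hi with rfl | hi
    · exact hpP.not_ge hle
    · obtain ⟨hi₁, hi₂⟩ := Finset.mem_filter.mp hi
      exact hPS (le_antisymm hi₂ hle ▸ hS.mem_toFinset.mp hi₁)
  obtain ⟨q, hq, hqP⟩ := Ideal.exists_minimalPrimes_le (I := p ⊔ Ideal.span {b}) (J := P)
    (sup_le hpP.le (Ideal.span_le.mpr (Set.singleton_subset_iff.mpr hbP)))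
  rcases hqP.lt_or_eq with hlt | rfl
  swap
  · exact ⟨b, hq⟩
  have hpq : p < q := lt_of_le_of_ne (le_sup_left.trans hq.1.2) fun e ↦
    hbp (e ▸ hq.1.2 (Ideal.mem_sup_right (Ideal.mem_span_singleton_self b)))
  have haq : a ∈ q := by_contra fun haq ↦ hmax q ⟨hq.1.1, hp₀.trans hpq.le, hlt, haq⟩ hpq
  have := hq.1.1
  obtain ⟨q₁, hq₁, hq₁q⟩ := Ideal.exists_minimalPrimes_le (I := p ⊔ Ideal.span {a}) (J := q)
    (sup_le hpq.le (Ideal.span_le.mpr (Set.singleton_subset_iff.mpr haq)))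
  have := hq₁.1.1
  have hne : q₁ ≠ q := fun e ↦ hbT q₁
    (Finset.mem_filter.mpr ⟨hS.mem_toFinset.mpr hq₁, hq₁q.trans hqP⟩)
    (e ▸ hq.1.2 (Ideal.mem_sup_right (Ideal.mem_span_singleton_self b)))
  have := eq_of_lt_of_mem_minimalPrimes hq (le_sup_left.trans hq₁.1.2) (lt_of_le_of_ne hq₁q hne)
  exact absurd (hq₁.1.2 (Ideal.mem_sup_right (Ideal.mem_span_singleton_self a))) (this ▸ hap)

/-- Over a Noetherian base, lifting of generisations already keeps independence at some lift. -/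
theorem exists_genAt_of_lifts [IsNoetherianRing A] [Algebra.FiniteType A B] (n : PrimeSpectrum B)
    [Finite σ] (t : σ → B) (ht : GenAt (A := A) t n.asIdeal) (p₀ : Ideal A)
    (hp₀ : p₀ ∈ minimalPrimes A) (hle : p₀ ≤ n.asIdeal.under A)
    (H : ∀ p : Ideal A, p.IsPrime → p₀ ≤ p → p ≤ n.asIdeal.under A →
      ∃ q : PrimeSpectrum B, q.asIdeal ≤ n.asIdeal ∧ q.asIdeal.under A = p) :
    ∃ q : PrimeSpectrum B, q.asIdeal ≤ n.asIdeal ∧ q.asIdeal.under A = p₀ ∧
      GenAt (A := A) t q.asIdeal := by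
  classical
  have hp₀p : p₀.IsPrime := hp₀.1.1
  rcases hle.lt_or_eq with hlt | heq
  swap
  · exact ⟨n, le_rfl, heq.symm, ht⟩
  have : IsNoetherianRing B := Algebra.FiniteType.isNoetherianRing A B
  by_contra hcon
  push Not at hcon
  have key : ∀ qi : Ideal B, qi.IsPrime → qi ≤ n.asIdeal → ∃ a, a ∉ p₀ ∧ ∀ q : Ideal B, q.IsPrime →
      qi ≤ q → a ∉ q.under A → ¬ GenAt (A := A) t q := by
    intro qi hqi hqin
    by_cases he : qi.under A ≤ p₀
    · have he' : qi.under A = p₀ := le_antisymm he (hp₀.2 ⟨inferInstance, bot_le⟩ he)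
      have h1 := hcon ⟨qi, hqi⟩ hqin he'
      rw [genAt_iff_comap, he'] at h1
      obtain ⟨F₀, hF₀, hF₀'⟩ : ∃ F₀, F₀ ∈ qi.comap (MvPolynomial.aeval (R := A) t).toRingHom ∧
          F₀ ∉ p₀.map (MvPolynomial.C : A →+* MvPolynomial σ A) := by
        by_contra h2
        push Not at h2
        refine h1 (le_antisymm h2 (Ideal.map_le_iff_le_comap.mpr fun a ha ↦ ?_))
        show MvPolynomial.aeval t (MvPolynomial.C a) ∈ qi
        rw [MvPolynomial.aeval_C]
        exact he'.ge ha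
      rw [MvPolynomial.mem_map_C_iff] at hF₀'
      push Not at hF₀'
      obtain ⟨m, hm⟩ := hF₀'
      refine ⟨F₀.coeff m, hm, fun q hq hqq haq hgen ↦ ?_⟩
      rw [genAt_iff_comap] at hgen
      have h3 : F₀ ∈ (q.under A).map (MvPolynomial.C : A →+* MvPolynomial σ A) :=
        hgen ▸ Ideal.comap_mono hqq hF₀
      exact haq (MvPolynomial.mem_map_C_iff.mp h3 m)
    · obtain ⟨a, ha, ha'⟩ := SetLike.not_le_iff_exists.mp he
      exact ⟨a, ha', fun q _ hqq haq _ ↦ haq (Ideal.comap_mono hqq ha)⟩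
  let S := (minimalPrimes.finite_of_isNoetherianRing B).toFinset.filter (· ≤ n.asIdeal)
  have hS : ∀ qi ∈ S, qi.IsPrime ∧ qi ≤ n.asIdeal := fun qi h ↦ by
    obtain ⟨h1, h2⟩ := Finset.mem_filter.mp h
    exact ⟨((minimalPrimes.finite_of_isNoetherianRing B).mem_toFinset.mp h1).1.1, h2⟩
  choose a ha hbad using key
  let c := ∏ qi ∈ S.attach, a qi.1 (hS _ qi.2).1 (hS _ qi.2).2
  have hc : c ∉ p₀ := fun h ↦ by
    obtain ⟨qi, -, hqi⟩ := Ideal.IsPrime.prod_mem_iff.mp h
    exact ha _ _ _ hqi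
  obtain ⟨p, hp, hp₀le, hpP, hcp, b, hb⟩ := exists_prime_dim_one hlt hc
  obtain ⟨q, hqn, hqp⟩ := H p hp hp₀le hpP.le
  obtain ⟨qi, hqi, hqiq⟩ := Ideal.exists_minimalPrimes_le (I := (⊥ : Ideal B)) (J := q.asIdeal) bot_le
  have hqiS : qi ∈ S := Finset.mem_filter.mpr
    ⟨(minimalPrimes.finite_of_isNoetherianRing B).mem_toFinset.mpr hqi, hqiq.trans hqn⟩
  have hai : a qi (hS _ hqiS).1 (hS _ hqiS).2 ∉ q.asIdeal.under A := by
    rw [hqp]
    intro h
    exact hcp (Ideal.mem_of_dvd p (Finset.dvd_prod_of_mem _ (Finset.mem_attach _ ⟨qi, hqiS⟩)) h)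
  have hnot := hbad qi _ _ q.asIdeal q.isPrime hqiq hai
  rw [genAt_iff_comap, hqp] at hnot
  -- the height argument in the polynomial ring
  let Q := q.asIdeal.comap (MvPolynomial.aeval (R := A) t).toRingHom
  let PT : Ideal (MvPolynomial σ A) := (n.asIdeal.under A).map MvPolynomial.C
  let pT : Ideal (MvPolynomial σ A) := p.map MvPolynomial.C
  have hCp : ∀ I : Ideal A, (I.map (MvPolynomial.C : A →+* MvPolynomial σ A)).comap MvPolynomial.C = I :=
    fun I ↦ le_antisymm (fun x hx ↦ by simpa using MvPolynomial.mem_map_C_iff.mp hx 0)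
      Ideal.le_comap_map
  have : pT.IsPrime := by
    show (p.map (MvPolynomial.C : A →+* MvPolynomial σ A)).IsPrime
    rw [← Ideal.mk_ker (I := p), ← MvPolynomial.ker_map]
    exact RingHom.ker_isPrime _
  have hQP : Q ≤ PT := by
    show q.asIdeal.comap _ ≤ (n.asIdeal.under A).map MvPolynomial.C
    rw [← (genAt_iff_comap t n.asIdeal).mp ht]
    exact Ideal.comap_mono hqn
  have hQC : Q.comap MvPolynomial.C = p := by
    show (q.asIdeal.comap _).comap MvPolynomial.C = p
    rw [Ideal.comap_comap, AlgHom.toRingHom_eq_coe, ← MvPolynomial.algebraMap_eq,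
      AlgHom.comp_algebraMap]
    exact hqp
  have hQlt : Q < PT := lt_of_le_of_ne hQP fun e ↦ hpP.ne (by rw [← hQC, e, hCp])
  have hmin : PT ∈ (pT ⊔ Ideal.span {MvPolynomial.C b}).minimalPrimes := by
    have hPTp : PT.IsPrime := by
      show ((n.asIdeal.under A).map (MvPolynomial.C : A →+* MvPolynomial σ A)).IsPrime
      rw [← Ideal.mk_ker (I := n.asIdeal.under A), ← MvPolynomial.ker_map]
      exact RingHom.ker_isPrime _
    refine ⟨⟨hPTp, sup_le (Ideal.map_mono hpP.le) (Ideal.span_le.mpr (Set.singleton_subset_iff.mpr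
      (Ideal.mem_map_of_mem _ (hb.1.2 (Ideal.mem_sup_right (Ideal.mem_span_singleton_self b))))))⟩,
      fun Z hZ hZP ↦ Ideal.map_le_iff_le_comap.mpr (hb.2 ⟨hZ.1.comap _, sup_le
        (Ideal.map_le_iff_le_comap.mp (le_sup_left.trans hZ.2))
        (Ideal.span_le.mpr (Set.singleton_subset_iff.mpr
          (hZ.2 (Ideal.mem_sup_right (Ideal.mem_span_singleton_self _)))))⟩
        (by rw [← hCp (n.asIdeal.under A)]; exact Ideal.comap_mono hZP))⟩
  exact hnot (eq_of_lt_of_mem_minimalPrimes hmin (Ideal.map_le_iff_le_comap.mpr hQC.ge) hQlt)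

end Groth.Agent.Unibranch
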