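import Groth.Agent.Unibranch.FibreDim
import Groth.Agent.Unibranch.Lifting

/-!
# Chains in fibres, their bound by relative dimensions, and semicontinuity
-/

universe u

open CategoryTheory AlgebraicGeometry Topology TopologicalSpace

namespace Groth.Agent.Unibranch

variable {X Y : Scheme.{u}}

/-- All chains of points of `S` over `y` have length at most `e`. -/
def ChainsLE (f : X ⟶ Y) (S : Set X) (y : Y) (e : ℕ) : Prop :=
  ∀ (k : ℕ) (c : Fin (k + 1) → X), (∀ i, c i ∈ S ∧ f (c i) = y) → IsChain' c → k ≤ e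

/-- There is a chain of length `k` of points of `S` over `y`. -/
def HasChain (f : X ⟶ Y) (S : Set X) (y : Y) (k : ℕ) : Prop :=
  ∃ c : Fin (k + 1) → X, (∀ i, c i ∈ S ∧ f (c i) = y) ∧ IsChain' c

theorem ChainsLE.mono {f : X ⟶ Y} {S T : Set X} {y : Y} {e : ℕ} (h : ChainsLE f T y e) (hST : S ⊆ T) :
    ChainsLE f S y e :=
  fun k c hc ↦ h k c fun i ↦ ⟨hST (hc i).1, (hc i).2⟩

theorem HasChain.mono {f : X ⟶ Y} {S T : Set X} {y : Y} {k : ℕ} (h : HasChain f S y k) (hST : S ⊆ T) :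
    HasChain f T y k := by
  obtain ⟨c, hc, hc'⟩ := h
  exact ⟨c, fun i ↦ ⟨hST (hc i).1, (hc i).2⟩, hc'⟩

theorem HasChain.le {f : X ⟶ Y} {S : Set X} {y : Y} {k e : ℕ} (h : HasChain f S y k)
    (he : ChainsLE f S y e) : k ≤ e := by
  obtain ⟨c, hc, hc'⟩ := h
  exact he k c hc hc'

theorem HasChain.anti {f : X ⟶ Y} {S : Set X} {y : Y} {k m : ℕ} (h : HasChain f S y m) (hkm : k ≤ m) :
    HasChain f S y k := by
  obtain ⟨c, hc, hc'⟩ := h
  refine ⟨fun i ↦ c (Fin.castLE (by omega) i), fun i ↦ hc _, fun i ↦ ?_⟩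
  exact hc' ⟨i, i.2.trans_le hkm⟩

theorem hasChain_of_forall_le {f : X ⟶ Y} {S : Set X} {y : Y} {m : ℕ}
    (h0 : ∃ x ∈ S, f x = y) (h : ∀ e, ChainsLE f S y e → m ≤ e) : HasChain f S y m := by
  rcases m.eq_zero_or_pos with rfl | hm
  · obtain ⟨x, hx, hxy⟩ := h0
    exact ⟨fun _ ↦ x, fun _ ↦ ⟨hx, hxy⟩, fun i ↦ i.elim0⟩
  by_contra hno
  have : m ≤ m - 1 := h (m - 1) fun k c hc hc' ↦ by
    by_contra hk
    exact hno (HasChain.anti ⟨c, hc, hc'⟩ (by omega))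
  omega

theorem le_of_forall_natCast_le {a b : WithBot ℕ∞}
    (h : ∀ k : ℕ, (k : WithBot ℕ∞) ≤ a → (k : WithBot ℕ∞) ≤ b) : a ≤ b := by
  cases a with
  | bot => exact bot_le
  | coe a =>
    cases b with
    | bot => exact absurd (h 0 (WithBot.coe_le_coe.mpr zero_le)) (by simp)
    | coe b =>
      exact WithBot.coe_le_coe.mpr
        (ENat.forall_natCast_le_iff_le.mp fun k hk ↦ WithBot.coe_le_coe.mp (h k (WithBot.coe_le_coe.mpr hk)))

theorem natCast_le_iff_of_le_iff {a : WithBot ℕ∞} {m : ℕ} :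
    a ≤ (m : WithBot ℕ∞) ↔ ∀ k : ℕ, (k : WithBot ℕ∞) ≤ a → k ≤ m :=
  ⟨fun h _ hk ↦ ENat.natCast_le_natCast.mp (WithBot.coe_le_coe.mp (hk.trans h)),
    fun h ↦ le_of_forall_natCast_le fun k hk ↦
      WithBot.coe_le_coe.mpr (ENat.natCast_le_natCast.mpr (h k hk))⟩

/-! ### Topological dimension of subspaces of fibres -/

section Dim

variable {α : Type*} [TopologicalSpace α] (f : X ⟶ Y) {S : Set X} {y : Y} {j : α → X}

theorem natCast_le_topologicalKrullDim_iff [QuasiSober α] (hj : IsEmbedding j)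
    (hr : Set.range j = S ∩ f ⁻¹' {y}) {k : ℕ} :
    (k : WithBot ℕ∞) ≤ topologicalKrullDim α ↔ HasChain f S y k := by
  have : T0Space α := hj.t0Space
  constructor
  · intro h
    obtain ⟨c, hc⟩ := exists_chain_of_le_topologicalKrullDim h
    exact ⟨j ∘ c, fun i ↦ hr.le ⟨c i, rfl⟩,
      fun i ↦ ⟨(hc i).1.map hj.continuous, fun e ↦ (hc i).2 (hj.injective e)⟩⟩
  · rintro ⟨c, hc, hc'⟩
    choose d hd using fun i ↦ hr.ge (show c i ∈ S ∩ f ⁻¹' {y} from hc i)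
    refine natCast_le_topologicalKrullDim d fun i ↦ ⟨?_, fun e ↦ (hc' i).2 ?_⟩
    · rw [← hj.isInducing.specializes_iff, hd, hd]
      exact (hc' i).1
    · rw [← hd, ← hd, e]

theorem topologicalKrullDim_le_iff [QuasiSober α] (hj : IsEmbedding j)
    (hr : Set.range j = S ∩ f ⁻¹' {y}) {e : ℕ} :
    topologicalKrullDim α ≤ (e : WithBot ℕ∞) ↔ ChainsLE f S y e :=
  natCast_le_iff_of_le_iff.trans
    ⟨fun h k c hc hc' ↦ h k ((natCast_le_topologicalKrullDim_iff f hj hr).mpr ⟨c, hc, hc'⟩),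
      fun h _ hk ↦ ((natCast_le_topologicalKrullDim_iff f hj hr).mp hk).le h⟩

omit [TopologicalSpace α] in
theorem range_restrict_preimage (hr : Set.range j = S ∩ f ⁻¹' {y}) (U : Set X) :
    Set.range (j ∘ ((↑) : j ⁻¹' U → α)) = (U ∩ S) ∩ f ⁻¹' {y} := by
  rw [Set.range_comp, Subtype.range_coe, Set.image_preimage_eq_inter_range, hr, Set.inter_assoc]

theorem natCast_le_localDim_iff [QuasiSober α] (hj : IsEmbedding j)
    (hr : Set.range j = S ∩ f ⁻¹' {y}) {a : α} {x : X} (ha : j a = x) {k : ℕ} :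
    (k : WithBot ℕ∞) ≤ FlatMor.localDim α a ↔ ∀ U : X.Opens, x ∈ U → HasChain f ((U : Set X) ∩ S) y k := by
  subst ha
  rw [FlatMor.localDim, le_iInf_iff]
  constructor
  · intro h U hU
    let O : Opens α := ⟨j ⁻¹' U, U.2.preimage hj.continuous⟩
    have : QuasiSober (j ⁻¹' (U : Set X)) := O.2.isOpenEmbedding_subtypeVal.quasiSober
    exact (natCast_le_topologicalKrullDim_iff f (hj.comp IsEmbedding.subtypeVal)
      (range_restrict_preimage f hr U)).mp (h ⟨O, hU⟩)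
  · rintro h ⟨⟨O, hO⟩, haO⟩
    obtain ⟨U, hU, rfl⟩ := hj.isInducing.isOpen_iff.mp hO
    have : QuasiSober (j ⁻¹' U) := hO.isOpenEmbedding_subtypeVal.quasiSober
    exact (natCast_le_topologicalKrullDim_iff f (hj.comp IsEmbedding.subtypeVal)
      (range_restrict_preimage f hr U)).mpr (h ⟨U, hU⟩ haO)

theorem localDim_le_iff [QuasiSober α] (hj : IsEmbedding j)
    (hr : Set.range j = S ∩ f ⁻¹' {y}) {a : α} {x : X} (ha : j a = x) {e : ℕ} :
    FlatMor.localDim α a ≤ (e : WithBot ℕ∞) ↔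
      ∃ U : X.Opens, x ∈ U ∧ ChainsLE f ((U : Set X) ∩ S) y e := by
  rw [natCast_le_iff_of_le_iff]
  constructor
  · intro h
    by_contra hno
    push Not at hno
    have : e + 1 ≤ e := h _ ((natCast_le_localDim_iff f hj hr ha).mpr fun U hU ↦ by
      obtain ⟨k, c, hc, hc', hk⟩ : ∃ k c, (∀ i, c i ∈ (U : Set X) ∩ S ∧ f (c i) = y) ∧ IsChain' c ∧
          e < (k : ℕ) := by
        have h1 := hno U hU
        simp only [ChainsLE] at h1
        push Not at h1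
        exact h1
      exact HasChain.anti ⟨c, hc, hc'⟩ hk)
    omega
  · rintro ⟨U, hU, hc⟩ k hk
    exact ((natCast_le_localDim_iff f hj hr ha).mp hk U hU).le hc

end Dim

theorem quasiSober_inter (f : X ⟶ Y) {S : Set X} (hS : IsLocallyClosed S) (y : Y) :
    QuasiSober ↥(S ∩ f ⁻¹' {y}) := by
  obtain ⟨U, Z, hU, hZ, rfl⟩ := hS
  let ι := f.fiberι y
  have h1 : QuasiSober (ι ⁻¹' U) := (hU.preimage ι.continuous).isOpenEmbedding_subtypeVal.quasiSober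
  let T : Set (ι ⁻¹' U) := {a | ι a.1 ∈ Z}
  have h2 : QuasiSober T :=
    (hZ.preimage (ι.continuous.comp continuous_subtype_val)).isClosedEmbedding_subtypeVal.quasiSober
  let φ : T → ↥((U ∩ Z) ∩ f ⁻¹' {y}) := fun a ↦
    ⟨ι a.1.1, ⟨a.1.2, a.2⟩, (f.range_fiberι y).le ⟨_, rfl⟩⟩
  have hφ : IsEmbedding φ := IsEmbedding.of_comp (by fun_prop) continuous_subtype_val
    (ι.isEmbedding.comp (IsEmbedding.subtypeVal.comp IsEmbedding.subtypeVal))
  have hsurj : Function.Surjective φ := fun ⟨z, ⟨hzU, hzZ⟩, hzy⟩ ↦ by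
    obtain ⟨a, rfl⟩ := (f.range_fiberι y).ge hzy
    exact ⟨⟨⟨a, hzU⟩, hzZ⟩, rfl⟩
  exact ((hφ.toHomeomorph).trans ((Homeomorph.setCongr hsurj.range_eq).trans
    (Homeomorph.Set.univ _))).symm.isOpenEmbedding.quasiSober

theorem natCast_le_topologicalKrullDim_inter_iff (f : X ⟶ Y) {S : Set X} (hS : IsLocallyClosed S)
    (y : Y) {k : ℕ} :
    (k : WithBot ℕ∞) ≤ topologicalKrullDim ↥(S ∩ f ⁻¹' {y}) ↔ HasChain f S y k :=
  have := quasiSober_inter f hS y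
  natCast_le_topologicalKrullDim_iff f IsEmbedding.subtypeVal Subtype.range_coe

theorem topologicalKrullDim_inter_le_iff (f : X ⟶ Y) {S : Set X} (hS : IsLocallyClosed S)
    (y : Y) {e : ℕ} :
    topologicalKrullDim ↥(S ∩ f ⁻¹' {y}) ≤ (e : WithBot ℕ∞) ↔ ChainsLE f S y e :=
  have := quasiSober_inter f hS y
  topologicalKrullDim_le_iff f IsEmbedding.subtypeVal Subtype.range_coe

theorem natCast_le_localDim_inter_iff (f : X ⟶ Y) {S : Set X} (hS : IsLocallyClosed S)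
    {y : Y} {x : X} (hx : x ∈ S ∩ f ⁻¹' {y}) {k : ℕ} :
    (k : WithBot ℕ∞) ≤ FlatMor.localDim ↥(S ∩ f ⁻¹' {y}) ⟨x, hx⟩ ↔
      ∀ U : X.Opens, x ∈ U → HasChain f ((U : Set X) ∩ S) y k :=
  have := quasiSober_inter f hS y
  natCast_le_localDim_iff f IsEmbedding.subtypeVal Subtype.range_coe rfl

theorem localDim_inter_le_iff (f : X ⟶ Y) {S : Set X} (hS : IsLocallyClosed S)
    {y : Y} {x : X} (hx : x ∈ S ∩ f ⁻¹' {y}) {e : ℕ} :
    FlatMor.localDim ↥(S ∩ f ⁻¹' {y}) ⟨x, hx⟩ ≤ (e : WithBot ℕ∞) ↔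
      ∃ U : X.Opens, x ∈ U ∧ ChainsLE f ((U : Set X) ∩ S) y e :=
  have := quasiSober_inter f hS y
  localDim_le_iff f IsEmbedding.subtypeVal Subtype.range_coe rfl

theorem natCast_le_fibreDimAt_iff (f : X ⟶ Y) (x : X) {k : ℕ} :
    (k : WithBot ℕ∞) ≤ FlatMor.fibreDimAt f x ↔ ∀ U : X.Opens, x ∈ U → HasChain f U (f x) k := by
  refine (natCast_le_localDim_iff f (S := Set.univ) (y := f x) (f.fiberι (f x)).isEmbedding ?_ (f.fiberι_asFiber x)).trans
    (by simp only [Set.inter_univ])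
  rw [Scheme.Hom.range_fiberι, Set.univ_inter]

theorem fibreDimAt_le_iff (f : X ⟶ Y) (x : X) {e : ℕ} :
    FlatMor.fibreDimAt f x ≤ (e : WithBot ℕ∞) ↔ ∃ U : X.Opens, x ∈ U ∧ ChainsLE f U (f x) e := by
  refine (localDim_le_iff f (S := Set.univ) (y := f x) (f.fiberι (f x)).isEmbedding ?_ (f.fiberι_asFiber x)).trans
    (by simp only [Set.inter_univ])
  rw [Scheme.Hom.range_fiberι, Set.univ_inter]

/-- The local dimension of a fibre is a natural number. -/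
theorem exists_fibreDimAt_eq (f : X ⟶ Y) [LocallyOfFiniteType f] (x : X) :
    ∃ d : ℕ, FlatMor.fibreDimAt f x = (d : WithBot ℕ∞) := by
  obtain ⟨s, hs⟩ := exists_fibreDimAt_le f x
  have h0 : ((0 : ℕ) : WithBot ℕ∞) ≤ FlatMor.fibreDimAt f x :=
    (natCast_le_fibreDimAt_iff f x).mpr fun U hU ↦
      ⟨fun _ ↦ x, fun _ ↦ ⟨hU, rfl⟩, fun i ↦ i.elim0⟩
  classical
  let d := Nat.findGreatest (fun k ↦ (k : WithBot ℕ∞) ≤ FlatMor.fibreDimAt f x) s
  refine ⟨d, le_antisymm (natCast_le_iff_of_le_iff.mpr fun k hk ↦ Nat.le_findGreatest ?_ hk) ?_⟩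
  · exact natCast_le_iff_of_le_iff.mp hs k hk
  · exact Nat.findGreatest_spec (P := fun k ↦ (k : WithBot ℕ∞) ≤ FlatMor.fibreDimAt f x)
      (Nat.zero_le s) h0

/-! ### Relative dimension in affine charts -/

/-- An affine chart of `f` at a point inside a given open. -/
theorem exists_chart_le (f : X ⟶ Y) {x : X} {U : X.Opens} (hxU : x ∈ U) :
    ∃ (V : Y.Opens) (W : X.Opens), IsAffineOpen V ∧ IsAffineOpen W ∧ x ∈ W ∧ W ≤ f ⁻¹ᵁ V ∧ W ≤ U := by
  obtain ⟨SV, hSV, hyV, -⟩ := Y.isBasis_affineOpens.exists_subset_of_mem_open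
    (Set.mem_univ (f x)) isOpen_univ
  obtain ⟨V, hV, rfl⟩ : ∃ U : Y.Opens, IsAffineOpen U ∧ (U : Set Y) = SV := hSV
  obtain ⟨SW, hSW, hxW, hWV⟩ := X.isBasis_affineOpens.exists_subset_of_mem_open
    (show x ∈ (f ⁻¹ᵁ V ⊓ U : X.Opens) from ⟨hyV, hxU⟩) (f ⁻¹ᵁ V ⊓ U).2
  obtain ⟨W, hW, rfl⟩ : ∃ U : X.Opens, IsAffineOpen U ∧ (U : Set X) = SW := hSW
  exact ⟨V, W, hV, hW, hxW, fun z hz ↦ (hWV hz).1, fun z hz ↦ (hWV hz).2⟩

theorem fromSpec_comap_appLE (f : X ⟶ Y) {V : Y.Opens} {W : X.Opens} (hV : IsAffineOpen V)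
    (hW : IsAffineOpen W) (hWV : W ≤ f ⁻¹ᵁ V) (q : PrimeSpectrum Γ(X, W)) :
    hV.fromSpec (PrimeSpectrum.comap (f.appLE V W hWV).hom q) = f (hW.fromSpec q) :=
  ((Scheme.Hom.comp_apply _ _ _).symm.trans
    (congr($(IsAffineOpen.SpecMap_appLE_fromSpec f hV hW hWV) q))).trans (Scheme.Hom.comp_apply _ _ _)

theorem primeIdealOf_le_iff {W : X.Opens} (hW : IsAffineOpen W) {a b : X} (ha : a ∈ W) (hb : b ∈ W) :
    (hW.primeIdealOf ⟨a, ha⟩).asIdeal ≤ (hW.primeIdealOf ⟨b, hb⟩).asIdeal ↔ a ⤳ b := by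
  rw [PrimeSpectrum.asIdeal_le_asIdeal, PrimeSpectrum.le_iff_specializes]
  have h := hW.fromSpec.isOpenEmbedding.isInducing.specializes_iff
    (x := hW.primeIdealOf ⟨a, ha⟩) (y := hW.primeIdealOf ⟨b, hb⟩)
  rw [hW.fromSpec_primeIdealOf, hW.fromSpec_primeIdealOf] at h
  exact h.symm

/-- The relative dimension of a point computed in an affine chart. -/
noncomputable def rdimIn (f : X ⟶ Y) {V : Y.Opens} {W : X.Opens} (hW : IsAffineOpen W)
    (hWV : W ≤ f ⁻¹ᵁ V) (ζ : X) (hζ : ζ ∈ W) : ℕ :=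
  letI := (f.appLE V W hWV).hom.toAlgebra
  rdim Γ(Y, V) (hW.primeIdealOf ⟨ζ, hζ⟩).asIdeal

section Chart

variable {f : X ⟶ Y} [LocallyOfFiniteType f] {V : Y.Opens} {W : X.Opens} (hV : IsAffineOpen V)
  (hW : IsAffineOpen W) (hWV : W ≤ f ⁻¹ᵁ V) {ζ : X} (hζW : ζ ∈ W)

include hV

theorem chainsLE_rdimIn :
    ChainsLE f ((W : Set X) ∩ closure {ζ}) (f ζ) (rdimIn f hW hWV ζ hζW) := by
  intro k c hc hc'
  let := (f.appLE V W hWV).hom.toAlgebra
  have : Algebra.FiniteType Γ(Y, V) Γ(X, W) := f.finiteType_appLE hV hW hWV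
  let l : LTSeries (PrimeSpectrum Γ(X, W)) :=
    ⟨k, fun i ↦ hW.primeIdealOf ⟨c i, (hc i).1.1⟩, fun i ↦ by
      refine lt_of_le_of_ne ((primeIdealOf_le_iff hW _ _).mpr (hc' i).1) fun h ↦ (hc' i).2 ?_
      have h1 := congrArg hW.fromSpec (PrimeSpectrum.ext h)
      exact (hW.fromSpec_primeIdealOf ⟨c _, (hc _).1.1⟩).symm.trans
        (h1.trans (hW.fromSpec_primeIdealOf ⟨c _, (hc _).1.1⟩))⟩
  refine length_le_rdim (A := Γ(Y, V)) (hW.primeIdealOf ⟨ζ, hζW⟩) l (fun i ↦ ?_) ?_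
  · apply hV.fromSpec.isOpenEmbedding.injective
    rw [RingHom.algebraMap_toAlgebra, fromSpec_comap_appLE f hV hW hWV,
      fromSpec_comap_appLE f hV hW hWV, hW.fromSpec_primeIdealOf, hW.fromSpec_primeIdealOf]
    exact (hc i).2
  · exact (primeIdealOf_le_iff hW _ _).mpr (specializes_iff_mem_closure.mpr (hc 0).1.2)

theorem rdimIn_le {x : X} (hx : ζ ⤳ x) (hxW : x ∈ W) {U : X.Opens} (hxU : x ∈ U) {e : ℕ}
    (h : ChainsLE f ((U : Set X) ∩ closure {ζ}) (f x) e) : rdimIn f hW hWV ζ hζW ≤ e := by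
  let := (f.appLE V W hWV).hom.toAlgebra
  have : Algebra.FiniteType Γ(Y, V) Γ(X, W) := f.finiteType_appLE hV hW hWV
  obtain ⟨_, ⟨g, rfl⟩, hgx, hgU⟩ := PrimeSpectrum.isTopologicalBasis_basic_opens.exists_subset_of_mem_open
    (show hW.primeIdealOf ⟨x, hxW⟩ ∈ hW.fromSpec ⁻¹' U by
      show hW.fromSpec _ ∈ U
      rw [hW.fromSpec_primeIdealOf]; exact hxU) (U.2.preimage hW.fromSpec.continuous)
  refine rdim_le_of_chains (A := Γ(Y, V)) _ (hW.primeIdealOf ⟨x, hxW⟩)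
    ((primeIdealOf_le_iff hW _ _).mpr hx) hgx fun l hl ↦
      h l.length (fun i ↦ hW.fromSpec (l i)) (fun i ↦ ⟨⟨hgU (hl i).2.2, ?_⟩, ?_⟩) fun i ↦ ⟨?_, ?_⟩
  · rw [← specializes_iff_mem_closure]
    have := ((PrimeSpectrum.le_iff_specializes _ _).mp (hl i).2.1).map hW.fromSpec.continuous
    rwa [hW.fromSpec_primeIdealOf] at this
  · rw [← fromSpec_comap_appLE f hV hW hWV]
    refine (congrArg hV.fromSpec (hl i).1).trans ((fromSpec_comap_appLE f hV hW hWV _).trans ?_)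
    rw [hW.fromSpec_primeIdealOf]
  · exact ((PrimeSpectrum.le_iff_specializes _ _).mp (l.step i).le).map hW.fromSpec.continuous
  · exact fun e ↦ (show l i.castSucc < l i.succ from l.step i).ne (hW.fromSpec.isOpenEmbedding.injective e)

theorem hasChain_rdimIn :
    HasChain f ((W : Set X) ∩ closure {ζ}) (f ζ) (rdimIn f hW hWV ζ hζW) :=
  hasChain_of_forall_le ⟨ζ, ⟨hζW, subset_closure rfl⟩, rfl⟩ fun _ he ↦
    rdimIn_le hV hW hWV hζW specializes_rfl hζW hζW he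

end Chart

/-- Semicontinuity: a bound for chains near `x` in `closure {ζ}` bounds all chains over `f ζ`. -/
theorem chainsLE_of_specializes (f : X ⟶ Y) [LocallyOfFiniteType f] {ζ x : X} (hx : ζ ⤳ x)
    {U : X.Opens} (hxU : x ∈ U) {e : ℕ} (h : ChainsLE f ((U : Set X) ∩ closure {ζ}) (f x) e) :
    ChainsLE f (closure {ζ}) (f ζ) e := by
  intro k c hc hc'
  obtain ⟨V, W, hV, hW, hxW, hWV, -⟩ := exists_chart_le f hxU
  obtain ⟨V', W', hV', hW', hcW', hWV', -⟩ :=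
    exists_chart_le f (U := ⊤) (x := c (Fin.last k)) trivial
  have hcmem : ∀ i, c i ∈ W' := fun i ↦ by
    induction i using Fin.reverseInduction with
    | last => exact hcW'
    | cast i hi => exact (hc' i).1.mem_open W'.2 hi
  have hζW' : ζ ∈ W' := (specializes_iff_mem_closure.mpr (hc 0).1).mem_open W'.2 (hcmem 0)
  have hζW : ζ ∈ W := hx.mem_open W.2 hxW
  calc k ≤ rdimIn f hW' hWV' ζ hζW' :=
        chainsLE_rdimIn hV' hW' hWV' hζW' k c (fun i ↦ ⟨⟨hcmem i, (hc i).1⟩, (hc i).2⟩) hc'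
    _ ≤ rdimIn f hW hWV ζ hζW :=
        rdimIn_le hV' hW' hWV' hζW' specializes_rfl hζW' hζW
          ((chainsLE_rdimIn hV hW hWV hζW).mono le_rfl)
    _ ≤ e := rdimIn_le hV hW hWV hζW hx hxW hxU h

/-- A long chain over `f ζ` gives one as long near any specialisation. -/
theorem HasChain.of_specializes {f : X ⟶ Y} [LocallyOfFiniteType f] {ζ x : X} {k : ℕ}
    (h : HasChain f (closure {ζ}) (f ζ) k) (hx : ζ ⤳ x) {U : X.Opens} (hxU : x ∈ U) :
    HasChain f ((U : Set X) ∩ closure {ζ}) (f x) k :=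
  hasChain_of_forall_le ⟨x, ⟨hxU, specializes_iff_mem_closure.mp hx⟩, rfl⟩ fun _ he ↦
    h.le (chainsLE_of_specializes f hx hxU he)

/-- Chains over `f ζ` in the closure of `ζ` are bounded. -/
theorem exists_chainsLE (f : X ⟶ Y) [LocallyOfFiniteType f] (ζ : X) :
    ∃ e, ChainsLE f (closure {ζ}) (f ζ) e := by
  obtain ⟨V, W, hV, hW, hζW, hWV, -⟩ := exists_chart_le f (U := ⊤) (x := ζ) trivial
  exact ⟨_, chainsLE_of_specializes f specializes_rfl hζW (chainsLE_rdimIn hV hW hWV hζW)⟩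

end Groth.Agent.Unibranch
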