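import Groth.Agent.Unibranch.LiftDim

/-!
# Components of the source with fibres of constant dimension
-/

universe u

open CategoryTheory AlgebraicGeometry Topology TopologicalSpace

namespace Groth.Agent.Unibranch

variable {X Y : Scheme.{u}}

/-- A point without proper generisations. -/
def IsMaxPt (x : X) : Prop := ∀ z : X, z ⤳ x → z = x

theorem IsMaxPt.mem_irreducibleComponents {x : X} (h : IsMaxPt x) :
    closure ({x} : Set X) ∈ irreducibleComponents (X : Type u) := by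
  refine ⟨isIrreducible_singleton.closure, fun T hT hle ↦ ?_⟩
  obtain ⟨z, hz⟩ := QuasiSober.sober hT.closure isClosed_closure
  have h1 : z = x := h z (hz.specializes (subset_closure (hle (subset_closure rfl))))
  rw [← h1, hz.def]
  exact subset_closure

theorem exists_isMaxPt {Z : Set X} (hZ : Z ∈ irreducibleComponents (X : Type u)) :
    ∃ ζ : X, IsMaxPt ζ ∧ closure ({ζ} : Set X) = Z := by
  have hZc := isClosed_of_mem_irreducibleComponents _ hZ
  obtain ⟨ζ, hζ⟩ := QuasiSober.sober hZ.1 hZc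
  refine ⟨ζ, fun z hz ↦ ?_, hζ.def⟩
  have h1 : Z ⊆ closure {z} := by
    rw [← hζ.def]
    exact closure_minimal (Set.singleton_subset_iff.mpr hz.mem_closure) isClosed_closure
  exact ((hζ.specializes (hZ.2 isIrreducible_singleton.closure h1 (subset_closure rfl))).antisymm hz).eq.symm

theorem exists_isMaxPt_specializes (x : X) : ∃ ζ : X, IsMaxPt ζ ∧ ζ ⤳ x := by
  obtain ⟨ζ, hζ, hζZ⟩ := exists_isMaxPt (irreducibleComponent_mem_irreducibleComponents x)
  exact ⟨ζ, hζ, specializes_iff_mem_closure.mpr (hζZ ▸ mem_irreducibleComponent)⟩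

theorem closure_image_closure_singleton (f : X ⟶ Y) (ζ : X) :
    closure (f '' closure {ζ}) = closure {f ζ} := by
  rw [closure_image_closure f.continuous, Set.image_singleton]

theorem eq_of_closure_eq {a b : X} (h : closure ({a} : Set X) = closure {b}) : a = b :=
  ((show IsGenericPoint a (closure {b}) from h).eq isGenericPoint_closure)

theorem topologicalKrullDim_inter_eq (f : X ⟶ Y) {S : Set X} (hS : IsLocallyClosed S) (y : Y) {e : ℕ}
    (h₁ : ChainsLE f S y e) (h₂ : HasChain f S y e) :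
    topologicalKrullDim ↥(S ∩ f ⁻¹' {y}) = (e : WithBot ℕ∞) :=
  le_antisymm ((topologicalKrullDim_inter_le_iff f hS y).mpr h₁)
    ((natCast_le_topologicalKrullDim_inter_iff f hS y).mpr h₂)

theorem exists_dim_closure_eq (f : X ⟶ Y) [LocallyOfFiniteType f] (ζ : X) :
    ∃ e : ℕ, ChainsLE f (closure {ζ}) (f ζ) e ∧ HasChain f (closure {ζ}) (f ζ) e ∧
      topologicalKrullDim ↥(closure {ζ} ∩ f ⁻¹' {f ζ}) = (e : WithBot ℕ∞) := by
  classical
  obtain ⟨E, hE⟩ := exists_chainsLE f ζ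
  have h0 : HasChain f (closure {ζ}) (f ζ) 0 :=
    ⟨fun _ ↦ ζ, fun _ ↦ ⟨subset_closure rfl, rfl⟩, fun i ↦ i.elim0⟩
  let e := Nat.findGreatest (fun k ↦ HasChain f (closure {ζ}) (f ζ) k) E
  have h2 : HasChain f (closure {ζ}) (f ζ) e :=
    Nat.findGreatest_spec (P := fun k ↦ HasChain f (closure {ζ}) (f ζ) k) (Nat.zero_le E) h0
  have h1 : ChainsLE f (closure {ζ}) (f ζ) e := fun k c hc hc' ↦
    Nat.le_findGreatest (hE k c hc hc') ⟨c, hc, hc'⟩
  exact ⟨e, h1, h2, topologicalKrullDim_inter_eq f isClosed_closure.isLocallyClosed _ h1 h2⟩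

/-- The dimension of a fibre near a point is reached along a maximal point of the fibre. -/
theorem exists_max_hasChain (f : X ⟶ Y) [LocallyOfFiniteType f] (x : X) {d : ℕ}
    (hd : (d : WithBot ℕ∞) ≤ FlatMor.fibreDimAt f x) :
    ∃ m, m ⤳ x ∧ f m = f x ∧ (∀ w, f w = f x → w ⤳ m → w = m) ∧
      HasChain f (closure {m}) (f x) d := by
  obtain ⟨U', hxU', -, hU'⟩ := exists_opens_maximal f (U := ⊤) (x := x) trivial (f x)
  obtain ⟨c, hc, hc'⟩ := (natCast_le_fibreDimAt_iff f x).mp hd U' hxU'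
  obtain ⟨m, hmx, hmc, hfm, -, hm⟩ := hU' _ (hc 0).1 (hc 0).2
  exact ⟨m, hmx, hfm, hm, c,
    fun i ↦ ⟨specializes_iff_mem_closure.mp (hmc.trans (specializes_of_chain c hc' i)), (hc i).2⟩, hc'⟩

theorem hasChain_closure_of_maximal (f : X ⟶ Y) [LocallyOfFiniteType f] (x : X)
    (hmax : ∀ x' : X, f x' = f x → x ∈ closure {x'} → x' = x) {d : ℕ}
    (hd : (d : WithBot ℕ∞) ≤ FlatMor.fibreDimAt f x) : HasChain f (closure {x}) (f x) d := by
  obtain ⟨m, hmx, hfm, -, hc⟩ := exists_max_hasChain f x hd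
  rwa [hmax m hfm (specializes_iff_mem_closure.mp hmx)] at hc

/-- Long chains near `x` over a maximal point of the base give a component through `x`. -/
theorem exists_isMaxPt_hasChain (f : X ⟶ Y) [LocallyOfFiniteType f] {x : X} {η : Y}
    (hη : IsMaxPt η) {d : ℕ} (h : ∀ U : X.Opens, x ∈ U → HasChain f U η d) :
    ∃ ζ, IsMaxPt ζ ∧ ζ ⤳ x ∧ f ζ = η ∧ HasChain f (closure {ζ}) η d := by
  obtain ⟨U', hxU', -, hU'⟩ := exists_opens_maximal f (U := ⊤) (x := x) trivial η
  obtain ⟨c, hc, hc'⟩ := h U' hxU'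
  obtain ⟨m, hmx, hmc, hfm, -, hm⟩ := hU' _ (hc 0).1 (hc 0).2
  refine ⟨m, fun z hz ↦ hm z ?_ hz, hmx, hfm, c,
    fun i ↦ ⟨specializes_iff_mem_closure.mp (hmc.trans (specializes_of_chain c hc' i)), (hc i).2⟩, hc'⟩
  exact hη _ (hfm ▸ hz.map f.continuous)

/-- A lift with long chains gives long chains in every neighbourhood. -/
theorem hasChain_opens_of_lift {f : X ⟶ Y} [LocallyOfFiniteType f] {ζ x : X} {η : Y} {d : ℕ}
    (hζ : ζ ⤳ x) (hf : f ζ = η) (h : HasChain f (closure {ζ}) η d) {U : X.Opens} (hxU : x ∈ U) :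
    HasChain f U η d := by
  subst hf
  exact (h.of_specializes specializes_rfl (hζ.mem_open U.2 hxU)).mono Set.inter_subset_left

/-- The dimensions along a component with generic fibre as large as the fibre at `x`. -/
theorem dims_of_hasChain (f : X ⟶ Y) [LocallyOfFiniteType f] {ζ x : X} (hζ : ζ ⤳ x) {d : ℕ}
    (hd : FlatMor.fibreDimAt f x = (d : WithBot ℕ∞)) (h : HasChain f (closure {ζ}) (f ζ) d)
    (hx : x ∈ closure {ζ} ∩ f ⁻¹' {f x}) :
    FlatMor.localDim ↥(closure {ζ} ∩ f ⁻¹' {f x}) ⟨x, hx⟩ = (d : WithBot ℕ∞) ∧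
      topologicalKrullDim ↥(closure {ζ} ∩ f ⁻¹' {f ζ}) = (d : WithBot ℕ∞) := by
  obtain ⟨U, hxU, hU⟩ := (fibreDimAt_le_iff f x).mp hd.le
  have hU' : ChainsLE f ((U : Set X) ∩ closure {ζ}) (f x) d := hU.mono Set.inter_subset_left
  refine ⟨le_antisymm ((localDim_inter_le_iff f isClosed_closure.isLocallyClosed hx).mpr ⟨U, hxU, hU'⟩)
    ((natCast_le_localDim_inter_iff f isClosed_closure.isLocallyClosed hx).mpr
      fun O hO ↦ h.of_specializes hζ hO), ?_⟩
  exact topologicalKrullDim_inter_eq f isClosed_closure.isLocallyClosed _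
    (chainsLE_of_specializes f hζ hxU hU') h

/-- Universal openness from a component with constant fibre dimension. -/
theorem isUnivOpenAt_of_component [IsLocallyNoetherian Y] (f : X ⟶ Y) [LocallyOfFiniteType f] (x : X)
    (hy : CAlg2.IsGeomUnibranch (Y.presheaf.stalk (f x))) {ζ : X} (hη : IsMaxPt (f ζ)) (hζ : ζ ⤳ x)
    (hx : x ∈ closure {ζ} ∩ f ⁻¹' {f x})
    (h : FlatMor.localDim ↥(closure {ζ} ∩ f ⁻¹' {f x}) ⟨x, hx⟩ ≤
      topologicalKrullDim ↥(closure {ζ} ∩ f ⁻¹' {f ζ})) : EGA43.IsUnivOpenAt f x := by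
  obtain ⟨e, -, he, hdim⟩ := exists_dim_closure_eq f ζ
  rw [hdim] at h
  exact isUnivOpenAt_of_chainsLE f x hy hζ
    (exists_opens_forall_specializes hy (hζ.map f.continuous) hη (exists_opens_finite_components (f x)))
    ((localDim_inter_le_iff f isClosed_closure.isLocallyClosed hx).mp h) he

/-- Long chains near `x` over the generic point of `Y₀` give a component of constant fibre dimension. -/
theorem exists_component_dims (f : X ⟶ Y) [LocallyOfFiniteType f] (x : X) {d : ℕ}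
    (hd : FlatMor.fibreDimAt f x = (d : WithBot ℕ∞)) {Y₀ : Set Y}
    (hY₀ : Y₀ ∈ irreducibleComponents (Y : Type u))
    (h : ∀ η : Y, IsMaxPt η → closure ({η} : Set Y) = Y₀ →
      ∀ U : X.Opens, x ∈ U → HasChain f U η d) :
    ∃ Z ∈ irreducibleComponents (X : Type u), ∃ hx : x ∈ Z, closure (f.base '' Z) = Y₀ ∧
      ∀ η : Y, closure ({η} : Set Y) = Y₀ →
        FlatMor.localDim ↥(Z ∩ f.base ⁻¹' {f.base x}) ⟨x, ⟨hx, rfl⟩⟩ = (d : WithBot ℕ∞) ∧
          topologicalKrullDim ↥(Z ∩ f.base ⁻¹' {η}) = (d : WithBot ℕ∞) := by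
  obtain ⟨η₀, hη₀, hcl⟩ := exists_isMaxPt hY₀
  obtain ⟨ζ, hζmax, hζx, hfζ, hc⟩ := exists_isMaxPt_hasChain f hη₀ (h η₀ hη₀ hcl)
  refine ⟨closure {ζ}, hζmax.mem_irreducibleComponents, specializes_iff_mem_closure.mp hζx,
    by rw [closure_image_closure_singleton, hfζ, hcl], fun η hη ↦ ?_⟩
  obtain rfl : η = η₀ := eq_of_closure_eq (hη.trans hcl.symm)
  subst hfζ
  exact dims_of_hasChain f hζx hd hc ⟨specializes_iff_mem_closure.mp hζx, rfl⟩

end Groth.Agent.Unibranch
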