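import Groth.Agent.Unibranch.ComponentDim

/-!
# Upper semicontinuity of the dimension of fibres, in terms of chains
-/

universe u

open CategoryTheory AlgebraicGeometry Topology TopologicalSpace

namespace Groth.Agent.Unibranch

variable {A B : Type u} [CommRing A] [CommRing B] [Algebra A B]

/-- A point quasi-finite over affine space of dimension `card σ` has at most this relative dimension. -/
theorem rdim_le_of_quasiFiniteAt [Algebra.FiniteType A B] {σ : Type u} [Finite σ] (t : σ → B)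
    (q : Ideal B) [q.IsPrime]
    (hqf : letI := (MvPolynomial.aeval (R := A) t).toRingHom.toAlgebra
      Algebra.QuasiFiniteAt (MvPolynomial σ A) q) :
    rdim A q ≤ Nat.card σ := by
  let t' : σ → B ⧸ q := fun i ↦ Ideal.Quotient.mk q (t i)
  have : Algebra.FiniteType A (B ⧸ q) := .trans (R := A) (S := B) inferInstance inferInstance
  have hq' : letI := (MvPolynomial.aeval (R := A) t').toRingHom.toAlgebra
      Algebra.QuasiFiniteAt (MvPolynomial σ A) (⊥ : Ideal (B ⧸ q)) := by
    let := (MvPolynomial.aeval (R := A) t).toRingHom.toAlgebra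
    let := (MvPolynomial.aeval (R := A) t').toRingHom.toAlgebra
    have := hqf
    let π : B →ₐ[MvPolynomial σ A] B ⧸ q :=
      { Ideal.Quotient.mk q with
        commutes' := fun F ↦ by
          show Ideal.Quotient.mkₐ A q (MvPolynomial.aeval t F) = MvPolynomial.aeval t' F
          rw [← AlgHom.comp_apply, MvPolynomial.comp_aeval]
          rfl }
    refine Algebra.QuasiFiniteAt.of_surjectiveOnStalks q π
      (RingHom.surjectiveOnStalks_of_surjective Ideal.Quotient.mk_surjective) _ ?_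
    exact Ideal.mk_ker.symm.trans (RingHom.ker_eq_comap_bot _)
  have h := trdeg_le_of_quasiFiniteAt_bot (q.under A) t' hq'
  rw [← natCast_rdim q, ← Nat.cast_card] at h
  exact_mod_cast h

theorem quasiFiniteAt_of_SpecMap {R S : CommRingCat.{u}} (ψ : R ⟶ S) (p : PrimeSpectrum S)
    (h : Scheme.Hom.QuasiFiniteAt (Spec.map ψ) p) :
    letI := ψ.hom.toAlgebra
    Algebra.QuasiFiniteAt R p.asIdeal := by
  let := ψ.hom.toAlgebra
  change (Scheme.Hom.stalkMap (Spec.map ψ) p).hom.QuasiFinite at h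
  rw [RingHom.QuasiFinite.respectsIso.arrow_mk_iso_iff (Scheme.arrowStalkMapSpecIso ψ p)] at h
  have h1 : (algebraMap R (Localization.AtPrime (p.asIdeal.comap ψ.hom))).QuasiFinite :=
    RingHom.quasiFinite_algebraMap.mpr
      (Algebra.QuasiFinite.of_isLocalization (p.asIdeal.comap ψ.hom).primeCompl)
  have h2 : (Localization.localRingHom (p.asIdeal.comap ψ.hom) p.asIdeal ψ.hom rfl).comp
      (algebraMap R _) = algebraMap R (Localization.AtPrime p.asIdeal) := by
    ext r
    rw [RingHom.comp_apply, Localization.localRingHom_to_map, IsScalarTower.algebraMap_apply R S]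
    rfl
  have h3 := RingHom.QuasiFinite.stableUnderComposition _ _ h1 h
  refine RingHom.quasiFinite_algebraMap.mp ?_
  rw [← h2]
  exact h3

variable {X Y : Scheme.{u}}

/-- Near a point the chains in all fibres are no longer than near the point in its own fibre. -/
theorem exists_opens_chainsLE (f : X ⟶ Y) [LocallyOfFiniteType f] {x : X} {U : X.Opens} (hxU : x ∈ U)
    {e : ℕ} (h : ChainsLE f U (f x) e) :
    ∃ U' : X.Opens, x ∈ U' ∧ U' ≤ U ∧ ∀ y, ChainsLE f U' y e := by
  obtain ⟨V, W, hV, hW, hxW, hWV, hWU⟩ := exists_chart_le f hxU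
  let := (f.appLE V W hWV).hom.toAlgebra
  have : Algebra.FiniteType Γ(Y, V) Γ(X, W) := f.finiteType_appLE hV hW hWV
  let n := hW.primeIdealOf ⟨x, hxW⟩
  have hkey : ∀ q, hV.fromSpec (PrimeSpectrum.comap (algebraMap Γ(Y, V) Γ(X, W)) q) =
      f (hW.fromSpec q) := fun q ↦ fromSpec_comap_appLE f hV hW hWV q
  obtain ⟨t, ht⟩ := exists_quasiFiniteAt_aeval (A := Γ(Y, V)) n (e := e) fun l hl ↦ by
    refine h l.length (fun i ↦ hW.fromSpec (l i))
      (fun i ↦ ⟨hWU (hW.range_fromSpec.le ⟨l i, rfl⟩), ?_⟩) fun i ↦ ⟨?_, ?_⟩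
    · rw [← hkey, hl i, hkey]
      exact congrArg f (hW.fromSpec_primeIdealOf ⟨x, hxW⟩)
    · exact ((PrimeSpectrum.le_iff_specializes _ _).mp (l.step i).le).map hW.fromSpec.continuous
    · exact fun h' ↦ (show l i.castSucc < l i.succ from l.step i).ne
        (hW.fromSpec.isOpenEmbedding.injective h')
  let ψ : MvPolynomial (ULift.{u} (Fin e)) Γ(Y, V) →+* Γ(X, W) :=
    (MvPolynomial.aeval (R := Γ(Y, V)) t).toRingHom
  let φ : Spec Γ(X, W) ⟶ Spec (CommRingCat.of (MvPolynomial (ULift.{u} (Fin e)) Γ(Y, V))) :=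
    Spec.map (CommRingCat.ofHom ψ)
  have : LocallyOfFiniteType φ := by
    refine (HasRingHomProperty.Spec_iff (P := @LocallyOfFiniteType)).mpr ?_
    let := ψ.toAlgebra
    have : IsScalarTower Γ(Y, V) (MvPolynomial (ULift.{u} (Fin e)) Γ(Y, V)) Γ(X, W) :=
      IsScalarTower.of_algebraMap_eq fun a ↦ ((MvPolynomial.aeval (R := Γ(Y, V)) t).commutes a).symm
    exact RingHom.finiteType_algebraMap.mpr
      (Algebra.FiniteType.of_restrictScalars_finiteType Γ(Y, V) _ Γ(X, W))
  let O : X.Opens := ⟨hW.fromSpec '' φ.quasiFiniteLocus,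
    hW.fromSpec.isOpenEmbedding.isOpenMap _ φ.quasiFiniteLocus.2⟩
  have hOW : O ≤ W := by
    rintro _ ⟨q, -, rfl⟩
    exact hW.range_fromSpec.le ⟨q, rfl⟩
  refine ⟨O, ⟨n, quasiFiniteAt_SpecMap (CommRingCat.ofHom ψ) n ht, hW.fromSpec_primeIdealOf _⟩,
    hOW.trans hWU, fun y k c hc hc' ↦ ?_⟩
  obtain ⟨q, hq, hqc⟩ := (hc 0).1
  have h1 : rdimIn f hW hWV (c 0) (hOW (hc 0).1) ≤ e := by
    show rdim Γ(Y, V) (hW.primeIdealOf ⟨c 0, _⟩).asIdeal ≤ e
    rw [show hW.primeIdealOf ⟨c 0, hOW (hc 0).1⟩ = q from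
      hW.fromSpec.isOpenEmbedding.injective ((hW.fromSpec_primeIdealOf _).trans hqc.symm)]
    refine (rdim_le_of_quasiFiniteAt t q.asIdeal
      (quasiFiniteAt_of_SpecMap (CommRingCat.ofHom ψ) q hq)).trans_eq ?_
    rw [Nat.card_eq_fintype_card, Fintype.card_ulift, Fintype.card_fin]
  refine le_trans (chainsLE_rdimIn hV hW hWV (hOW (hc 0).1) k c (fun i ↦ ⟨⟨hOW (hc i).1,
    specializes_iff_mem_closure.mp (specializes_of_chain c hc' i)⟩, (hc i).2.trans (hc 0).2.symm⟩) hc') h1

end Groth.Agent.Unibranch
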