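import Groth.Agent.Unibranch.Equidim
import Groth.Prelude.Def_Flat

/-!
# Chains of specialisations and topological Krull dimension
-/

universe u

open CategoryTheory AlgebraicGeometry Topology TopologicalSpace

namespace Groth.Agent.Unibranch

attribute [local instance] specializationOrder

variable {α : Type u} [TopologicalSpace α] [T0Space α]

theorem natCast_le_topologicalKrullDim [QuasiSober α] {k : ℕ} (c : Fin (k + 1) → α)
    (hc : ∀ i : Fin k, c i.castSucc ⤳ c i.succ ∧ c i.castSucc ≠ c i.succ) :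
    (k : WithBot ℕ∞) ≤ topologicalKrullDim α := by
  rw [topologicalKrullDim, Order.krullDim_eq_of_orderIso irreducibleSetEquivPoints]
  refine Order.le_krullDim_iff.mpr ⟨⟨k, fun i ↦ c i.rev, fun i ↦ ?_⟩, rfl⟩
  show c i.castSucc.rev < c i.succ.rev
  rw [Fin.rev_castSucc, Fin.rev_succ]
  exact lt_of_le_of_ne (hc i.rev).1 (hc i.rev).2.symm

theorem exists_chain_of_le_topologicalKrullDim [QuasiSober α] {k : ℕ}
    (h : (k : WithBot ℕ∞) ≤ topologicalKrullDim α) :
    ∃ c : Fin (k + 1) → α, ∀ i : Fin k, c i.castSucc ⤳ c i.succ ∧ c i.castSucc ≠ c i.succ := by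
  rw [topologicalKrullDim, Order.krullDim_eq_of_orderIso irreducibleSetEquivPoints] at h
  obtain ⟨l, rfl⟩ := Order.le_krullDim_iff.mp h
  refine ⟨fun i ↦ l i.rev, fun i ↦ ?_⟩
  simp only [Fin.rev_castSucc, Fin.rev_succ]
  exact ⟨(l.step i.rev).le, (show l i.rev.castSucc < l i.rev.succ from l.step i.rev).ne'⟩

theorem specializes_of_chain {k : ℕ} (c : Fin (k + 1) → α)
    (hc : ∀ i : Fin k, c i.castSucc ⤳ c i.succ ∧ c i.castSucc ≠ c i.succ) (i : Fin (k + 1)) :
    c 0 ⤳ c i := by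
  induction i using Fin.induction with
  | zero => rfl
  | succ i hi => exact hi.trans (hc i).1

/-- A chain bounded by the dimension of the component through its top point. -/
theorem length_le_of_components [QuasiSober α] {e : ℕ}
    (h : ∀ Z ∈ irreducibleComponents α, topologicalKrullDim Z = e) {k : ℕ} (c : Fin (k + 1) → α)
    (hc : ∀ i : Fin k, c i.castSucc ⤳ c i.succ ∧ c i.castSucc ≠ c i.succ) : k ≤ e := by
  have hZ : IsClosed (irreducibleComponent (c 0)) := isClosed_irreducibleComponent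
  have hmem : ∀ i, c i ∈ irreducibleComponent (c 0) := fun i ↦
    (specializes_of_chain c hc i).mem_closed hZ mem_irreducibleComponent
  have : QuasiSober (irreducibleComponent (c 0)) := hZ.isClosedEmbedding_subtypeVal.quasiSober
  have h1 := natCast_le_topologicalKrullDim (α := irreducibleComponent (c 0))
    (fun i ↦ ⟨c i, hmem i⟩) fun i ↦
      ⟨(subtype_specializes_iff _ _).mpr (hc i).1, fun h ↦ (hc i).2 (congrArg Subtype.val h)⟩
  rw [h _ (irreducibleComponent_mem_irreducibleComponents _)] at h1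
  exact ENat.coe_le_coe.mp (WithBot.coe_le_coe.mp h1)

variable {X Y : Scheme.{u}}

/-- Chains in a fibre of `U → Y` seen in `X`. -/
theorem chain_bound_of_fibre_components (f : X ⟶ Y) (U : X.Opens) (y : Y) {e : ℕ}
    (h : ∀ Z ∈ irreducibleComponents (↥((U.ι ≫ f).fiber y) : Type u),
      topologicalKrullDim (↥Z : Type u) = e)
    {k : ℕ} (c : Fin (k + 1) → X) (hcU : ∀ i, c i ∈ U ∧ f (c i) = y) (hc : IsChain' c) : k ≤ e := by
  let g := U.ι ≫ f
  have hg : ∀ i, g (⟨c i, (hcU i).1⟩ : U) = y := fun i ↦ (hcU i).2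
  let j : ↥(g.fiber y) → X := fun z ↦ U.ι (g.fiberι y z)
  have hj : IsEmbedding j := U.ι.isEmbedding.comp (g.fiberι y).isEmbedding
  let d : Fin (k + 1) → ↥(g.fiber y) := fun i ↦ (g.fiberHomeo y).symm ⟨⟨c i, (hcU i).1⟩, hg i⟩
  have hjd : ∀ i, j (d i) = c i := fun i ↦ by
    show U.ι (g.fiberι y (d i)) = c i
    rw [Scheme.Hom.fiberι_fiberHomeo_symm]
    rfl
  refine length_le_of_components h d fun i ↦ ⟨?_, ?_⟩
  · rw [← hj.isInducing.specializes_iff, hjd, hjd]; exact (hc i).1
  · exact fun h ↦ (hc i).2 (by rw [← hjd, ← hjd, h])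

/-- A longest chain in the fibre through a maximal point of `U`. -/
theorem exists_chain_of_fibre_component (f : X ⟶ Y) (U : X.Opens) (ζ : U)
    (hζ : ∀ z : U, z ⤳ ζ → z = ζ) {e : ℕ}
    (h : ∀ Z ∈ irreducibleComponents (↥((U.ι ≫ f).fiber ((U.ι ≫ f) ζ)) : Type u),
      topologicalKrullDim (↥Z : Type u) = e) :
    ∃ c : Fin (e + 1) → X, (∀ i, f (c i) = f (U.ι ζ)) ∧ IsChain' c ∧ (U.ι ζ) ⤳ c 0 := by
  let g := U.ι ≫ f
  let Z := irreducibleComponent (g.asFiber ζ)
  have hZ := irreducibleComponent_mem_irreducibleComponents (g.asFiber ζ)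
  have hZc : IsClosed Z := isClosed_irreducibleComponent
  have : QuasiSober Z := hZc.isClosedEmbedding_subtypeVal.quasiSober
  obtain ⟨d, hd⟩ := exists_chain_of_le_topologicalKrullDim (α := Z) (h Z hZ).ge
  obtain ⟨γ, hγ⟩ : ∃ γ, IsGenericPoint γ Z :=
    QuasiSober.sober isIrreducible_irreducibleComponent hZc
  have hγζ : γ = g.asFiber ζ := by
    apply (g.fiberι _).isEmbedding.injective
    rw [Scheme.Hom.fiberι_asFiber]
    refine hζ _ ?_
    have h1 := (hγ.specializes mem_irreducibleComponent).map (g.fiberι (g ζ)).continuous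
    rwa [Scheme.Hom.fiberι_asFiber] at h1
  let j : ↥(g.fiber (g ζ)) → X := fun z ↦ U.ι (g.fiberι _ z)
  have hj : IsEmbedding j := U.ι.isEmbedding.comp (g.fiberι _).isEmbedding
  refine ⟨fun i ↦ j (d i).1, fun i ↦ ?_, fun i ↦ ⟨?_, ?_⟩, ?_⟩
  · have h1 : g.fiberι (g ζ) (d i).1 ∈ g ⁻¹' {g ζ} := (g.range_fiberι _).le ⟨_, rfl⟩
    exact (Scheme.Hom.comp_apply U.ι f _).symm.trans (h1.trans (Scheme.Hom.comp_apply U.ι f ζ))
  · exact ((hd i).1.map continuous_subtype_val).map hj.continuous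
  · exact fun h ↦ (hd i).2 (Subtype.ext (hj.injective h))
  · have h1 := (hγ.specializes (d 0).2).map hj.continuous
    rw [hγζ] at h1
    simpa [j] using h1

end Groth.Agent.Unibranch
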