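import Groth.Agent.Unibranch.Open
import Groth.Prelude.Def_CAlg2

/-!
# Geometrically unibranch primes of domains: stability under polynomial rings, comparison with `CAlg2`
-/

universe u

open CAlg2

namespace Groth.Agent.Unibranch

/-- The primes of `R'` over `P` have purely inseparable residue fields over that of `P`, uniformly. -/
def RadOver (R R' : Type u) [CommRing R] [CommRing R'] [Algebra R R'] (P : Ideal R) : Prop :=
  ∃ q : ℕ, ExpChar (R ⧸ P) q ∧ ∀ z : R', ∃ (n : ℕ) (s a : R), s ∉ P ∧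
    ∀ Q : Ideal R', Q.IsPrime → Q.comap (algebraMap R R') = P →
      algebraMap R R' s * z ^ q ^ n - algebraMap R R' a ∈ Q

/-- A normal domain integral over `R` whose residue fields over `P` are purely inseparable exists. -/
def GUAt (R : Type u) [CommRing R] (P : Ideal R) : Prop :=
  ∃ (R' : Type u) (_ : CommRing R') (_ : IsDomain R') (_ : Algebra R R'),
    IsIntegrallyClosed R' ∧ Algebra.IsIntegral R R' ∧ FaithfulSMul R R' ∧ RadOver R R' P

variable {R R' R'' : Type u} [CommRing R] [CommRing R'] [CommRing R''] [Algebra R R'] [Algebra R R'']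

theorem RadOver.uniqueOver {P : Ideal R} (h : RadOver R R' P) : UniqueOver R R' P := by
  obtain ⟨q, hq, h⟩ := h
  have key : ∀ Q₁ Q₂ : Ideal R', Q₁.IsPrime → Q₂.IsPrime →
      Q₁.comap (algebraMap R R') = P → Q₂.comap (algebraMap R R') = P → Q₁ ≤ Q₂ := by
    intro Q₁ Q₂ h₁ h₂ e₁ e₂ z hz
    obtain ⟨n, s, a, hs, hQ⟩ := h z
    have hN : 0 < q ^ n := pow_pos (expChar_pos (R ⧸ P) q) n
    have ha : a ∈ P := by
      rw [← e₁, Ideal.mem_comap]
      have := Q₁.sub_mem (Q₁.mul_mem_left (algebraMap R R' s) (Ideal.pow_mem_of_mem _ hz _ hN))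
        (hQ Q₁ h₁ e₁)
      simpa using this
    have ha2 : algebraMap R R' a ∈ Q₂ := by rw [← Ideal.mem_comap, e₂]; exact ha
    have := Q₂.add_mem (hQ Q₂ h₂ e₂) ha2
    rw [sub_add_cancel] at this
    rcases h₂.mem_or_mem this with h' | h'
    · exact absurd (e₂ ▸ Ideal.mem_comap.mpr h') hs
    · exact h₂.mem_of_pow_mem _ h'
  exact fun Q₁ Q₂ h₁ h₂ e₁ e₂ ↦ (key Q₁ Q₂ h₁ h₂ e₁ e₂).antisymm (key Q₂ Q₁ h₂ h₁ e₂ e₁)

/-- `RadOver` descends along an injective integral algebra map. -/
theorem RadOver.of_injective {P : Ideal R} (h : RadOver R R' P) (j : R'' →ₐ[R] R')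
    (hj : Function.Injective j) (hji : j.toRingHom.IsIntegral) : RadOver R R'' P := by
  obtain ⟨q, hq, h⟩ := h
  refine ⟨q, hq, fun z ↦ ?_⟩
  obtain ⟨n, s, a, hs, hQ⟩ := h (j z)
  refine ⟨n, s, a, hs, fun Q hQp e ↦ ?_⟩
  obtain ⟨Q', hQ'⟩ := RingHom.IsIntegral.comap_surjective hji hj ⟨Q, hQp⟩
  have hQ'' : Q'.asIdeal.comap j.toRingHom = Q := congrArg PrimeSpectrum.asIdeal hQ'
  rw [← hQ'', Ideal.mem_comap]
  simp only [map_sub, map_mul, map_pow, AlgHom.toRingHom_eq_coe, RingHom.coe_coe, AlgHom.commutes]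
  refine hQ _ Q'.isPrime ?_
  rw [← e, ← hQ'', Ideal.comap_comap]
  congr 1
  exact j.comp_algebraMap.symm

theorem algebraMap_mvPolynomial_C {σ : Type u} (x : R) :
    letI := MvPolynomial.algebraMvPolynomial (σ := σ) (R := R) (S := R')
    algebraMap (MvPolynomial σ R) (MvPolynomial σ R') (MvPolynomial.C x) =
      MvPolynomial.C (algebraMap R R' x) :=
  MvPolynomial.map_C _ _

theorem algebraMap_mvPolynomial_X {σ : Type u} (i : σ) :
    letI := MvPolynomial.algebraMvPolynomial (σ := σ) (R := R) (S := R')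
    algebraMap (MvPolynomial σ R) (MvPolynomial σ R') (MvPolynomial.X i) = MvPolynomial.X i :=
  MvPolynomial.map_X _ _

/-- Purely inseparable residue fields persist in polynomial rings. -/
theorem RadOver.mvPolynomial {σ : Type u} (P' : Ideal (MvPolynomial σ R)) [P'.IsPrime]
    (h : RadOver R R' (P'.comap MvPolynomial.C)) :
    letI := MvPolynomial.algebraMvPolynomial (σ := σ) (R := R) (S := R')
    RadOver (MvPolynomial σ R) (MvPolynomial σ R') P' := by
  letI := MvPolynomial.algebraMvPolynomial (σ := σ) (R := R) (S := R')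
  obtain ⟨q, hq, h⟩ := h
  have : ExpChar (MvPolynomial σ R ⧸ P') q :=
    expChar_of_injective_ringHom (f := Ideal.quotientMap P' MvPolynomial.C le_rfl)
      Ideal.quotientMap_injective q
  refine ⟨q, this, fun f ↦ ?_⟩
  have hchar : ∀ Q : Ideal (MvPolynomial σ R'), Q.IsPrime →
      Q.comap (algebraMap (MvPolynomial σ R) (MvPolynomial σ R')) = P' →
      ExpChar (MvPolynomial σ R' ⧸ Q) q := fun Q _ e ↦
    expChar_of_injective_ringHom
      (f := Ideal.quotientMap Q (algebraMap (MvPolynomial σ R) (MvPolynomial σ R')) e.ge)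
      (Ideal.quotientMap_injective' e.le) q
  induction f using MvPolynomial.induction_on with
  | C z =>
    obtain ⟨n, s, a, hs, hQ⟩ := h z
    refine ⟨n, MvPolynomial.C s, MvPolynomial.C a, hs, fun Q hQp e ↦ ?_⟩
    have h1 := hQ (Q.comap MvPolynomial.C) (hQp.comap _) (by
      rw [← e, Ideal.comap_comap, Ideal.comap_comap]
      congr 1
      exact RingHom.ext fun x ↦ (algebraMap_mvPolynomial_C x).symm)
    rw [Ideal.mem_comap] at h1
    simpa [algebraMap_mvPolynomial_C] using h1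
  | add f g hf hg =>
    obtain ⟨n, s, a, hs, hQ⟩ := hf
    obtain ⟨m, t, b, ht, hQ'⟩ := hg
    refine ⟨n + m, s ^ q ^ m * t ^ q ^ n, t ^ q ^ n * a ^ q ^ m + s ^ q ^ m * b ^ q ^ n,
      fun h' ↦ ((Ideal.IsPrime.mem_or_mem ‹_› h').elim
        (fun h'' ↦ hs (Ideal.IsPrime.mem_of_pow_mem ‹_› _ h''))
        (fun h'' ↦ ht (Ideal.IsPrime.mem_of_pow_mem ‹_› _ h''))), fun Q hQp e ↦ ?_⟩
    have := hchar Q hQp e
    have h1 := congrArg (· ^ q ^ m) (Ideal.Quotient.eq.mpr (hQ Q hQp e))
    have h2 := congrArg (· ^ q ^ n) (Ideal.Quotient.eq.mpr (hQ' Q hQp e))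
    simp only [map_mul, map_pow, mul_pow, ← pow_mul, ← pow_add, Nat.add_comm m n] at h1 h2
    rw [← Ideal.Quotient.eq]
    simp only [map_mul, map_add, map_pow, add_pow_expChar_pow]
    linear_combination (Ideal.Quotient.mk Q (algebraMap _ _ t) ^ q ^ n) * h1 +
      (Ideal.Quotient.mk Q (algebraMap _ _ s) ^ q ^ m) * h2
  | mul_X f i hf =>
    obtain ⟨n, s, a, hs, hQ⟩ := hf
    refine ⟨n, s, a * MvPolynomial.X i ^ q ^ n, hs, fun Q hQp e ↦ ?_⟩
    have hX : algebraMap (MvPolynomial σ R) (MvPolynomial σ R') (MvPolynomial.X i) =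
        MvPolynomial.X i := algebraMap_mvPolynomial_X i
    rw [map_mul, map_pow, hX, mul_pow, ← mul_assoc, ← sub_mul]
    exact Q.mul_mem_right _ (hQ Q hQp e)

theorem isIntegrallyClosed_mvPolynomial_fin [IsDomain R] [IsIntegrallyClosed R] :
    ∀ n : ℕ, IsIntegrallyClosed (MvPolynomial (Fin n) R)
  | 0 => .of_equiv (MvPolynomial.isEmptyRingEquiv R (Fin 0)).symm
  | n + 1 =>
    have := isIntegrallyClosed_mvPolynomial_fin n
    .of_equiv (MvPolynomial.finSuccEquiv R n).toRingEquiv.symm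

theorem isIntegrallyClosed_mvPolynomial [IsDomain R] [IsIntegrallyClosed R] (σ : Type u) [Finite σ] :
    IsIntegrallyClosed (MvPolynomial σ R) :=
  have := isIntegrallyClosed_mvPolynomial_fin (R := R) (Nat.card σ)
  .of_equiv (MvPolynomial.renameEquiv R (Finite.equivFin σ)).toRingEquiv.symm

/-- Geometric unibranchness passes to polynomial rings. -/
theorem GUAt.mvPolynomial {σ : Type u} [Finite σ] (P' : Ideal (MvPolynomial σ R)) [P'.IsPrime]
    (h : GUAt R (P'.comap MvPolynomial.C)) : GUAt (MvPolynomial σ R) P' := by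
  obtain ⟨R₁, _, _, _, hn, hi, hf, hr⟩ := h
  letI := MvPolynomial.algebraMvPolynomial (σ := σ) (R := R) (S := R₁)
  refine ⟨MvPolynomial σ R₁, inferInstance, inferInstance, inferInstance,
    isIntegrallyClosed_mvPolynomial σ, ⟨fun f ↦ ?_⟩, ?_, hr.mvPolynomial P'⟩
  · induction f using MvPolynomial.induction_on with
    | C z =>
      exact IsIntegral.map_of_comp_eq (MvPolynomial.C : R →+* MvPolynomial σ R) (MvPolynomial.C : R₁ →+* MvPolynomial σ R₁)
        (RingHom.ext fun x ↦ algebraMap_mvPolynomial_C (R' := R₁) x) (hi.isIntegral z)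
    | add f g hf hg => exact hf.add hg
    | mul_X f i hf =>
      refine hf.mul ?_
      have : algebraMap (MvPolynomial σ R) (MvPolynomial σ R₁) (MvPolynomial.X i) =
          MvPolynomial.X i := algebraMap_mvPolynomial_X i
      exact this ▸ isIntegral_algebraMap
  · rw [faithfulSMul_iff_algebraMap_injective, MvPolynomial.algebraMap_def]
    exact MvPolynomial.map_injective _ (FaithfulSMul.algebraMap_injective R R₁)

end Groth.Agent.Unibranch
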