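import Groth.Agent.Unibranch.FibreDims
import Groth.Agent.LocNoethTop.Basic

/-!
# Connected components of fibres through a point
-/

set_option linter.style.haveILetI false

universe u

open CategoryTheory AlgebraicGeometry Topology TopologicalSpace Limits

namespace Groth.Agent.Unibranch

variable {X Y : Scheme.{u}}

theorem locallyConnectedSpace_fiber (f : X ⟶ Y) [LocallyOfFiniteType f] (y : Y) :
    LocallyConnectedSpace ↥(f.fiber y) := by
  have : LocallyOfFiniteType (f.fiberToSpecResidueField y) := MorphismProperty.pullback_snd _ _ ‹_›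
  have : IsLocallyNoetherian (f.fiber y) :=
    LocallyOfFiniteType.isLocallyNoetherian (f.fiberToSpecResidueField y)
  refine LocNoethTop.locallyConnectedSpace fun p ↦ ?_
  obtain ⟨SW, hSW, hpW, -⟩ := (f.fiber y).isBasis_affineOpens.exists_subset_of_mem_open
    (Set.mem_univ p) isOpen_univ
  obtain ⟨W, hW, rfl⟩ : ∃ U : (f.fiber y).Opens, IsAffineOpen U ∧ (U : Set ↥(f.fiber y)) = SW := hSW
  have : IsNoetherianRing Γ(f.fiber y, W) := IsLocallyNoetherian.component_noetherian ⟨W, hW⟩
  exact ⟨W, W.2.mem_nhds hpW, noetherianSpace_of_isAffineOpen W hW⟩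

/-- The connected component of a point in its fibre, as an image. -/
theorem fiberι_image_connectedComponent (f : X ⟶ Y) (y : Y) (p : ↥(f.fiber y)) :
    f.fiberι y '' connectedComponent p = connectedComponentIn (f.base ⁻¹' {y}) (f.fiberι y p) := by
  have hp : f.fiberι y p ∈ f.base ⁻¹' {y} := (f.range_fiberι y).le ⟨p, rfl⟩
  rw [connectedComponentIn_eq_image hp]
  let h := f.fiberHomeo y
  have h2 : h p = (⟨f.fiberι y p, hp⟩ : f.base ⁻¹' {y}) := rfl
  have h1 : h '' connectedComponent p = connectedComponent (h p) := by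
    refine (h.continuous.image_connectedComponent_subset p).antisymm fun z hz ↦ ⟨h.symm z, ?_, h.apply_symm_apply z⟩
    simpa using h.symm.continuous.image_connectedComponent_subset (h p) ⟨z, hz, rfl⟩
  rw [← h2, ← h1, Set.image_image]
  rfl

/-- Components of fibres are open in the fibre. -/
theorem exists_opens_inter_eq (f : X ⟶ Y) [LocallyOfFiniteType f] (y : Y) {x : X} (hx : f.base x = y) :
    ∃ O : X.Opens, (O : Set X) ∩ f.base ⁻¹' {y} = connectedComponentIn (f.base ⁻¹' {y}) x := by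
  obtain ⟨p, rfl⟩ := (f.range_fiberι y).ge hx
  have := locallyConnectedSpace_fiber f y
  obtain ⟨O, hO, hOp⟩ := (f.fiberι y).isEmbedding.isInducing.isOpen_iff.mp
    (isOpen_connectedComponent (x := p))
  refine ⟨⟨O, hO⟩, ?_⟩
  rw [← fiberι_image_connectedComponent, ← hOp, Set.image_preimage_eq_inter_range, f.range_fiberι]
  rfl

theorem mem_connectedComponentIn_of_specializes (f : X ⟶ Y) {a b x : X} (hab : a ⤳ b)
    (ha : f.base a = f.base x) (hb : f.base b = f.base x) :
    b ∈ connectedComponentIn (f.base ⁻¹' {f.base x}) x ↔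
      a ∈ connectedComponentIn (f.base ⁻¹' {f.base x}) x := by
  have hC : IsPreconnected (closure ({a} : Set X) ∩ f.base ⁻¹' {f.base x}) :=
    (isPreconnected_singleton (x := a)).subset_closure
      (Set.singleton_subset_iff.mpr ⟨subset_closure rfl, ha⟩) Set.inter_subset_left
  constructor <;> intro h <;> rw [connectedComponentIn_eq h]
  · exact hC.subset_connectedComponentIn ⟨specializes_iff_mem_closure.mp hab, hb⟩
      Set.inter_subset_right ⟨subset_closure rfl, ha⟩
  · exact hC.subset_connectedComponentIn ⟨subset_closure rfl, ha⟩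
      Set.inter_subset_right ⟨specializes_iff_mem_closure.mp hab, hb⟩

/-- An irreducible component: generic point, dimension and local dimensions. -/
theorem exists_genericPoint_connectedComponent (f : X ⟶ Y) [LocallyOfFiniteType f] {y : Y} {x : X}
    (hx : f.base x = y) (hirr : IsIrreducible (connectedComponentIn (f.base ⁻¹' {y}) x)) :
    ∃ ξ : X, ξ ∈ connectedComponentIn (f.base ⁻¹' {y}) x ∧ f.base ξ = y ∧
      (∀ w, f.base w = y → w ⤳ ξ → w = ξ) ∧
      connectedComponentIn (f.base ⁻¹' {y}) x = closure {ξ} ∩ f.base ⁻¹' {y} ∧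
      ∃ d : ℕ, topologicalKrullDim ↥(connectedComponentIn (f.base ⁻¹' {y}) x) = (d : WithBot ℕ∞) ∧
        ChainsLE f (closure {ξ}) y d ∧ HasChain f (closure {ξ}) y d ∧
        ∀ z ∈ connectedComponentIn (f.base ⁻¹' {y}) x, FlatMor.fibreDimAt f z = (d : WithBot ℕ∞) := by
  obtain ⟨p, rfl⟩ := (f.range_fiberι y).ge hx
  set C := connectedComponentIn (f.base ⁻¹' {y}) (f.fiberι y p) with hC
  have hCeq : C = f.fiberι y '' connectedComponent p := (fiberι_image_connectedComponent f y p).symm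
  have he := (f.fiberι y).isEmbedding
  have hirr' : IsIrreducible (connectedComponent p) := by
    refine ⟨⟨p, mem_connectedComponent⟩, ?_⟩
    have h0 := hirr.2
    rw [hCeq] at h0
    intro U V hU hV ⟨a, ha, haU⟩ ⟨b, hb, hbV⟩
    obtain ⟨U', hU', rfl⟩ := he.isInducing.isOpen_iff.mp hU
    obtain ⟨V', hV', rfl⟩ := he.isInducing.isOpen_iff.mp hV
    obtain ⟨_, ⟨c, hc, rfl⟩, hcU, hcV⟩ := h0 U' V' hU' hV' ⟨_, ⟨a, ha, rfl⟩, haU⟩ ⟨_, ⟨b, hb, rfl⟩, hbV⟩
    exact ⟨c, hc, hcU, hcV⟩
  obtain ⟨q, hq⟩ := QuasiSober.sober hirr' isClosed_connectedComponent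
  have hCcl : C = closure {f.fiberι y q} ∩ f.base ⁻¹' {y} := by
    rw [hCeq, ← hq.def, he.closure_eq_preimage_closure_image, Set.image_singleton,
      Set.image_preimage_eq_inter_range, f.range_fiberι]
  have hξy : f.base (f.fiberι y q) = y := (f.range_fiberι y).le ⟨q, rfl⟩
  have hξC : f.fiberι y q ∈ C := hCcl ▸ ⟨subset_closure rfl, hξy⟩
  have hmax : ∀ w, f.base w = y → w ⤳ f.fiberι y q → w = f.fiberι y q := fun w hw hwq ↦ by
    have hwC : w ∈ C := by
      have := (mem_connectedComponentIn_of_specializes f (x := f.fiberι y p) hwq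
        (hw.trans hx.symm) (hξy.trans hx.symm)).mp (by rw [hx]; exact hξC)
      rwa [hx] at this
    rw [hCcl] at hwC
    exact (hwq.antisymm (specializes_iff_mem_closure.mpr hwC.1)).eq
  obtain ⟨d, hd₁, hd₂, hd⟩ := exists_dim_closure_eq f (f.fiberι y q)
  rw [hξy] at hd₁ hd₂ hd
  refine ⟨_, hξC, hξy, hmax, hCcl, d, ?_, hd₁, hd₂, fun z hz ↦ ?_⟩
  · rw [hCcl]; exact hd
  obtain ⟨O, hO⟩ := exists_opens_inter_eq f y hx
  replace hO : (O : Set X) ∩ f.base ⁻¹' {y} = closure {f.fiberι y q} ∩ f.base ⁻¹' {y} := hO.trans hCcl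
  have hzy : f.base z = y := by rw [hCcl] at hz; exact hz.2
  have hzcl : f.fiberι y q ⤳ z := by rw [hCcl] at hz; exact specializes_iff_mem_closure.mpr hz.1
  have hzO : z ∈ O := (hO.ge ⟨specializes_iff_mem_closure.mp hzcl, hzy⟩).1
  refine le_antisymm ((fibreDimAt_le_iff f z).mpr ⟨O, hzO, fun k c hc hch ↦ hd₁ k c
      (fun i ↦ ⟨(hO.le ⟨(hc i).1, (hc i).2.trans hzy⟩).1, (hc i).2.trans hzy⟩) hch⟩)
    ((natCast_le_fibreDimAt_iff f z).mpr fun U hU ↦ ?_)
  exact ((show HasChain f (closure {f.fiberι y q}) (f (f.fiberι y q)) d by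
    rw [show f (f.fiberι y q) = y from hξy]; exact hd₂).of_specializes hzcl hU).mono Set.inter_subset_left

/-- Dimensions of the components through a section do not drop under specialisation. -/
theorem exists_hasChain_closure_component (f : X ⟶ Y) [LocallyOfFiniteType f] {ζ x : X} (hζ : ζ ⤳ x)
    {d : ℕ} (h : HasChain f (closure {ζ}) (f ζ) d) :
    HasChain f (closure {ζ} ∩ connectedComponentIn (f.base ⁻¹' {f.base x}) x) (f x) d := by
  obtain ⟨O, hO⟩ := exists_opens_inter_eq f (f.base x) (x := x) rfl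
  have hxO : x ∈ O := (hO.ge (mem_connectedComponentIn (show x ∈ f.base ⁻¹' {f.base x} from rfl))).1
  obtain ⟨c, hc, hch⟩ := h.of_specializes hζ hxO
  exact ⟨c, fun i ↦ ⟨⟨(hc i).1.2, hO.le ⟨(hc i).1.1, (hc i).2⟩⟩, (hc i).2⟩, hch⟩

end Groth.Agent.Unibranch

namespace Groth.Agent.Unibranch

/-- With irreducible components through the section, their dimension is upper semicontinuous. -/
theorem upperSemicontinuous_dim_component {X Y : Scheme.{u}} (f : X ⟶ Y) [LocallyOfFiniteType f]
    (g : Y ⟶ X) (hg : g ≫ f = 𝟙 Y)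
    (hirr : ∀ y : Y, IsIrreducible (connectedComponentIn (f.base ⁻¹' {y}) (g.base y))) :
    UpperSemicontinuous
      (fun y : Y => topologicalKrullDim ↥(connectedComponentIn (f.base ⁻¹' {y}) (g.base y))) := by
  have hgy : ∀ y : Y, f.base (g.base y) = y := fun y ↦ by
    have : (g ≫ f).base y = y := by rw [hg]; rfl
    exact this
  have key : ∀ y : Y, ∃ d : ℕ, topologicalKrullDim ↥(connectedComponentIn (f.base ⁻¹' {y}) (g.base y)) =
      (d : WithBot ℕ∞) ∧ FlatMor.fibreDimAt f (g.base y) = (d : WithBot ℕ∞) := fun y ↦ by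
    obtain ⟨ξ, -, -, -, -, d, hd, -, -, hloc⟩ :=
      exists_genericPoint_connectedComponent f (hgy y) (hirr y)
    exact ⟨d, hd, hloc _ (mem_connectedComponentIn (hgy y))⟩
  intro y a ha
  obtain ⟨d, hd, hd'⟩ := key y
  obtain ⟨U, hxU, hU⟩ := (fibreDimAt_le_iff f _).mp hd'.le
  obtain ⟨U', hxU', -, hU'⟩ := exists_opens_chainsLE f hxU hU
  refine Filter.mem_of_superset ((g ⁻¹ᵁ U').2.mem_nhds hxU') fun z hz ↦ ?_
  obtain ⟨e, he, he'⟩ := key z
  show topologicalKrullDim ↥(connectedComponentIn (f.base ⁻¹' {z}) (g.base z)) < a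
  refine lt_of_le_of_lt ?_ ha
  show _ ≤ topologicalKrullDim ↥(connectedComponentIn (f.base ⁻¹' {y}) (g.base y))
  rw [hd, he, ← he']
  exact (fibreDimAt_le_iff f _).mpr ⟨U', hz, hU' _⟩

end Groth.Agent.Unibranch
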