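import Groth.Agent.Unibranch.SectionDVR
import Groth.Agent.GoingDown.Scheme
import Groth.Agent.GeomFib.SectionConn
import Groth.Agent.ConsEngine.ClosureFibre
import Groth.Agent.ConsEngine.Range

/-!
# Connectedness of the generic part near a connected piece of a reduced special fibre
-/

set_option autoImplicit false

universe u

open CategoryTheory AlgebraicGeometry Limits Topology TopologicalSpace

namespace Groth.Agent.Unibranch

/-- With a reduced quotient by a parameter outside all minimal primes, inverting the parameter keeps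
the spectrum of a local Noetherian ring connected. -/
theorem isPreconnected_basicOpen {B : Type u} [CommRing B] [IsNoetherianRing B] [IsLocalRing B] {t : B}
    (ht : ¬ IsUnit t) (hred : (Ideal.span {t}).IsRadical) (hmin : ∀ P ∈ minimalPrimes B, t ∉ P) :
    _root_.IsPreconnected ((PrimeSpectrum.basicOpen t : Opens (PrimeSpectrum B)) : Set (PrimeSpectrum B)) := by
  have hnil : ∀ z : B, IsNilpotent z → z ∈ Ideal.span {t} := fun z ⟨n, hn⟩ ↦
    hred ⟨n, by rw [hn]; exact zero_mem _⟩
  -- the parameter is regular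
  let T : Ideal B :=
    { carrier := {z | ∃ n : ℕ, t ^ n * z = 0}
      zero_mem' := ⟨0, mul_zero _⟩
      add_mem' := fun {a b} ⟨n, hn⟩ ⟨m, hm⟩ ↦ ⟨n + m, by
        rw [mul_add, pow_add]
        nth_rewrite 1 [mul_comm (t ^ n)]
        rw [mul_assoc, hn, mul_zero, mul_assoc, hm, mul_zero, add_zero]⟩
      smul_mem' := fun c a ⟨n, hn⟩ ↦ ⟨n, by rw [smul_eq_mul, mul_left_comm, hn, mul_zero]⟩ }
  have hT0 : T = ⊥ := by
    refine Submodule.eq_bot_of_le_smul_of_le_jacobson_bot (Ideal.span {t}) T
      (IsNoetherian.noetherian T) (fun w hw ↦ ?_) ?_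
    · obtain ⟨n, hn⟩ := hw
      have hwn : IsNilpotent w := by
        rw [← mem_nilradical, nilradical_eq_sInf, Ideal.mem_sInf]
        intro P hP
        have : P.IsPrime := hP
        obtain ⟨Q, hQ, hQP⟩ := Ideal.exists_minimalPrimes_le (I := (⊥ : Ideal B)) (J := P) bot_le
        exact hQP ((hQ.1.1.mem_or_mem (show t ^ n * w ∈ Q by rw [hn]; exact zero_mem _)).resolve_left
          fun h ↦ hmin Q hQ (hQ.1.1.mem_of_pow_mem n h))
      obtain ⟨v, rfl⟩ := Ideal.mem_span_singleton'.mp (hnil w hwn)
      rw [mul_comm, ← smul_eq_mul]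
      exact Submodule.smul_mem_smul (Ideal.mem_span_singleton_self t)
        ⟨n + 1, by rw [pow_succ, mul_assoc, mul_comm t v]; exact hn⟩
    · rw [IsLocalRing.jacobson_eq_maximalIdeal ⊥ bot_ne_top, Ideal.span_singleton_le_iff_mem]
      exact ht
  have hinj : Function.Injective (algebraMap B (Localization.Away t)) := by
    rw [injective_iff_map_eq_zero]
    intro z hz
    obtain ⟨⟨_, n, rfl⟩, hn⟩ := (IsLocalization.map_eq_zero_iff (Submonoid.powers t) _ z).mp hz
    have : z ∈ T := ⟨n, hn⟩
    rwa [hT0, Ideal.mem_bot] at this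
  -- idempotents come from the local ring
  have hidem : ∀ e : Localization.Away t, IsIdempotentElem e → e = 0 ∨ e = 1 := by
    intro e he
    obtain ⟨b, ⟨_, n, rfl⟩, rfl⟩ := IsLocalization.exists_mk'_eq (Submonoid.powers t) e
    induction n generalizing b with
    | zero =>
      have h1 : IsLocalization.mk' (Localization.Away t) b (⟨t ^ 0, 0, rfl⟩ : Submonoid.powers t) =
          algebraMap B _ b := by
        rw [show (⟨t ^ 0, 0, rfl⟩ : Submonoid.powers t) = 1 from Subtype.ext (pow_zero t), IsLocalization.mk'_one]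
      rw [h1] at he ⊢
      have hb : b * b = b := hinj (by rw [map_mul]; exact he)
      rcases IsLocalRing.isUnit_or_isUnit_one_sub_self b with hu | hu
      · exact .inr (by rw [hu.mul_left_cancel (hb.trans (mul_one b).symm), map_one])
      · have h0 : b * (1 - b) = 0 := by rw [mul_sub, mul_one, hb, sub_self]
        exact .inl (by rw [(hu.mul_left_eq_zero).mp h0, map_zero])
    | succ n ih =>
      have hpow : (t ^ (n + 1) : B) * (b * b) = t ^ (n + 1) * (t ^ (n + 1) * b) := by
        apply hinj
        have h1 := he.eq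
        have hmk := IsLocalization.mk'_spec (Localization.Away t) b (⟨t ^ (n + 1), n + 1, rfl⟩ : Submonoid.powers t)
        simp only [map_mul, ← hmk]
        linear_combination (algebraMap B (Localization.Away t) (t ^ (n + 1))) ^ 3 * h1
      have hb : b * b = t ^ (n + 1) * b := hinj (by
        have hu : IsUnit (algebraMap B (Localization.Away t) (t ^ (n + 1))) :=
          IsLocalization.map_units _ (⟨t ^ (n + 1), n + 1, rfl⟩ : Submonoid.powers t)
        have h2 := congrArg (algebraMap B (Localization.Away t)) hpow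
        simp only [map_mul] at h2 hu ⊢
        exact hu.mul_left_cancel h2)
      obtain ⟨b', rfl⟩ := Ideal.mem_span_singleton'.mp (hred ⟨2, by
        rw [sq, hb, pow_succ, mul_assoc, mul_comm t b, ← mul_assoc]
        exact Ideal.mul_mem_left _ _ (Ideal.mem_span_singleton_self t)⟩ : b ∈ Ideal.span {t})
      have h1 : IsLocalization.mk' (Localization.Away t) (b' * t) (⟨t ^ (n + 1), n + 1, rfl⟩ : Submonoid.powers t) =
          IsLocalization.mk' _ b' (⟨t ^ n, n, rfl⟩ : Submonoid.powers t) :=
        IsLocalization.mk'_eq_of_eq (by show t ^ (n + 1) * b' = t ^ n * (b' * t); ring)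
      rw [h1] at he ⊢
      exact ih b' he
  have hpre : PreconnectedSpace (PrimeSpectrum (Localization.Away t)) := preconnectedSpace_iff_clopen.mpr fun s hs ↦ by
    obtain ⟨e, f, hef, hef1, rfl⟩ := PrimeSpectrum.isClopen_iff_mul_add.mp hs
    rcases hidem e (IsIdempotentElem.of_mul_add hef hef1).1 with rfl | rfl
    · exact .inl (by rw [PrimeSpectrum.basicOpen_zero]; rfl)
    · exact .inr (by rw [PrimeSpectrum.basicOpen_one]; rfl)
  rw [← PrimeSpectrum.localization_away_comap_range (Localization.Away t) t]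
  exact _root_.isPreconnected_range (PrimeSpectrum.continuous_comap _)

variable {X : Scheme.{u}} {A : Type u} [CommRing A] [IsDomain A] [IsDiscreteValuationRing A]
  (f : X ⟶ Spec (CommRingCat.of A))

/-- The generalisations in the generic fibre of a reduced point of the special fibre. -/
theorem isPreconnected_generizations [IsLocallyNoetherian X] {c η : ↥(Spec (CommRingCat.of A))} (hne : η ≠ c)
    (hmax : ∀ t, t ≠ c → t = η) (p : ↥(f.fiber c)) (hred : _root_.IsReduced ((f.fiber c).presheaf.stalk p))
    (hlift : ∀ w, w ⤳ f.fiberι c p → f w = c → ∃ ζ, ζ ⤳ w ∧ f ζ = η) :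
    _root_.IsPreconnected {z | z ⤳ f.fiberι c p ∧ f z = η} := by
  set x := f.fiberι c p with hx
  have hfx : f x = c := (f.range_fiberι c).le ⟨p, rfl⟩
  obtain ⟨hsurj, hker⟩ := FibCrit.fiberι_stalkMap f c p
  let ψ := (f.stalkMap x).hom
  have hrad : ((IsLocalRing.maximalIdeal ((Spec (CommRingCat.of A)).presheaf.stalk (f x))).map ψ).IsRadical := by
    show ((IsLocalRing.maximalIdeal _).map _).IsRadical
    rw [← hker]
    intro z ⟨n, hn⟩
    rw [RingHom.mem_ker, map_pow] at hn
    exact RingHom.mem_ker.mpr (eq_zero_of_pow_eq_zero hn)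
  let j := X.fromSpecStalk x
  have hover : ∀ P, f (j P) = c ↔ (IsLocalRing.maximalIdeal _).map ψ ≤ P.asIdeal := fun P ↦ by
    have h1 : f (j P) = (Spec (CommRingCat.of A)).fromSpecStalk (f x) (PrimeSpectrum.comap ψ P) := by
      rw [← Scheme.Hom.comp_apply, ← Scheme.SpecMap_stalkMap_fromSpecStalk, Scheme.Hom.comp_apply]
      rfl
    rw [h1]
    constructor
    · intro h
      have h2 := ((Spec (CommRingCat.of A)).fromSpecStalk (f x)).isEmbedding.injective
        ((h.trans hfx.symm).trans
          (Scheme.fromSpecStalk_closedPoint (X := Spec (CommRingCat.of A)) (x := f x)).symm)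
      exact Ideal.map_le_iff_le_comap.mpr (congrArg PrimeSpectrum.asIdeal h2).ge
    · intro h
      have h2 : PrimeSpectrum.comap ψ P = IsLocalRing.closedPoint ((Spec (CommRingCat.of A)).presheaf.stalk (f x)) :=
        PrimeSpectrum.ext ((IsLocalRing.maximalIdeal.isMaximal _).eq_of_le
          (P.2.comap _).ne_top (Ideal.map_le_iff_le_comap.mp h)).symm
      rw [h2]
      exact Scheme.fromSpecStalk_closedPoint.trans hfx
  obtain ⟨t, ht⟩ := isPrincipal_maximalIdeal_stalk_Spec A (f x)
  have hIt : (IsLocalRing.maximalIdeal ((Spec (CommRingCat.of A)).presheaf.stalk (f x))).map ψ = Ideal.span {ψ t} := by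
    rw [ht, Ideal.submodule_span_eq, Ideal.map_span, Set.image_singleton]
  rw [hIt] at hrad hover
  simp only [Ideal.span_singleton_le_iff_mem] at hover
  have hjr : ∀ z, z ⤳ x → ∃ P, j P = z := fun z hz ↦ by
    have : z ∈ Set.range j := by rw [Scheme.range_fromSpecStalk]; exact hz
    exact this
  have hjx : ∀ P, j P ⤳ x := fun P ↦ by
    have : j P ∈ Set.range j := ⟨P, rfl⟩
    rwa [Scheme.range_fromSpecStalk] at this
  have hnu : ¬ IsUnit (ψ t) := fun hu ↦ (IsLocalRing.maximalIdeal.isMaximal _).ne_top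
    (Ideal.eq_top_of_isUnit_mem _ ((hover (IsLocalRing.closedPoint _)).mp
      (by rw [Scheme.fromSpecStalk_closedPoint]; exact hfx)) hu)
  have hmin : ∀ P ∈ minimalPrimes (X.presheaf.stalk x), ψ t ∉ P := by
    intro P hP htP
    let PP : PrimeSpectrum (X.presheaf.stalk x) := ⟨P, hP.1.1⟩
    obtain ⟨ζ, hζ, hζη⟩ := hlift (j PP) (hjx PP) ((hover PP).mpr htP)
    obtain ⟨Q, rfl⟩ := hjr ζ (hζ.trans (hjx PP))
    have hle : Q.asIdeal ≤ P :=
      (PrimeSpectrum.le_iff_specializes Q PP).mpr (j.isEmbedding.isInducing.specializes_iff.mp hζ)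
    exact hne (hζη.symm.trans ((hover Q).mpr (hP.2 ⟨Q.2, bot_le⟩ hle htP)))
  have h := (isPreconnected_basicOpen hnu hrad hmin).image j j.continuous.continuousOn
  convert h using 1
  refine Set.ext fun z ↦ ⟨fun ⟨hz, hzη⟩ ↦ ?_, ?_⟩
  · obtain ⟨P, rfl⟩ := hjr z hz
    exact ⟨P, fun htP ↦ hne (hzη.symm.trans ((hover P).mpr htP)), rfl⟩
  · rintro ⟨P, hP, rfl⟩
    exact ⟨hjx P, hmax _ fun h ↦ hP ((hover P).mp h)⟩

/-- Near a preconnected piece of a reduced special fibre the generic part is connected. -/
theorem mem_connectedComponentIn_of_dvr [LocallyOfFiniteType f] {c η : ↥(Spec (CommRingCat.of A))}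
    (hcl : IsClosed ({c} : Set ↥(Spec (CommRingCat.of A)))) (hne : η ≠ c) (hmax : ∀ t, t ≠ c → t = η) {a : X} (hac : f a = c)
    (hred : ∀ p : ↥(f.fiber c), f.fiberι c p ∈ connectedComponentIn (f.base ⁻¹' {c}) a →
      _root_.IsReduced ((f.fiber c).presheaf.stalk p))
    (hlift : ∀ w ∈ connectedComponentIn (f.base ⁻¹' {c}) a, ∃ ζ, ζ ⤳ w ∧ f ζ = η)
    {q z z₀ : X} (hq : q ∈ connectedComponentIn (f.base ⁻¹' {c}) a) (hz : z ⤳ q) (hzη : f z = η)
    (hz₀ : z₀ ⤳ a) (hz₀η : f z₀ = η) :
    z ∈ connectedComponentIn (f.base ⁻¹' {η}) z₀ := by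
  have : IsLocallyNoetherian X := LocallyOfFiniteType.isLocallyNoetherian f
  let S := connectedComponentIn (f.base ⁻¹' {c}) a
  let K := connectedComponentIn (f.base ⁻¹' {η}) z₀
  have hG : ∀ r ∈ S, _root_.IsPreconnected {w | w ⤳ r ∧ f w = η} := by
    intro r hr
    obtain ⟨p, rfl⟩ := (f.range_fiberι c).ge (connectedComponentIn_subset (f.base ⁻¹' {c}) _ hr)
    refine isPreconnected_generizations f hne hmax p (hred p hr) fun w hw hwc ↦ hlift w ?_
    have := (mem_connectedComponentIn_of_specializes f (x := a) hw (hwc.trans hac.symm)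
      ((connectedComponentIn_subset (f.base ⁻¹' {c}) _ hr).trans hac.symm))
    rw [show f.base a = c from hac] at this
    exact this.mp hr
  obtain ⟨O, hO⟩ := exists_opens_inter_eq f η hz₀η
  -- the connected component and its complement in the generic fibre are constructible
  have hη : IsLocallyConstructible ({η} : Set ↥(Spec (CommRingCat.of A))) := by
    rw [show ({η} : Set ↥(Spec (CommRingCat.of A))) = {c}ᶜ from
      Set.ext fun t ↦ ⟨fun h ↦ by rw [Set.mem_singleton_iff] at h; exact h ▸ hne, fun h ↦ hmax t h⟩]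
    exact ConsTop.isLocallyConstructible_compl (ConsEngine.isLocallyConstructible_of_isClosed hcl)
  have hFη : IsLocallyConstructible (f.base ⁻¹' {η}) := ConsEngine.isLocallyConstructible_preimage f hη
  have hK : IsLocallyConstructible K := by
    rw [show K = (O : Set X) ∩ f.base ⁻¹' {η} from hO.symm]
    refine IsLocallyConstructible.inter ?_ hFη
    simpa using ConsTop.isLocallyConstructible_compl
      (ConsEngine.isLocallyConstructible_of_isClosed O.2.isClosed_compl)
  have hK' : IsLocallyConstructible (f.base ⁻¹' {η} \ K) := hFη.inter (ConsTop.isLocallyConstructible_compl hK)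
  obtain ⟨zS, hzS⟩ : ∃ zS, zS ∈ S := ⟨a, mem_connectedComponentIn hac⟩
  have hcover : S ⊆ closure K ∪ closure (f.base ⁻¹' {η} \ K) := fun r hr ↦ by
    obtain ⟨ζ, hζr, hζη⟩ := hlift r hr
    by_cases h : ζ ∈ K
    · exact .inl (hζr.mem_closed isClosed_closure (subset_closure h))
    · exact .inr (hζr.mem_closed isClosed_closure (subset_closure ⟨hζη, h⟩))
  have hside : ∀ r ∈ S, r ∈ closure K → ∀ w, w ⤳ r → f w = η → w ∈ K := by
    intro r hr hrK w hw hwη
    obtain ⟨v, hvK, hvr⟩ := ConsEngine.exists_specializes_of_mem_closure hK hrK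
    have hvη : f v = η := connectedComponentIn_subset (f.base ⁻¹' {η}) _ hvK
    have h1 : {u | u ⤳ r ∧ f u = η} ⊆ connectedComponentIn (f.base ⁻¹' {η}) v :=
      (hG r hr).subset_connectedComponentIn ⟨hvr, hvη⟩ fun u hu ↦ hu.2
    rw [show K = connectedComponentIn (f.base ⁻¹' {η}) v from connectedComponentIn_eq hvK]
    exact h1 ⟨hw, hwη⟩
  by_contra hzK
  have hzS' : ∀ r ∈ S, r ∈ closure (f.base ⁻¹' {η} \ K) → r ∉ closure K := fun r hr hr' hrK ↦ by
    obtain ⟨v, hv, hvr⟩ := ConsEngine.exists_specializes_of_mem_closure hK' hr'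
    exact hv.2 (hside r hr hrK v hvr hv.1)
  obtain ⟨r, hr, hrK, hrK'⟩ := isPreconnected_closed_iff.mp
    (isPreconnected_connectedComponentIn (F := f.base ⁻¹' {c}) (x := a)) _ _ isClosed_closure isClosed_closure hcover
    ⟨a, mem_connectedComponentIn hac,
      hz₀.mem_closed isClosed_closure (subset_closure (mem_connectedComponentIn hz₀η))⟩
    ⟨q, hq, hz.mem_closed isClosed_closure (subset_closure ⟨hzη, hzK⟩)⟩
  exact hzS' r hr hrK' hrK

end Groth.Agent.Unibranch

namespace Groth.Agent.Unibranch

variable {X Y : Scheme.{u}}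

/-- Universal openness and geometric reducedness along the component through a section keep
generisations in the section components. -/
theorem mem_sectionComponents_of_generization' [IsLocallyNoetherian Y] (f : X ⟶ Y) [LocallyOfFiniteType f]
    (g : Y ⟶ X) (hg : g ≫ f = 𝟙 Y) (y : Y)
    (hyp : ∀ z ∈ connectedComponentIn (f.base ⁻¹' {y}) (g.base y), EGA43.IsUnivOpenAt f z ∧
      FBase.IsGeomReducedAt (f.fiberToSpecResidueField (f.base z)) (f.asFiber z))
    {x : X} (hxy : f.base x = y) (hx : x ∈ connectedComponentIn (f.base ⁻¹' {y}) (g.base y))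
    {x' : X} (hx' : x' ⤳ x) : x' ∈ MoreMor.sectionComponents f g := by
  have := LocallyOfFiniteType.isLocallyNoetherian f
  by_cases hne : f.base x' = y
  · show x' ∈ connectedComponentIn (f.base ⁻¹' {f.base x'}) (g.base (f.base x'))
    rw [hne]
    have hgy : f.base (g.base y) = y := by
      have : (g ≫ f).base y = y := by rw [hg]; rfl
      exact this
    have h := mem_connectedComponentIn_of_specializes f (x := g.base y) hx' (hne.trans hgy.symm) (hxy.trans hgy.symm)
    rw [hgy] at h
    exact h.mp hx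
  have hgy : f.base (g.base y) = y := by
    have : (g ≫ f).base y = y := by rw [hg]; rfl
    exact this
  obtain ⟨A, g₁, _, hg₁c, hg₁η⟩ := DvrDom.exists_dvr_through (𝟙 X) x' x (by simpa using hx')
    (by
      intro h
      have h' : x = x' := by simpa using h
      exact hne (h' ▸ hxy))
  let c : ↥(Spec (CommRingCat.of A)) := IsLocalRing.closedPoint A
  let η : ↥(Spec (CommRingCat.of A)) := ⟨⊥, Ideal.isPrime_bot⟩
  have hηc : η ⤳ c := (PrimeSpectrum.le_iff_specializes η c).mp bot_le
  have hηne : η ≠ c := fun h ↦ IsDiscreteValuationRing.not_a_field A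
    (congrArg PrimeSpectrum.asIdeal h).symm
  have hmax : ∀ t : ↥(Spec (CommRingCat.of A)), t ≠ c → t = η := fun t ht ↦ by
    by_contra h
    have : t.asIdeal.IsMaximal := t.2.isMaximal fun hb ↦ h (PrimeSpectrum.ext hb)
    exact ht (PrimeSpectrum.ext (IsLocalRing.eq_maximalIdeal this))
  have hη' : g₁.base η = x' := by
    have h1 := congr($hg₁η (default : PrimeSpectrum (X.residueField x')))
    rw [Scheme.Hom.comp_apply, Scheme.Hom.comp_apply] at h1
    have h2 : Spec.map (CommRingCat.ofHom A.subtype) (default : PrimeSpectrum (X.residueField x')) = η := by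
      refine PrimeSpectrum.ext ?_
      show Ideal.comap A.subtype _ = ⊥
      rw [show (default : PrimeSpectrum (X.residueField x')).asIdeal = ⊥ from
        ((Ideal.eq_bot_or_top _).resolve_right (default : PrimeSpectrum (X.residueField x')).2.ne_top)]
      exact Ideal.comap_bot_of_injective _ Subtype.val_injective
    rw [h2] at h1
    simpa using h1
  let g₀ := g₁ ≫ f
  let f' := pullback.snd f g₀
  let e := pullback.fst f g₀
  have hsq : IsPullback e f' f g₀ := IsPullback.of_hasPullback f g₀
  let g' : Spec (CommRingCat.of A) ⟶ pullback f g₀ :=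
    pullback.lift (g₀ ≫ g) (𝟙 _) (by rw [Category.assoc, hg, Category.comp_id, Category.id_comp])
  have hg' : g' ≫ f' = 𝟙 _ := pullback.lift_snd _ _ _
  have hge : g' ≫ e = g₀ ≫ g := pullback.lift_fst _ _ _
  have hyc : g₀.base c = y := by rw [show g₀.base c = f.base (g₁.base c) from rfl, hg₁c]; exact hxy
  have hgc : f'.base (g'.base c) = c := GeomFib.section_apply f' g' hg' c
  have hgη : f'.base (g'.base η) = η := GeomFib.section_apply f' g' hg' η
  have key : ∀ (a : Y) (q : ↥(f.fiber a)) (x : X), f.fiberι a q = x →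
      FBase.IsGeomReducedAt (f.fiberToSpecResidueField (f.base x)) (f.asFiber x) →
      FBase.IsGeomReducedAt (f.fiberToSpecResidueField a) q := by
    intro a q x hqx h
    obtain rfl : f.base x = a := hqx ▸ (f.range_fiberι a).le ⟨q, rfl⟩
    obtain rfl : q = f.asFiber x := (f.fiberι _).isEmbedding.injective
      (hqx.trans (f.fiberι_asFiber x).symm)
    exact h
  have hredat : ∀ (z : ↥(pullback f g₀)) (p : ↥(f'.fiber c)), f'.fiberι c p = z →
      FBase.IsGeomReducedAt (f.fiberToSpecResidueField (f.base (e.base z))) (f.asFiber (e.base z)) →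
      _root_.IsReduced ((f'.fiber c).presheaf.stalk p) := by
    intro z p hp h
    refine isReduced_stalk_fiber_of_geomReduced hsq c p (key _ _ _ ?_ h)
    rw [← Scheme.Hom.comp_apply, ConsEngine.fiberBC_fiberι, Scheme.Hom.comp_apply, hp]
  -- the tautological point of the base change
  let l : Spec (CommRingCat.of A) ⟶ pullback f g₀ := pullback.lift g₁ (𝟙 _) (by rw [Category.id_comp])
  have hle : l ≫ e = g₁ := pullback.lift_fst _ _ _
  have hlf : ∀ t, f'.base (l.base t) = t := fun t ↦ by
    have : (l ≫ f').base t = t := by rw [show l ≫ f' = 𝟙 _ from pullback.lift_snd _ _ _]; rfl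
    exact this
  have hel : ∀ t, e.base (l.base t) = g₁.base t := fun t ↦ by
    show (l ≫ e).base t = _
    rw [hle]
  have hbc := GeomFib.sectionComponents_baseChange f g hg hsq hg' hge
  have hfe : ∀ z, f.base (e.base z) = g₀.base (f'.base z) := fun z ↦ by
    show (e ≫ f).base z = _
    rw [hsq.w]; rfl
  have hS : ∀ z, f'.base z = c → (z ∈ connectedComponentIn (f'.base ⁻¹' {c}) (g'.base c) ↔
      e.base z ∈ connectedComponentIn (f.base ⁻¹' {y}) (g.base y)) := fun z hz ↦ by
    have h1 := Set.ext_iff.mp hbc z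
    rw [GeomFib.mem_sectionComponents_iff, Set.mem_preimage, GeomFib.mem_sectionComponents_iff, hfe, hz, hyc] at h1
    exact h1
  have hclosed : IsClosed ({c} : Set ↥(Spec (CommRingCat.of A))) := by
    exact (PrimeSpectrum.isClosed_singleton_iff_isMaximal c).mpr (IsLocalRing.maximalIdeal.isMaximal A)
  have hlC : l.base c ∈ connectedComponentIn (f'.base ⁻¹' {c}) (g'.base c) := by
    rw [hS _ (hlf c), hel c, hg₁c]
    exact hx
  have hmem := mem_connectedComponentIn_of_dvr f' hclosed hηne hmax hgc
    (fun p hp ↦ by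
      have hpc : f'.base (f'.fiberι c p) = c := (f'.range_fiberι c).le ⟨p, rfl⟩
      exact hredat _ p rfl (hyp _ ((hS _ hpc).mp hp)).2)
    (fun w hw ↦ by
      have hwc : f'.base w = c := connectedComponentIn_subset (f'.base ⁻¹' {c}) _ hw
      obtain ⟨ζ, hζ, hfζ⟩ := exists_specializes_of_isOpenAt f'
        ((hyp _ ((hS w hwc).mp hw)).1 (Spec (CommRingCat.of A)) g₀ w rfl) (η := η)
        (by rw [show f' w = c from hwc]; exact hηc)
      exact ⟨ζ, hζ, hfζ⟩)
    hlC (hηc.map l.continuous) (hlf η) (hηc.map g'.continuous) hgη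
  have h1 := Set.ext_iff.mp hbc (l.base η)
  rw [GeomFib.mem_sectionComponents_iff, hlf η] at h1
  have h2 : e.base (l.base η) ∈ MoreMor.sectionComponents f g := h1.mp hmem
  exact Eq.mp (congrArg (· ∈ MoreMor.sectionComponents f g) ((hel η).trans hη')) h2

end Groth.Agent.Unibranch

namespace Groth.Agent.Unibranch

variable {X : Scheme.{u}} {A : Type u} [CommRing A] [IsDomain A] [IsDiscreteValuationRing A]
  (f : X ⟶ Spec (CommRingCat.of A))

/-- With a reduced special fibre and all points generising to the generic fibre, the generic fibre of a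
connected scheme over a discrete valuation ring is connected. -/
theorem isPreconnected_generic_fibre [LocallyOfFiniteType f] [PreconnectedSpace X]
    {c η : ↥(Spec (CommRingCat.of A))} (hcl : IsClosed ({c} : Set ↥(Spec (CommRingCat.of A)))) (hne : η ≠ c)
    (hmax : ∀ t, t ≠ c → t = η)
    (hred : AlgebraicGeometry.IsReduced (f.fiber c))
    (hlift : ∀ w, f w = c → ∃ ζ, ζ ⤳ w ∧ f ζ = η) :
    _root_.IsPreconnected (f.base ⁻¹' {η}) := by
  have : IsLocallyNoetherian X := LocallyOfFiniteType.isLocallyNoetherian f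
  refine isPreconnected_of_forall_pair fun a ha b hb ↦
    ⟨connectedComponentIn (f.base ⁻¹' {η}) a, connectedComponentIn_subset _ _, mem_connectedComponentIn ha, ?_,
      isPreconnected_connectedComponentIn⟩
  let K := connectedComponentIn (f.base ⁻¹' {η}) a
  obtain ⟨O, hO⟩ := exists_opens_inter_eq f η ha
  have hη : IsLocallyConstructible ({η} : Set ↥(Spec (CommRingCat.of A))) := by
    rw [show ({η} : Set ↥(Spec (CommRingCat.of A))) = {c}ᶜ from
      Set.ext fun t ↦ ⟨fun h ↦ by rw [Set.mem_singleton_iff] at h; exact h ▸ hne, fun h ↦ hmax t h⟩]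
    exact ConsTop.isLocallyConstructible_compl (ConsEngine.isLocallyConstructible_of_isClosed hcl)
  have hFη : IsLocallyConstructible (f.base ⁻¹' {η}) := ConsEngine.isLocallyConstructible_preimage f hη
  have hK : IsLocallyConstructible K := by
    rw [show K = (O : Set X) ∩ f.base ⁻¹' {η} from hO.symm]
    refine IsLocallyConstructible.inter ?_ hFη
    simpa using ConsTop.isLocallyConstructible_compl
      (ConsEngine.isLocallyConstructible_of_isClosed O.2.isClosed_compl)
  have hK' : IsLocallyConstructible (f.base ⁻¹' {η} \ K) := hFη.inter (ConsTop.isLocallyConstructible_compl hK)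
  have hG : ∀ r : X, _root_.IsPreconnected {w | w ⤳ r ∧ f w = η} := by
    intro r
    by_cases hr : f r = c
    · obtain ⟨p, rfl⟩ := (f.range_fiberι c).ge hr
      exact isPreconnected_generizations f hne hmax p inferInstance fun w _ hwc ↦ hlift w hwc
    · refine isPreconnected_of_forall r fun w hw ↦ ⟨{w, r}, ?_, Set.mem_insert_of_mem _ rfl, Set.mem_insert _ _, ?_⟩
      · rintro v (rfl | rfl)
        · exact hw
        · exact ⟨specializes_rfl, hmax _ hr⟩
      · exact (isPreconnected_singleton (x := w)).subset_closure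
          (Set.singleton_subset_iff.mpr (Set.mem_insert _ _))
          (Set.insert_subset (subset_closure rfl) (Set.singleton_subset_iff.mpr (specializes_iff_mem_closure.mp hw.1)))
  have hlift' : ∀ r : X, ∃ ζ, ζ ⤳ r ∧ f ζ = η := fun r ↦ by
    by_cases hr : f r = c
    · exact hlift r hr
    · exact ⟨r, specializes_rfl, hmax _ hr⟩
  have hside : ∀ r, r ∈ closure K → ∀ w, w ⤳ r → f w = η → w ∈ K := by
    intro r hrK w hw hwη
    obtain ⟨v, hvK, hvr⟩ := ConsEngine.exists_specializes_of_mem_closure hK hrK
    have hvη : f v = η := connectedComponentIn_subset (f.base ⁻¹' {η}) _ hvK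
    rw [show K = connectedComponentIn (f.base ⁻¹' {η}) v from connectedComponentIn_eq hvK]
    exact (hG r).subset_connectedComponentIn ⟨hvr, hvη⟩ (fun u hu ↦ hu.2) ⟨hw, hwη⟩
  by_contra hbK
  obtain ⟨r, -, hrK, hrK'⟩ := isPreconnected_closed_iff.mp (PreconnectedSpace.isPreconnected_univ (α := X))
    (closure K) (closure (f.base ⁻¹' {η} \ K)) isClosed_closure isClosed_closure
    (fun r _ ↦ by
      obtain ⟨ζ, hζr, hζη⟩ := hlift' r
      by_cases h : ζ ∈ K
      · exact .inl (hζr.mem_closed isClosed_closure (subset_closure h))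
      · exact .inr (hζr.mem_closed isClosed_closure (subset_closure ⟨hζη, h⟩)))
    ⟨a, trivial, subset_closure (mem_connectedComponentIn ha)⟩ ⟨b, trivial, subset_closure ⟨hb, hbK⟩⟩
  obtain ⟨v, hv, hvr⟩ := ConsEngine.exists_specializes_of_mem_closure hK' hrK'
  exact hv.2 (hside r hrK v hvr hv.1)

end Groth.Agent.Unibranch
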