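import Groth.Agent.Unibranch.ComponentDim

/-!
# Components of special and generic fibres under openness
-/

universe u

open CategoryTheory AlgebraicGeometry Topology TopologicalSpace

namespace Groth.Agent.Unibranch

variable {X Y : Scheme.{u}}

/-- A component of a fibre in terms of its generic point in the source. -/
theorem exists_genericPoint_component (f : X ⟶ Y) (y : Y) {Z : Set ↥(f.fiber y)}
    (hZ : Z ∈ irreducibleComponents ↥(f.fiber y)) :
    ∃ z : X, f z = y ∧ (∀ w, f w = y → w ⤳ z → w = z) ∧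
      f.fiberι y '' Z = closure {z} ∩ f ⁻¹' {y} ∧
      topologicalKrullDim ↥Z = topologicalKrullDim ↥(closure ({z} : Set X) ∩ f ⁻¹' {y}) := by
  obtain ⟨p, hp, hpZ⟩ := exists_isMaxPt hZ
  have he := (f.fiberι y).isEmbedding
  have himg : f.fiberι y '' Z = closure {f.fiberι y p} ∩ f ⁻¹' {y} := by
    rw [← hpZ, he.closure_eq_preimage_closure_image, Set.image_singleton,
      Set.image_preimage_eq_inter_range, f.range_fiberι]
  refine ⟨f.fiberι y p, (f.range_fiberι y).le ⟨p, rfl⟩, fun w hw hwp ↦ ?_, himg, ?_⟩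
  · obtain ⟨q, rfl⟩ := (f.range_fiberι y).ge hw
    rw [hp q (he.isInducing.specializes_iff.mp hwp)]
  · rw [IsHomeomorph.topologicalKrullDim_eq _ ((he.homeomorphImage Z).trans
      (Homeomorph.setCongr himg)).isHomeomorph]

/-- A maximal point of a fibre comes from a component of that fibre. -/
theorem exists_component_of_maximal (f : X ⟶ Y) {y : Y} {z : X} (hz : f z = y)
    (hmax : ∀ w, f w = y → w ⤳ z → w = z) :
    ∃ Z ∈ irreducibleComponents ↥(f.fiber y),
      topologicalKrullDim ↥Z = topologicalKrullDim ↥(closure ({z} : Set X) ∩ f ⁻¹' {y}) := by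
  obtain ⟨p, rfl⟩ := (f.range_fiberι y).ge hz
  have he := (f.fiberι y).isEmbedding
  have hp : IsMaxPt (X := f.fiber y) p := fun q hq ↦ he.injective
    (hmax _ ((f.range_fiberι y).le ⟨q, rfl⟩) (hq.map (f.fiberι y).continuous))
  have himg : f.fiberι y '' closure {p} = closure {f.fiberι y p} ∩ f ⁻¹' {y} := by
    rw [he.closure_eq_preimage_closure_image, Set.image_singleton,
      Set.image_preimage_eq_inter_range, f.range_fiberι]
  refine ⟨closure {p}, hp.mem_irreducibleComponents, ?_⟩
  rw [IsHomeomorph.topologicalKrullDim_eq _ ((he.homeomorphImage (closure {p})).trans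
    (Homeomorph.setCongr himg)).isHomeomorph]

/-- Openness at a maximal point `z` of a fibre: over each maximal generisation `η` of its image a
component of the fibre has the dimension of the component of `z`. -/
theorem exists_maximal_same_dim [IsLocallyNoetherian Y] (f : X ⟶ Y) [LocallyOfFiniteType f] {z : X}
    {η : Y} (hη : η ⤳ f z) (hηmax : IsMaxPt η) (hmax : ∀ w, f w = f z → w ⤳ z → w = z)
    (H : EGA43.IsOpenAt f.base z) :
    ∃ m, m ⤳ z ∧ f m = η ∧ (∀ w, f w = η → w ⤳ m → w = m) ∧
      topologicalKrullDim ↥(closure ({m} : Set X) ∩ f ⁻¹' {η}) =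
        topologicalKrullDim ↥(closure ({z} : Set X) ∩ f ⁻¹' {f z}) := by
  obtain ⟨d, hd₁, hd₂, hd⟩ := exists_dim_closure_eq f z
  obtain ⟨ζ, hζz, hfζ, hchain⟩ := exists_hasChain_of_lifts f hη hηmax
    fun η' _ hη' ↦ exists_specializes_of_isOpenAt f H hη'
  obtain ⟨U, hzU, -, hU⟩ := exists_opens_maximal f (U := ⊤) (x := z) trivial η
  obtain ⟨m, hmz, hmζ, hfm, -, hm⟩ := hU ζ (hζz.mem_open U.2 hzU) hfζ
  obtain ⟨U', hzU', -, hU'⟩ := exists_opens_maximal f (U := ⊤) (x := z) trivial (f z)
  have hle : ChainsLE f ((U' : Set X) ∩ closure {m}) (f z) d := by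
    intro k c hc hch
    refine hd₁ k c (fun i ↦ ⟨?_, (hc i).2⟩) hch
    obtain ⟨m', hm'z, hm'c, hfm', -, -⟩ := hU' (c i) (hc i).1.1 (hc i).2
    rw [← hmax m' hfm' hm'z]
    exact specializes_iff_mem_closure.mp hm'c
  have hle' := chainsLE_of_specializes f hmz hzU' hle
  rw [hfm] at hle'
  refine ⟨m, hmz, hfm, hm, ?_⟩
  rw [hd, topologicalKrullDim_inter_eq f isClosed_closure.isLocallyClosed η hle'
    ((hchain d hd₂).mono (closure_minimal (Set.singleton_subset_iff.mpr hmζ.mem_closure)
      isClosed_closure))]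

end Groth.Agent.Unibranch

namespace Groth.Agent.Unibranch

/-- Dimensions are compared componentwise. -/
theorem topologicalKrullDim_le_of_components {α β : Type u} [TopologicalSpace α] [T0Space α]
    [QuasiSober α] [TopologicalSpace β]
    (h : ∀ Z ∈ irreducibleComponents α, ∃ Z' : Set β, topologicalKrullDim ↥Z = topologicalKrullDim ↥Z') :
    topologicalKrullDim α ≤ topologicalKrullDim β := by
  refine le_of_forall_natCast_le fun k hk ↦ ?_
  obtain ⟨c, hc⟩ := exists_chain_of_le_topologicalKrullDim hk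
  have hZ : IsClosed (irreducibleComponent (c 0)) := isClosed_irreducibleComponent
  have hmem : ∀ i, c i ∈ irreducibleComponent (c 0) := fun i ↦
    (specializes_of_chain c hc i).mem_closed hZ mem_irreducibleComponent
  have : QuasiSober (irreducibleComponent (c 0)) := hZ.isClosedEmbedding_subtypeVal.quasiSober
  have h1 := natCast_le_topologicalKrullDim (α := irreducibleComponent (c 0))
    (fun i ↦ ⟨c i, hmem i⟩) fun i ↦
      ⟨(subtype_specializes_iff _ _).mpr (hc i).1, fun h ↦ (hc i).2 (congrArg Subtype.val h)⟩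
  obtain ⟨Z', hZ'⟩ := h _ (irreducibleComponent_mem_irreducibleComponents (c 0))
  exact (h1.trans hZ'.le).trans (topologicalKrullDim_subspace_le β Z')

end Groth.Agent.Unibranch
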