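import Groth.Agent.Unibranch.Rad

/-!
# Comparison of `GUAt` with `CAlg2.IsGeomUnibranch`
-/

universe u

open CAlg2

namespace Groth.Agent.Unibranch

section Abstract

variable {R S K : Type u} [CommRing R] [IsDomain R] [CommRing S] [IsDomain S] [IsLocalRing S]
  [Algebra R S] [Field K] [Algebra S K] [IsFractionRing S K] [Algebra R K] [IsScalarTower R S K]
  (P : Ideal R) [P.IsPrime] [IsLocalization.AtPrime S P]

include P in
theorem injective_algebraMap_of_atPrime : Function.Injective (algebraMap R S) :=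
  IsLocalization.injective S P.primeCompl_le_nonZeroDivisors

variable (R S K) in
/-- The inclusion of the integral closure of `R` into that of its localisation. -/
noncomputable def toLocalClosure : integralClosure R K →ₐ[R] integralClosure S K where
  toFun z := ⟨z.1, z.2.tower_top⟩
  map_one' := rfl
  map_mul' _ _ := rfl
  map_zero' := rfl
  map_add' _ _ := rfl
  commutes' r := Subtype.ext (by
    show algebraMap R K r = _
    exact (IsScalarTower.algebraMap_apply R (integralClosure S K) K r))

theorem exists_mul_eq_toLocalClosure (y : integralClosure S K) :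
    ∃ (z : integralClosure R K) (s : R), s ∉ P ∧
      toLocalClosure R S K z = algebraMap S _ (algebraMap R S s) * y := by
  obtain ⟨⟨s, hs⟩, hsy⟩ := IsIntegral.exists_multiple_integral_of_isLocalization P.primeCompl
    (Rₘ := S) y.1 y.2
  refine ⟨⟨_, hsy⟩, s, hs, Subtype.ext ?_⟩
  show s • y.1 = algebraMap S K (algebraMap R S s) * y.1
  rw [← IsScalarTower.algebraMap_apply, Algebra.smul_def]

/-- A maximal ideal of the normalisation of the localisation lies over `P`. -/
theorem comap_toLocalClosure_comap (m : Ideal (integralClosure S K)) [m.IsMaximal] :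
    (m.comap (toLocalClosure R S K).toRingHom).comap (algebraMap R (integralClosure R K)) = P := by
  have h1 : (m.comap (algebraMap S (integralClosure S K))).IsMaximal :=
    Ideal.isMaximal_comap_of_isIntegral_of_isMaximal m
  have h2 : (m.comap (algebraMap S (integralClosure S K))).comap (algebraMap R S) = P := by
    rw [IsLocalRing.eq_maximalIdeal h1]
    exact IsLocalization.AtPrime.under_maximalIdeal S P
  rw [← h2, Ideal.comap_comap, Ideal.comap_comap]
  congr 1
  ext r
  exact (IsScalarTower.algebraMap_apply R S K r)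

include P in
theorem injective_comap_toLocalClosure {m₁ m₂ : Ideal (integralClosure S K)} [m₁.IsMaximal]
    [m₂.IsMaximal]
    (h : m₁.comap (toLocalClosure R S K).toRingHom = m₂.comap (toLocalClosure R S K).toRingHom) :
    m₁ = m₂ := by
  refine Ideal.IsMaximal.eq_of_le ‹_› (Ideal.IsMaximal.ne_top ‹_›) fun y hy ↦ ?_
  obtain ⟨z, s, hs, hz⟩ := exists_mul_eq_toLocalClosure P y
  have h1 : z ∈ m₁.comap (toLocalClosure R S K).toRingHom := by
    show toLocalClosure R S K z ∈ m₁
    rw [hz]; exact m₁.mul_mem_left _ hy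
  rw [h] at h1
  have h2 : algebraMap S (integralClosure S K) (algebraMap R S s) * y ∈ m₂ := hz ▸ h1
  refine ((Ideal.IsMaximal.isPrime ‹_›).mem_or_mem h2).resolve_left ?_
  exact fun h3 ↦ (Ideal.IsMaximal.ne_top ‹_›)
    (m₂.eq_top_of_isUnit_mem h3 ((IsLocalization.map_units S (⟨s, hs⟩ : P.primeCompl)).map _))

theorem exists_isMaximal_comap (Q : Ideal (integralClosure R K)) [Q.IsPrime]
    (hQ : Q.comap (algebraMap R (integralClosure R K)) = P) :
    ∃ m : Ideal (integralClosure S K), m.IsMaximal ∧ m.comap (toLocalClosure R S K).toRingHom = Q := by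
  letI := (toLocalClosure R S K).toRingHom.toAlgebra
  haveI : IsLocalization (Algebra.algebraMapSubmonoid (integralClosure R K) P.primeCompl)
      (integralClosure S K) := by
    refine ⟨⟨?_, ?_, ?_⟩⟩
    · rintro ⟨_, s, hs, rfl⟩
      show IsUnit (toLocalClosure R S K (algebraMap R _ s))
      rw [AlgHom.commutes, IsScalarTower.algebraMap_apply R S (integralClosure S K)]
      exact (IsLocalization.map_units S (⟨s, hs⟩ : P.primeCompl)).map
        (algebraMap S (integralClosure S K))
    · intro y
      obtain ⟨z, s, hs, hz⟩ := exists_mul_eq_toLocalClosure P y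
      refine ⟨⟨z, ⟨_, ⟨s, hs, rfl⟩⟩⟩, ?_⟩
      show y * toLocalClosure R S K (algebraMap R _ s) = toLocalClosure R S K z
      rw [hz, AlgHom.commutes, mul_comm, IsScalarTower.algebraMap_apply R S (integralClosure S K)]
    · intro a b h
      have h' : toLocalClosure R S K a = toLocalClosure R S K b := h
      have : a = b := Subtype.ext (congrArg Subtype.val h' :)
      exact ⟨1, this ▸ rfl⟩
  have hd : Disjoint (Algebra.algebraMapSubmonoid (integralClosure R K) P.primeCompl :
      Set (integralClosure R K)) Q := by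
    rw [Set.disjoint_left]
    rintro _ ⟨s, hs, rfl⟩ h
    exact hs (hQ ▸ Ideal.mem_comap.mpr h)
  let m := Q.map (algebraMap (integralClosure R K) (integralClosure S K))
  have : m.IsPrime := IsLocalization.isPrime_of_isPrime_disjoint _ _ Q ‹_› hd
  have hm : m.comap (toLocalClosure R S K).toRingHom = Q :=
    IsLocalization.under_map_of_isPrime_disjoint _ _ ‹_› hd
  refine ⟨m, ?_, hm⟩
  refine Ideal.isMaximal_of_isIntegral_of_isMaximal_comap (R := S) m ?_
  have h2 : (m.comap (algebraMap S (integralClosure S K))).comap (algebraMap R S) = P := by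
    rw [← hQ, ← hm, Ideal.comap_comap, Ideal.comap_comap]
    congr 1
    ext r
    exact (IsScalarTower.algebraMap_apply R S K r).symm
  have : m.comap (algebraMap S (integralClosure S K)) = IsLocalRing.maximalIdeal S := by
    rw [← IsLocalization.map_under P.primeCompl S (m.comap (algebraMap S _)), Ideal.under_def, h2,
      IsLocalization.AtPrime.map_eq_maximalIdeal P S]
  exact this ▸ IsLocalRing.maximalIdeal.isMaximal S

omit [IsLocalRing S] [IsScalarTower R S K] [IsFractionRing S K] in
theorem isIntegrallyClosed_integralClosure : IsIntegrallyClosed (integralClosure R K) :=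
  .of_isIntegrallyClosed_of_isIntegrallyClosedIn _ K

/-- Normalisation of the local ring local with purely inseparable residue field gives `GUAt`. -/
theorem guAt_of_local [IsLocalRing (integralClosure S K)]
    (h : ∀ (m : Ideal (integralClosure S K)) [m.IsMaximal], ∀ x : integralClosure S K ⧸ m,
      ∃ n : ℕ, x ^ ringExpChar (integralClosure S K ⧸ m) ^ n ∈
        ((Ideal.Quotient.mk m).comp (algebraMap S (integralClosure S K))).range) :
    GUAt R P := by
  let m := IsLocalRing.maximalIdeal (integralClosure S K)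
  have hinj : Function.Injective (algebraMap R K) := by
    rw [IsScalarTower.algebraMap_eq R S K]
    exact (IsFractionRing.injective S K).comp (injective_algebraMap_of_atPrime P)
  refine ⟨integralClosure R K, inferInstance, inferInstance, inferInstance,
    isIntegrallyClosed_integralClosure, inferInstance, ?_, ?_⟩
  · exact (faithfulSMul_iff_algebraMap_injective _ _).mpr fun a b e ↦ hinj (congrArg Subtype.val e)
  let q := ringExpChar (R ⧸ P)
  have hm := comap_toLocalClosure_comap P m
  let g : R ⧸ P →+* integralClosure S K ⧸ m :=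
    Ideal.quotientMap m ((toLocalClosure R S K).toRingHom.comp (algebraMap R _))
      (by rw [← Ideal.comap_comap]; exact hm.ge)
  have hg : Function.Injective g :=
    Ideal.quotientMap_injective' (by rw [← Ideal.comap_comap]; exact hm.le)
  have : ExpChar (R ⧸ P) q := inferInstance
  have : ExpChar (integralClosure S K ⧸ m) q := expChar_of_injective_ringHom hg q
  have hq : ringExpChar (integralClosure S K ⧸ m) = q := ringExpChar.eq _ q
  refine ⟨q, inferInstance, fun z ↦ ?_⟩
  obtain ⟨n, a', ha'⟩ := h m (Ideal.Quotient.mk m (toLocalClosure R S K z))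
  rw [hq, RingHom.comp_apply, ← map_pow, Ideal.Quotient.eq] at ha'
  obtain ⟨a, ⟨s, hs⟩, rfl⟩ := IsLocalization.exists_mk'_eq P.primeCompl a'
  refine ⟨n, s, a, hs, fun Q _ hQ ↦ ?_⟩
  obtain ⟨m', hm', rfl⟩ := exists_isMaximal_comap (S := S) P Q hQ
  obtain rfl : m' = m := IsLocalRing.eq_maximalIdeal hm'
  show toLocalClosure R S K _ ∈ m
  have := m.mul_mem_left (algebraMap S _ (algebraMap R S s)) ha'
  rw [mul_sub, ← map_mul, show algebraMap R S s * IsLocalization.mk' S a (⟨s, hs⟩ : P.primeCompl) = algebraMap R S a from IsLocalization.mk'_spec' S a (⟨s, hs⟩ : P.primeCompl)] at this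
  rw [← m.neg_mem_iff] at this
  simpa [IsScalarTower.algebraMap_apply R S (integralClosure S K)] using this

/-- Conversely `GUAt` gives a local normalisation with purely inseparable residue field. -/
theorem local_of_guAt (h : GUAt R P) :
    IsLocalRing (integralClosure S K) ∧
    ∀ (m : Ideal (integralClosure S K)) [m.IsMaximal], ∀ x : integralClosure S K ⧸ m,
      ∃ n : ℕ, x ^ ringExpChar (integralClosure S K ⧸ m) ^ n ∈
        ((Ideal.Quotient.mk m).comp (algebraMap S (integralClosure S K))).range := by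
  obtain ⟨R₁, _, _, _, hn, hi, hf, hr⟩ := h
  let L := FractionRing R₁
  have hRL : Function.Injective (algebraMap R L) := by
    rw [IsScalarTower.algebraMap_eq R R₁ L]
    exact (IsFractionRing.injective R₁ L).comp (FaithfulSMul.algebraMap_injective R R₁)
  let σ : S →+* L := IsLocalization.lift (M := P.primeCompl) (g := algebraMap R L) fun s ↦
    IsUnit.mk0 _ fun e ↦ P.primeCompl_le_nonZeroDivisors s.2 |> nonZeroDivisors.ne_zero
      |> (· (hRL (e.trans (map_zero _).symm)))
  have hσ : Function.Injective σ := IsLocalization.lift_injective_iff _ |>.mpr fun x y ↦ by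
    exact (injective_algebraMap_of_atPrime P (S := S)).eq_iff.trans hRL.eq_iff.symm
  let κ : K →ₐ[R] L :=
    { IsFractionRing.lift (K := K) hσ with
      commutes' := fun r ↦ by
        show IsFractionRing.lift (K := K) hσ (algebraMap R K r) = _
        rw [IsScalarTower.algebraMap_apply R S K, IsFractionRing.lift_algebraMap,
          IsLocalization.lift_eq] }
  have hR₁ : IsIntegralClosure R₁ R L :=
    ⟨IsFractionRing.injective R₁ L, fun {x} ↦ ⟨fun hx ↦
      (IsIntegrallyClosed.isIntegral_iff (R := R₁)).mp hx.tower_top,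
      fun ⟨y, hy⟩ ↦ hy ▸ (hi.isIntegral y).algebraMap⟩⟩
  let j₀ : integralClosure R K →ₐ[R] L := κ.comp (integralClosure R K).val
  letI := j₀.toRingHom.toAlgebra
  haveI : IsScalarTower R (integralClosure R K) L :=
    IsScalarTower.of_algebraMap_eq fun r ↦ (j₀.commutes r).symm
  let j : integralClosure R K →ₐ[R] R₁ := IsIntegralClosure.lift R R₁ L
  have hjc : ∀ z, algebraMap R₁ L (j z) = j₀ z := IsIntegralClosure.algebraMap_lift R R₁ L
  have hj : Function.Injective j := fun a b e ↦ by
    have := congrArg (algebraMap R₁ L) e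
    rw [hjc, hjc] at this
    exact Subtype.ext (κ.toRingHom.injective this)
  have hji : j.toRingHom.IsIntegral :=
    RingHom.IsIntegral.tower_top (algebraMap R (integralClosure R K)) j.toRingHom
      (by rw [j.toRingHom_eq_coe, j.comp_algebraMap]; exact fun x ↦ hi.isIntegral x)
  have hr' := hr.of_injective j hj hji
  have hu := hr'.uniqueOver
  refine ⟨.of_unique_max_ideal ?_, fun m _ x ↦ ?_⟩
  · obtain ⟨m, hm⟩ := Ideal.exists_maximal (integralClosure S K)
    exact ⟨m, hm, fun m' hm' ↦ injective_comap_toLocalClosure P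
      (hu _ _ inferInstance inferInstance (comap_toLocalClosure_comap P m')
        (comap_toLocalClosure_comap P m))⟩
  obtain ⟨q, hq, hr'⟩ := hr'
  have hm := comap_toLocalClosure_comap P m
  let g : R ⧸ P →+* integralClosure S K ⧸ m :=
    Ideal.quotientMap m ((toLocalClosure R S K).toRingHom.comp (algebraMap R _))
      (by rw [← Ideal.comap_comap]; exact hm.ge)
  have hg : Function.Injective g :=
    Ideal.quotientMap_injective' (by rw [← Ideal.comap_comap]; exact hm.le)
  have : ExpChar (integralClosure S K ⧸ m) q := expChar_of_injective_ringHom hg q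
  rw [ringExpChar.eq _ q]
  obtain ⟨y, rfl⟩ := Ideal.Quotient.mk_surjective x
  obtain ⟨z, t, ht, hz⟩ := exists_mul_eq_toLocalClosure P y
  obtain ⟨n, s, a, hs, hQ⟩ := hr' z
  let d : P.primeCompl := ⟨s * t ^ q ^ n, fun h' ↦ (Ideal.IsPrime.mem_or_mem ‹_› h').elim hs
    fun h'' ↦ ht (Ideal.IsPrime.mem_of_pow_mem ‹_› _ h'')⟩
  refine ⟨n, IsLocalization.mk' S a d, ?_⟩
  rw [RingHom.comp_apply, ← map_pow, Ideal.Quotient.eq]
  have h1 : toLocalClosure R S K _ ∈ m := hQ _ inferInstance hm
  simp only [map_sub, map_mul, map_pow, AlgHom.commutes, hz, mul_pow] at h1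
  rw [IsScalarTower.algebraMap_apply R S (integralClosure S K) s,
    IsScalarTower.algebraMap_apply R S (integralClosure S K) a, ← IsLocalization.mk'_spec' S a d,
    map_mul, ← mul_assoc, ← map_pow, ← map_mul, ← map_pow, ← map_mul, ← mul_sub] at h1
  have hd : IsUnit (algebraMap S (integralClosure S K) (algebraMap R S d)) :=
    (IsLocalization.map_units S d).map _
  have := (Ideal.unit_mul_mem_iff_mem m hd).mp h1
  rwa [← m.neg_mem_iff, neg_sub]

end Abstract

section Comparison

variable {A : Type u} [CommRing A] (p p₀ : Ideal A) [p.IsPrime]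
  (Ap : Type u) [CommRing Ap] [Algebra A Ap] [IsLocalization.AtPrime Ap p] [IsLocalRing Ap]

theorem comap_nilradical_le (p' : Ideal A) [p'.IsPrime] (h : p' ≤ p) :
    (nilradical Ap).comap (algebraMap A Ap) ≤ p' := by
  have hd : Disjoint (p.primeCompl : Set A) p' := by
    rw [Set.disjoint_left]; exact fun x hx hx' ↦ hx (h hx')
  have := IsLocalization.isPrime_of_isPrime_disjoint p.primeCompl Ap p' ‹_› hd
  rw [← IsLocalization.under_map_of_isPrime_disjoint p.primeCompl Ap ‹p'.IsPrime› hd]
  exact Ideal.comap_mono (nilradical_le_prime _)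

/-- The reduction of a localisation at a prime with a unique minimal prime under it. -/
theorem exists_setup (h0 : (nilradical Ap).comap (algebraMap A Ap) = p₀) [p₀.IsPrime] :
    p₀ ≤ p ∧ IsDomain (red Ap) ∧ (p.map (Ideal.Quotient.mk p₀)).IsPrime ∧
    ∃ φ : A ⧸ p₀ →+* red Ap, φ.comp (Ideal.Quotient.mk p₀) =
        (Ideal.Quotient.mk (nilradical Ap)).comp (algebraMap A Ap) ∧
      ∀ (_ : (p.map (Ideal.Quotient.mk p₀)).IsPrime),
      letI := φ.toAlgebra
      IsLocalization (p.map (Ideal.Quotient.mk p₀)).primeCompl (red Ap) := by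
  have hle : p₀ ≤ p := h0 ▸ comap_nilradical_le p Ap p le_rfl
  have hN : (nilradical Ap).IsPrime := by
    rw [← IsLocalization.map_under p.primeCompl Ap (nilradical Ap), Ideal.under_def, h0]
    exact IsLocalization.isPrime_of_isPrime_disjoint p.primeCompl Ap p₀ ‹_›
      (Set.disjoint_left.mpr fun x hx hx' ↦ hx (hle hx'))
  have : IsDomain (red Ap) := Ideal.Quotient.isDomain _
  have hP : (p.map (Ideal.Quotient.mk p₀)).IsPrime :=
    Ideal.map_isPrime_of_surjective Ideal.Quotient.mk_surjective (by rw [Ideal.mk_ker]; exact hle)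
  have hpP : ∀ x, Ideal.Quotient.mk p₀ x ∈ p.map (Ideal.Quotient.mk p₀) ↔ x ∈ p := fun x ↦ by
    rw [← Ideal.mem_comap, Ideal.comap_map_of_surjective _ Ideal.Quotient.mk_surjective,
      ← RingHom.ker_eq_comap_bot, Ideal.mk_ker, sup_eq_left.mpr hle]
  refine ⟨hle, this, hP, Ideal.quotientMap (nilradical Ap) (algebraMap A Ap) h0.ge,
    RingHom.ext fun x ↦ rfl, fun _ ↦ ?_⟩
  letI := (Ideal.quotientMap (nilradical Ap) (algebraMap A Ap) h0.ge).toAlgebra
  refine ⟨⟨?_, ?_, ?_⟩⟩
  · rintro ⟨y, hy⟩
    obtain ⟨x, rfl⟩ := Ideal.Quotient.mk_surjective y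
    exact (IsLocalization.map_units Ap (⟨x, fun hx ↦ hy ((hpP x).mpr hx)⟩ : p.primeCompl)).map
      (Ideal.Quotient.mk (nilradical Ap))
  · intro y
    obtain ⟨y, rfl⟩ := Ideal.Quotient.mk_surjective y
    obtain ⟨⟨a, s⟩, hs⟩ := IsLocalization.surj p.primeCompl y
    exact ⟨⟨Ideal.Quotient.mk p₀ a, ⟨Ideal.Quotient.mk p₀ s, fun h ↦ s.2 ((hpP s).mp h)⟩⟩,
      congrArg (Ideal.Quotient.mk (nilradical Ap)) hs⟩
  · intro a b h
    exact ⟨1, by rw [Ideal.quotientMap_injective' h0.le h]⟩

/-- The unique minimal prime under a geometrically unibranch prime, and `GUAt` for its quotient. -/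
theorem exists_guAt_of_isGeomUnibranch (h : IsGeomUnibranch Ap) :
    ∃ p₀ : Ideal A, p₀.IsPrime ∧ p₀ ≤ p ∧ (∀ p' : Ideal A, p'.IsPrime → p' ≤ p → p₀ ≤ p') ∧
      GUAt (A ⧸ p₀) (p.map (Ideal.Quotient.mk p₀)) := by
  obtain ⟨⟨hd, hl⟩, hres⟩ := h
  have hN : (nilradical Ap).IsPrime := (Ideal.Quotient.isDomain_iff_prime _).mp hd
  refine ⟨(nilradical Ap).comap (algebraMap A Ap), inferInstance, ?_,
    fun p' _ hp' ↦ comap_nilradical_le p Ap p' hp', ?_⟩
  · exact comap_nilradical_le p Ap p le_rfl
  obtain ⟨hle, _, hP, φ, hφ, hloc⟩ := exists_setup p _ Ap rfl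
  letI := φ.toAlgebra
  haveI := hloc hP
  haveI : IsLocalRing (red Ap) := .of_surjective' (Ideal.Quotient.mk (nilradical Ap)) Ideal.Quotient.mk_surjective
  haveI : IsLocalRing (integralClosure (red Ap) (FractionRing (red Ap))) := hl
  refine guAt_of_local (S := red Ap) (K := FractionRing (red Ap)) _ fun m _ x ↦ ?_
  obtain ⟨n, a, ha⟩ := hres m x
  exact ⟨n, Ideal.Quotient.mk _ a, ha⟩

/-- Converse of `exists_guAt_of_isGeomUnibranch`. -/
theorem isGeomUnibranch_of_guAt [p₀.IsPrime] (hle : p₀ ≤ p)
    (hmin : ∀ p' : Ideal A, p'.IsPrime → p' ≤ p → p₀ ≤ p')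
    (hG : ∀ _ : (p.map (Ideal.Quotient.mk p₀)).IsPrime, GUAt (A ⧸ p₀) (p.map (Ideal.Quotient.mk p₀))) :
    IsGeomUnibranch Ap := by
  have h0 : (nilradical Ap).comap (algebraMap A Ap) = p₀ := by
    refine (comap_nilradical_le p Ap p₀ hle).antisymm fun x hx ↦ ?_
    rw [Ideal.mem_comap, nilradical_eq_sInf, Ideal.mem_sInf]
    intro J hJ
    have hJ' : J.IsPrime := hJ
    have hd := ((IsLocalization.isPrime_iff_isPrime_disjoint p.primeCompl Ap J).mp hJ').2
    exact hmin (J.comap (algebraMap A Ap)) (hJ'.comap _)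
      (fun y hy ↦ by_contra fun hyp ↦ Set.disjoint_left.mp hd hyp hy) hx
  obtain ⟨-, hd, hP, φ, hφ, hloc⟩ := exists_setup p p₀ Ap h0
  letI := φ.toAlgebra
  haveI := hloc hP
  haveI : IsLocalRing (red Ap) := .of_surjective' (Ideal.Quotient.mk (nilradical Ap)) Ideal.Quotient.mk_surjective
  obtain ⟨h1, h2⟩ := local_of_guAt (S := red Ap) (K := FractionRing (red Ap)) _ (hG hP)
  refine ⟨⟨hd, h1⟩, fun m _ x ↦ ?_⟩
  obtain ⟨n, a, ha⟩ := h2 m x
  obtain ⟨a, rfl⟩ := Ideal.Quotient.mk_surjective a
  exact ⟨n, a, ha⟩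

end Comparison

end Groth.Agent.Unibranch
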