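import Groth.Agent.Unibranch.Scheme

/-!
# Unique components through geometrically unibranch points; unibranch local domains
-/

universe u

open CategoryTheory AlgebraicGeometry CAlg2 PrimeSpectrum

namespace Groth.Agent.Unibranch

variable {Y : Scheme.{u}}

/-- Near a geometrically unibranch point there is only one maximal point, if the components are
locally finite. -/
theorem exists_opens_forall_specializes {y η : Y} (hy : IsGeomUnibranch (Y.presheaf.stalk y))
    (hηy : η ⤳ y) (hmax : ∀ z : Y, z ⤳ η → z = η)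
    (hfin : ∃ U : Y.Opens, y ∈ U ∧ (irreducibleComponents ↥U).Finite) :
    ∃ V₀ : Y.Opens, y ∈ V₀ ∧ ∀ z ∈ V₀, η ⤳ z := by
  obtain ⟨SV, hSV, hyV, -⟩ := Y.isBasis_affineOpens.exists_subset_of_mem_open
    (Set.mem_univ y) isOpen_univ
  obtain ⟨V, hV, rfl⟩ : ∃ U : Y.Opens, IsAffineOpen U ∧ (U : Set Y) = SV := hSV
  obtain ⟨p₀, hp₀, hp₀y, hp₀min, -⟩ := exists_guAt_of_affine hV hyV hy
  let η₀ : Y := hV.fromSpec ⟨p₀, hp₀⟩
  have hη₀V : η₀ ∈ V := hV.range_fromSpec.le ⟨_, rfl⟩
  have key : ∀ z : Y, z ⤳ y → η₀ ⤳ z := fun z hz ↦ by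
    have hzV : z ∈ V := hz.mem_open V.2 hyV
    have h1 : (hV.primeIdealOf ⟨z, hzV⟩).asIdeal ≤ (hV.primeIdealOf ⟨y, hyV⟩).asIdeal := by
      rw [asIdeal_le_asIdeal, le_iff_specializes]
      refine (hV.fromSpec.isOpenEmbedding.isInducing.specializes_iff).mp ?_
      convert hz using 1 <;> exact hV.fromSpec_primeIdealOf _
    have h2 : (⟨p₀, hp₀⟩ : PrimeSpectrum Γ(Y, V)) ⤳ hV.primeIdealOf ⟨z, hzV⟩ :=
      (le_iff_specializes _ _).mp (hp₀min _ inferInstance h1)
    convert h2.map hV.fromSpec.continuous using 1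
    exact (hV.fromSpec_primeIdealOf ⟨z, hzV⟩).symm
  have hη : η₀ = η := hmax _ (key η hηy)
  obtain ⟨U, hyU, hU⟩ := hfin
  let T : Set (Set ↥U) := {C ∈ irreducibleComponents ↥U | (⟨y, hyU⟩ : U) ∉ C}
  have hT : IsClosed (⋃ C ∈ T, C) := (hU.subset fun C hC ↦ hC.1).isClosed_biUnion fun C hC ↦
    isClosed_of_mem_irreducibleComponents C hC.1
  refine ⟨⟨Subtype.val '' (⋃ C ∈ T, C)ᶜ, U.2.isOpenMap_subtype_val _ hT.isOpen_compl⟩,
    ⟨⟨y, hyU⟩, ?_, rfl⟩, ?_⟩
  · simp only [Set.mem_compl_iff, Set.mem_iUnion, not_exists]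
    exact fun C hC h ↦ hC.2 h
  · rintro _ ⟨z, hz, rfl⟩
    let C := irreducibleComponent z
    have hC : C ∈ irreducibleComponents ↥U := irreducibleComponent_mem_irreducibleComponents z
    have hyC : (⟨y, hyU⟩ : U) ∈ C := by
      by_contra h
      exact hz (Set.mem_biUnion (show C ∈ T from ⟨hC, h⟩) mem_irreducibleComponent)
    have hi : IsIrreducible C := isIrreducible_irreducibleComponent
    have hc : IsClosed C := isClosed_irreducibleComponent
    have : QuasiSober ↥U := U.2.isOpenEmbedding_subtypeVal.quasiSober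
    obtain ⟨c, hc⟩ := QuasiSober.sober hi hc
    have h1 : (c : Y) ⤳ y := (hc.specializes hyC).map continuous_subtype_val
    have h2 : (c : Y) ⤳ z := (hc.specializes mem_irreducibleComponent).map continuous_subtype_val
    exact hη ▸ (key _ h1).trans h2

/-- On a locally Noetherian scheme the components are locally finite. -/
theorem exists_opens_finite_components [IsLocallyNoetherian Y] (y : Y) :
    ∃ U : Y.Opens, y ∈ U ∧ (irreducibleComponents ↥U).Finite := by
  obtain ⟨SV, hSV, hyV, -⟩ := Y.isBasis_affineOpens.exists_subset_of_mem_open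
    (Set.mem_univ y) isOpen_univ
  obtain ⟨V, hV, rfl⟩ : ∃ U : Y.Opens, IsAffineOpen U ∧ (U : Set Y) = SV := hSV
  refine ⟨V, hyV, ?_⟩
  have : IsAffine V := hV
  have : AlgebraicGeometry.IsNoetherian (V : Scheme.{u}) := { }
  exact TopologicalSpace.NoetherianSpace.finite_irreducibleComponents (α := (V : Scheme.{u}))

/-- If the space has finitely many components, there is nothing to check. -/
theorem exists_opens_finite_components_of_finite (hfin : (irreducibleComponents Y).Finite) (y : Y) :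
    ∃ U : Y.Opens, y ∈ U ∧ (irreducibleComponents ↥U).Finite := by
  refine ⟨⊤, trivial, ?_⟩
  have := hfin.image fun C ↦ (Subtype.val : (⊤ : Y.Opens) → Y) ⁻¹' C
  refine this.subset fun C hC ↦ ?_
  have he : Topology.IsOpenEmbedding (Subtype.val : (⊤ : Y.Opens) → Y) :=
    (⊤ : Y.Opens).2.isOpenEmbedding_subtypeVal
  have hi : IsIrreducible (Subtype.val '' C) :=
    hC.1.image _ continuous_subtype_val.continuousOn
  obtain ⟨D, hD, hCD⟩ := exists_mem_irreducibleComponents_subset_of_isIrreducible _ hi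
  refine ⟨D, hD, ?_⟩
  refine Set.Subset.antisymm (hC.2 (hD.1.preimage he ⟨_, hD.1.1.some_mem, ⟨⟨_, trivial⟩, rfl⟩⟩) ?_) ?_
  · exact Set.image_subset_iff.mp hCD
  · exact Set.image_subset_iff.mp hCD

section Local

variable {R S K : Type u} [CommRing R] [IsDomain R] [CommRing S] [IsDomain S] [IsLocalRing S]
  [Algebra R S] [Field K] [Algebra S K] [IsFractionRing S K] [Algebra R K] [IsScalarTower R S K]
  (P : Ideal R) [P.IsPrime] [IsLocalization.AtPrime S P]

theorem uniqueOver_of_local [IsLocalRing (integralClosure S K)] :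
    UniqueOver R (integralClosure R K) P := by
  intro Q₁ Q₂ _ _ h₁ h₂
  obtain ⟨m₁, hm₁, rfl⟩ := exists_isMaximal_comap (S := S) P Q₁ h₁
  obtain ⟨m₂, hm₂, rfl⟩ := exists_isMaximal_comap (S := S) P Q₂ h₂
  rw [IsLocalRing.eq_maximalIdeal hm₁, IsLocalRing.eq_maximalIdeal hm₂]

end Local

/-- If images of neighbourhoods of `n` are neighbourhoods, generisations lift. -/
theorem exists_le_of_mem_nhds {R B : Type u} [CommRing R] [CommRing B] [Algebra R B]
    (n : PrimeSpectrum B)
    (h : ∀ s ∈ nhds n, comap (algebraMap R B) '' s ∈ nhds (comap (algebraMap R B) n))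
    (p : PrimeSpectrum R) (hp : p.asIdeal ≤ (comap (algebraMap R B) n).asIdeal) :
    ∃ q : PrimeSpectrum B, q.asIdeal ≤ n.asIdeal ∧ comap (algebraMap R B) q = p := by
  let M : Submonoid B := n.asIdeal.primeCompl ⊔ p.asIdeal.primeCompl.map (algebraMap R B)
  have hd : Disjoint (p.asIdeal.map (algebraMap R B) : Set B) M := by
    rw [Set.disjoint_left]
    intro x hx hxM
    obtain ⟨s, hs, _, ⟨t, ht, rfl⟩, rfl⟩ := Submonoid.mem_sup.mp hxM
    obtain ⟨q, hq, hqp⟩ := mem_of_mem_nhds_of_specializes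
      (h _ ((basicOpen s).2.mem_nhds hs)) ((le_iff_specializes _ _).mp hp)
    have h1 : p.asIdeal.map (algebraMap R B) ≤ q.asIdeal :=
      Ideal.map_le_iff_le_comap.mpr (congrArg PrimeSpectrum.asIdeal hqp).ge
    rcases q.isPrime.mem_or_mem (h1 hx) with h2 | h2
    · exact hq h2
    · exact ht ((congrArg PrimeSpectrum.asIdeal hqp).le (Ideal.mem_comap.mpr h2))
  obtain ⟨q, hq, hle, hdq⟩ := Ideal.exists_le_prime_disjoint _ M hd
  refine ⟨⟨q, hq⟩, fun x hx ↦ by_contra fun hxn ↦ ?_, PrimeSpectrum.ext ?_⟩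
  · exact Set.disjoint_left.mp hdq hx (le_sup_left (a := n.asIdeal.primeCompl) hxn)
  · refine le_antisymm (fun r hr ↦ by_contra fun hrp ↦ ?_) (Ideal.map_le_iff_le_comap.mp hle)
    exact Set.disjoint_left.mp hdq hr
      (le_sup_right (a := n.asIdeal.primeCompl) ⟨r, hrp, rfl⟩)
where
  mem_of_mem_nhds_of_specializes {α : Type u} [TopologicalSpace α] {a b : α} {s : Set α}
      (hs : s ∈ nhds b) (hab : a ⤳ b) : a ∈ s :=
    mem_of_mem_nhds (hab hs)

end Groth.Agent.Unibranch
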