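import Groth.Agent.Unibranch.Noether

/-!
# Relative dimension of primes
-/

universe u

open PrimeSpectrum

namespace Groth.Agent.Unibranch

variable {A B : Type u} [CommRing A] [CommRing B] [Algebra A B] {σ : Type u}

/-- The images of `t` in `B ⧸ q` are algebraically independent over `A ⧸ (q ∩ A)`. -/
def GenAt (t : σ → B) (q : Ideal B) : Prop :=
  AlgebraicIndependent (A ⧸ q.under A) fun i ↦ Ideal.Quotient.mk q (t i)

variable (A) in
/-- The relative dimension of a prime: the transcendence degree of `B ⧸ q` over `A ⧸ (q ∩ A)`. -/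
noncomputable def rdim (q : Ideal B) : ℕ :=
  Cardinal.toNat (Algebra.trdeg (A ⧸ q.under A) (B ⧸ q))

theorem algebraMap_injective_quotient_under (q : Ideal B) :
    Function.Injective (algebraMap (A ⧸ q.under A) (B ⧸ q)) := by
  rw [injective_iff_map_eq_zero]
  intro x hx
  obtain ⟨a, rfl⟩ := Ideal.Quotient.mk_surjective x
  have h1 : Ideal.Quotient.mk q (algebraMap A B a) = 0 := hx
  exact Ideal.Quotient.eq_zero_iff_mem.mpr
    (Ideal.mem_comap.mpr (Ideal.Quotient.eq_zero_iff_mem.mp h1))

theorem finiteType_quotient_under [Algebra.FiniteType A B] (q : Ideal B) :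
    Algebra.FiniteType (A ⧸ q.under A) (B ⧸ q) :=
  have : Algebra.FiniteType A (B ⧸ q) := .trans (R := A) (S := B) inferInstance inferInstance
  Algebra.FiniteType.of_restrictScalars_finiteType A _ _

theorem natCast_rdim [Algebra.FiniteType A B] (q : Ideal B) [q.IsPrime] :
    (rdim A q : Cardinal.{u}) = Algebra.trdeg (A ⧸ q.under A) (B ⧸ q) := by
  have := finiteType_quotient_under (A := A) q
  exact Cardinal.cast_toNat_of_lt_aleph0 trdeg_lt_aleph0_of_finiteType

theorem GenAt.card_le [Algebra.FiniteType A B] [Finite σ] {t : σ → B} {q : Ideal B} [q.IsPrime]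
    (h : GenAt (A := A) t q) : Nat.card σ ≤ rdim A q := by
  have h1 := AlgebraicIndependent.cardinalMk_le_trdeg h
  rw [← natCast_rdim q, ← Nat.cast_card] at h1
  exact_mod_cast h1

theorem exists_genAt [Algebra.FiniteType A B] (q : Ideal B) [q.IsPrime] :
    ∃ t : ULift.{u} (Fin (rdim A q)) → B, GenAt (A := A) t q ∧
      IsTranscendenceBasis (A ⧸ q.under A) fun i ↦ Ideal.Quotient.mk q (t i) := by
  have : FaithfulSMul (A ⧸ q.under A) (B ⧸ q) :=
    (faithfulSMul_iff_algebraMap_injective _ _).mpr (algebraMap_injective_quotient_under q)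
  obtain ⟨ι, x, hx⟩ := exists_isTranscendenceBasis' (R := A ⧸ q.under A) (A := B ⧸ q)
  have hc := hx.cardinalMk_eq_trdeg
  rw [← natCast_rdim q] at hc
  have : Finite ι := Cardinal.lt_aleph0_iff_finite.mp (hc ▸ Cardinal.natCast_lt_aleph0)
  have hcard : Nat.card ι = rdim A q := by rw [Nat.card, hc, Cardinal.toNat_natCast]
  let e : ULift.{u} (Fin (rdim A q)) ≃ ι := Equiv.ulift.trans ((finCongr hcard.symm).trans (Finite.equivFin ι).symm)
  choose t ht using fun i ↦ Ideal.Quotient.mk_surjective (x (e i))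
  have h1 : IsTranscendenceBasis (A ⧸ q.under A) fun i ↦ Ideal.Quotient.mk q (t i) := by
    simp only [ht]
    exact hx.comp_equiv e
  exact ⟨t, h1.1, h1⟩

/-- Independence in terms of primes. -/
theorem genAt_iff_comap [Finite σ] (t : σ → B) (q : Ideal B) :
    GenAt (A := A) t q ↔ q.comap (MvPolynomial.aeval (R := A) t).toRingHom =
      (q.under A).map (MvPolynomial.C : A →+* MvPolynomial σ A) := by
  let π : MvPolynomial σ A →+* MvPolynomial σ (A ⧸ q.under A) :=
    MvPolynomial.map (Ideal.Quotient.mk _)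
  let ev : MvPolynomial σ (A ⧸ q.under A) →ₐ[A ⧸ q.under A] B ⧸ q :=
    MvPolynomial.aeval fun i ↦ Ideal.Quotient.mk q (t i)
  have hev : ev.toRingHom.comp π =
      (Ideal.Quotient.mk q).comp (MvPolynomial.aeval (R := A) t).toRingHom := by
    refine MvPolynomial.ringHom_ext (fun a ↦ ?_) (fun i ↦ ?_)
    · simp only [RingHom.comp_apply, π, MvPolynomial.map_C, AlgHom.toRingHom_eq_coe,
        RingHom.coe_coe, ev, MvPolynomial.aeval_C]
      rfl
    · simp [ev, π]
  have hπ : Function.Surjective π := MvPolynomial.map_surjective _ Ideal.Quotient.mk_surjective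
  have hker : RingHom.ker π = (q.under A).map (MvPolynomial.C : A →+* MvPolynomial σ A) := by
    rw [MvPolynomial.ker_map, Ideal.mk_ker]
  have hcomap : q.comap (MvPolynomial.aeval (R := A) t).toRingHom = (RingHom.ker ev.toRingHom).comap π := by
    rw [RingHom.comap_ker, hev, ← RingHom.comap_ker, Ideal.mk_ker]
  rw [GenAt, algebraicIndependent_iff_ker_eq_bot, hcomap, ← hker, RingHom.ker_eq_comap_bot π]
  exact ⟨fun h ↦ by rw [← h], fun h ↦ Ideal.comap_injective_of_surjective π hπ h⟩

theorem exists_algebraicIndependent_of_ltSeries' [Algebra.FiniteType A B] {L : Type u} [Field L]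
    [Algebra A L] (p₀ : Ideal A) (hp₀ : RingHom.ker (algebraMap A L) = p₀) (ι : B →ₐ[A] L)
    (l : LTSeries (PrimeSpectrum B)) (hl : ∀ i, (comap (algebraMap A B) (l i)).asIdeal = p₀)
    (hhead : RingHom.ker ι.toRingHom ≤ (l 0).asIdeal)
    [Algebra (A ⧸ p₀) L] [IsScalarTower A (A ⧸ p₀) L] :
    (l.length : Cardinal.{u}) ≤ Algebra.trdeg (A ⧸ p₀) L := by
  subst hp₀
  exact exists_algebraicIndependent_of_ltSeries ι l hl hhead

/-- Chains over `q ∩ A` above `q` are no longer than the relative dimension. -/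
theorem length_le_rdim [Algebra.FiniteType A B] (q : PrimeSpectrum B) (l : LTSeries (PrimeSpectrum B))
    (hl : ∀ i, comap (algebraMap A B) (l i) = comap (algebraMap A B) q) (hhead : q.asIdeal ≤ (l 0).asIdeal) :
    l.length ≤ rdim A q.asIdeal := by
  let L := FractionRing (B ⧸ q.asIdeal)
  let ι : B →ₐ[A] L :=
    (IsScalarTower.toAlgHom A (B ⧸ q.asIdeal) L).comp (Ideal.Quotient.mkₐ A q.asIdeal)
  have hι : RingHom.ker ι.toRingHom = q.asIdeal := by
    ext b
    show algebraMap (B ⧸ q.asIdeal) L (Ideal.Quotient.mk q.asIdeal b) = 0 ↔ _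
    rw [map_eq_zero_iff _ (IsFractionRing.injective (B ⧸ q.asIdeal) L),
      Ideal.Quotient.eq_zero_iff_mem]
  have hp : RingHom.ker (algebraMap A L) = q.asIdeal.under A := by
    ext a
    have := SetLike.ext_iff.mp hι (algebraMap A B a)
    rw [RingHom.mem_ker] at this
    show algebraMap A L a = 0 ↔ algebraMap A B a ∈ q.asIdeal
    rw [← ι.commutes]
    exact this
  have h1 := exists_algebraicIndependent_of_ltSeries' (q.asIdeal.under A) hp ι l
    (fun i ↦ by rw [hl i]; rfl) (hι.le.trans hhead)
  obtain ⟨t, ht, htb⟩ := exists_genAt (A := A) q.asIdeal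
  -- move the basis to the fraction field
  have h2 : Algebra.trdeg (A ⧸ q.asIdeal.under A) L ≤ (rdim A q.asIdeal : Cardinal.{u}) := by
    have : Algebra.IsAlgebraic (B ⧸ q.asIdeal) L :=
      IsLocalization.isAlgebraic L (nonZeroDivisors (B ⧸ q.asIdeal))
    have := (htb.algebraMap_comp (A := L)).cardinalMk_eq_trdeg
    rw [← this, Cardinal.mk_fintype, Fintype.card_ulift, Fintype.card_fin]
  exact_mod_cast h1.trans h2

/-- A domain quasi-finite at its generic point over a polynomial ring has small transcendence degree. -/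
theorem trdeg_le_of_quasiFiniteAt_bot {D : Type u} [CommRing D] [IsDomain D] [Algebra A D]
    [Algebra.FiniteType A D] (p₀ : Ideal A) [Algebra (A ⧸ p₀) D] [IsScalarTower A (A ⧸ p₀) D]
    [IsDomain (A ⧸ p₀)] {σ : Type u} (t : σ → D)
    (ht : letI := (MvPolynomial.aeval (R := A) t).toRingHom.toAlgebra
      Algebra.QuasiFiniteAt (MvPolynomial σ A) (⊥ : Ideal D)) :
    Algebra.trdeg (A ⧸ p₀) D ≤ Cardinal.mk σ := by
  letI := (MvPolynomial.aeval (R := A) t).toRingHom.toAlgebra
  haveI : IsScalarTower A (MvPolynomial σ A) D :=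
    IsScalarTower.of_algebraMap_eq fun a ↦ ((MvPolynomial.aeval (R := A) t).commutes a).symm
  haveI : Algebra.FiniteType (MvPolynomial σ A) D :=
    Algebra.FiniteType.of_restrictScalars_finiteType A (MvPolynomial σ A) D
  haveI := ht
  obtain ⟨r, hr, hri, hrx⟩ := Algebra.zariskisMainProperty_iff.mp
    (Algebra.ZariskisMainProperty.of_finiteType (R := MvPolynomial σ A) (⊥ : Ideal D))
  let ev : MvPolynomial σ (A ⧸ p₀) →ₐ[A ⧸ p₀] D := MvPolynomial.aeval t
  let S := Algebra.adjoin (A ⧸ p₀) (Set.range t)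
  have hS : ∀ f, MvPolynomial.aeval (R := A) t f ∈ S := fun f ↦ by
    have h : ev.toRingHom.comp (MvPolynomial.map (Ideal.Quotient.mk p₀)) =
        (MvPolynomial.aeval (R := A) t).toRingHom := by
      refine MvPolynomial.ringHom_ext (fun a ↦ ?_) (fun i ↦ ?_)
      · simp only [RingHom.comp_apply, MvPolynomial.map_C, AlgHom.toRingHom_eq_coe,
          RingHom.coe_coe, ev, MvPolynomial.aeval_C]
        exact (IsScalarTower.algebraMap_apply A (A ⧸ p₀) D a).symm
      · simp [ev]
    have hf := RingHom.congr_fun h f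
    simp only [RingHom.comp_apply, AlgHom.toRingHom_eq_coe, RingHom.coe_coe] at hf
    rw [show S = ev.range from Algebra.adjoin_range_eq_range_aeval _ _, ← hf]
    exact AlgHom.mem_range_self ev _
  let φ : MvPolynomial σ A →+* S :=
    RingHom.codRestrict (MvPolynomial.aeval (R := A) t).toRingHom S hS
  have hφ : ∀ f, algebraMap S D (φ f) = algebraMap (MvPolynomial σ A) D f := fun f ↦ by
    rw [RingHom.algebraMap_toAlgebra]
    rfl
  have hcomp : (algebraMap S D).comp φ = (RingHom.id D).comp (algebraMap (MvPolynomial σ A) D) := by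
    refine RingHom.ext fun f ↦ ?_
    rw [RingHom.comp_apply, RingHom.id_comp, hφ]
  have hint : ∀ x : D, IsIntegral (MvPolynomial σ A) x → IsIntegral S x := fun x hx ↦
    IsIntegral.map_of_comp_eq φ (RingHom.id D) hcomp hx
  haveI : Algebra.IsAlgebraic S D := by
    refine ⟨fun x ↦ ?_⟩
    obtain ⟨m, hm⟩ := hrx x
    exact IsAlgebraic.of_mul (y := r ^ m)
      (mem_nonZeroDivisors_of_ne_zero (pow_ne_zero m fun h ↦ hr (by rw [h]; exact Ideal.zero_mem _)))
      ((hint _ hri).pow m).isAlgebraic (hint _ hm).isAlgebraic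
  exact (Algebra.IsAlgebraic.trdeg_le_cardinalMk (A ⧸ p₀) (Set.range t)).trans Cardinal.mk_range_le

/-- Semicontinuity: chains above `q` in the fibre near `n ⊇ q` bound the relative dimension of `q`. -/
theorem rdim_le_of_chains [Algebra.FiniteType A B] (q n : PrimeSpectrum B) (hqn : q.asIdeal ≤ n.asIdeal)
    {g : B} (hg : g ∉ n.asIdeal) {e : ℕ}
    (he : ∀ l : LTSeries (PrimeSpectrum B), (∀ i, comap (algebraMap A B) (l i) = comap (algebraMap A B) n ∧
      q.asIdeal ≤ (l i).asIdeal ∧ g ∉ (l i).asIdeal) → l.length ≤ e) :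
    rdim A q.asIdeal ≤ e := by
  let D := B ⧸ q.asIdeal
  let gD : D := Ideal.Quotient.mk _ g
  let D' := Localization.Away gD
  have hgq : gD ≠ 0 := fun h ↦ hg (hqn (Ideal.Quotient.eq_zero_iff_mem.mp h))
  have hpow : Submonoid.powers gD ≤ nonZeroDivisors D :=
    powers_le_nonZeroDivisors_of_noZeroDivisors hgq
  haveI : IsDomain D' := IsLocalization.isDomain_of_le_nonZeroDivisors D' hpow
  have hD'inj : Function.Injective (algebraMap D D') := IsLocalization.injective D' hpow
  haveI : Algebra.FiniteType A D := .trans (R := A) (S := B) inferInstance inferInstance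
  haveI : Algebra.FiniteType D D' := IsLocalization.finiteType_of_monoid_fg (Submonoid.powers gD) D'
  haveI : Algebra.FiniteType A D' := .trans (R := A) (S := D) inferInstance inferInstance
  let π : B →+* D' := (algebraMap D D').comp (Ideal.Quotient.mk q.asIdeal)
  -- the point `n` in the localisation
  obtain ⟨n', hn'⟩ : n ∈ Set.range (comap π) := by
    have h1 : (n.asIdeal.map (Ideal.Quotient.mk q.asIdeal)).IsPrime :=
      Ideal.map_isPrime_of_surjective Ideal.Quotient.mk_surjective (by rw [Ideal.mk_ker]; exact hqn)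
    have h2 : (n.asIdeal.map (Ideal.Quotient.mk q.asIdeal)).comap (Ideal.Quotient.mk q.asIdeal) =
        n.asIdeal := by
      rw [Ideal.comap_map_of_surjective _ Ideal.Quotient.mk_surjective, ← RingHom.ker_eq_comap_bot,
        Ideal.mk_ker, sup_eq_left.mpr hqn]
    obtain ⟨n', hn'⟩ : (⟨_, h1⟩ : PrimeSpectrum D) ∈ Set.range (comap (algebraMap D D')) := by
      rw [localization_away_comap_range D' gD]
      exact fun h ↦ hg (h2 ▸ Ideal.mem_comap.mpr h)
    refine ⟨n', ?_⟩
    rw [show comap π n' = comap (Ideal.Quotient.mk q.asIdeal) (comap (algebraMap D D') n') from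
      comap_comp_apply _ _ _, hn']
    exact PrimeSpectrum.ext h2
  have hπA : π.comp (algebraMap A B) = algebraMap A D' := by
    rw [IsScalarTower.algebraMap_eq A D D', RingHom.comp_assoc]
    rfl
  have hpi : Function.Injective (comap π) := by
    intro a b h
    apply localization_comap_injective D' (Submonoid.powers gD)
    exact comap_injective_of_surjective _ Ideal.Quotient.mk_surjective
      ((comap_comp_apply _ _ _).symm.trans (h.trans (comap_comp_apply _ _ _)))
  obtain ⟨t, ht⟩ := exists_quasiFiniteAt_aeval n' (e := e) fun l hl ↦ by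
    have hmono : StrictMono (comap π) :=
      Monotone.strictMono_of_injective (fun a b h ↦ Ideal.comap_mono h) hpi
    refine he (l.map (comap π) hmono) fun i ↦ ⟨?_, ?_, ?_⟩
    · show comap (algebraMap A B) (comap π (l i)) = _
      rw [← comap_comp_apply, hπA, hl i, ← hπA, comap_comp_apply, hn']
    · intro b hb
      show π b ∈ (l i).asIdeal
      rw [show π b = 0 by
        show algebraMap D D' (Ideal.Quotient.mk q.asIdeal b) = 0
        rw [Ideal.Quotient.eq_zero_iff_mem.mpr hb, map_zero]]
      exact Ideal.zero_mem _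
    · intro h
      exact (l i).isPrime.ne_top (Ideal.eq_top_of_isUnit_mem _ h
        (IsLocalization.Away.algebraMap_isUnit gD))
  let R := A ⧸ q.asIdeal.under A
  have h1 : Algebra.trdeg R D ≤ Algebra.trdeg R D' :=
    trdeg_le_of_injective (IsScalarTower.toAlgHom R D D') hD'inj
  have h2 : Algebra.trdeg R D' ≤ (e : Cardinal.{u}) := by
    letI := (MvPolynomial.aeval (R := A) t).toRingHom.toAlgebra
    haveI := ht
    refine (trdeg_le_of_quasiFiniteAt_bot (q.asIdeal.under A) t
      (Algebra.QuasiFiniteAt.of_le bot_le (Q := n'.asIdeal))).trans ?_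
    rw [Cardinal.mk_fintype, Fintype.card_ulift, Fintype.card_fin]
  have h3 := h1.trans h2
  rw [← natCast_rdim q.asIdeal] at h3
  exact_mod_cast h3

end Groth.Agent.Unibranch
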