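import Groth.Agent.Unibranch.LiftDim
import Groth.Agent.Unibranch.Lifting

/-!
# Fibre dimensions over a valuation ring
-/

universe u

open CategoryTheory AlgebraicGeometry Topology TopologicalSpace

namespace Groth.Agent.Unibranch

/-- Over a valuation ring, elements generic at a prime stay generic at a smaller prime over `⊥`. -/
theorem genAt_of_le_of_valuationRing {R B : Type u} [CommRing R] [IsDomain R] [ValuationRing R]
    [CommRing B] [Algebra R B] {σ : Type u} [Finite σ] (t : σ → B) (n q : Ideal B) [n.IsPrime]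
    [q.IsPrime] (hqn : q ≤ n) (hq : q.under R = ⊥) (h : GenAt (A := R) t n) :
    GenAt (A := R) t q := by
  classical
  rw [genAt_iff_comap] at h ⊢
  rw [hq, Ideal.map_bot, eq_bot_iff]
  intro P hP
  rw [Ideal.mem_bot]
  by_contra hne
  obtain ⟨m, hm, hdvd⟩ := exists_dvd_forall P.support
    (Finset.nonempty_iff_ne_empty.mpr fun h0 ↦ hne (MvPolynomial.support_eq_empty.mp h0)) (fun m ↦ MvPolynomial.coeff m P)
  set c := MvPolynomial.coeff m P with hc
  have hc0 : c ≠ 0 := MvPolynomial.mem_support_iff.mp hm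
  obtain ⟨P', hP'⟩ : MvPolynomial.C c ∣ P := by
    rw [MvPolynomial.C_dvd_iff_dvd_coeff]
    intro i
    by_cases hi : i ∈ P.support
    · exact hdvd i hi
    · rw [MvPolynomial.notMem_support_iff.mp hi]; exact dvd_zero c
  have hcoeff : MvPolynomial.coeff m P' = 1 := by
    have := congrArg (MvPolynomial.coeff m) hP'
    rw [MvPolynomial.coeff_C_mul, ← hc] at this
    exact mul_left_cancel₀ hc0 (this.symm.trans (mul_one c).symm)
  have hP'q : MvPolynomial.aeval (R := R) t P' ∈ q := by
    have h1 : MvPolynomial.aeval (R := R) t P ∈ q := hP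
    rw [hP', map_mul, MvPolynomial.aeval_C] at h1
    refine ((inferInstance : q.IsPrime).mem_or_mem h1).resolve_left fun h2 ↦ hc0 ?_
    have h3 : c ∈ q.under R := h2
    rwa [hq, Ideal.mem_bot] at h3
  have h4 : P' ∈ n.comap (MvPolynomial.aeval (R := R) t).toRingHom := hqn hP'q
  rw [h, MvPolynomial.mem_map_C_iff] at h4
  have h5 := h4 m
  rw [hcoeff] at h5
  exact (inferInstance : (n.under R).IsPrime).ne_top ((Ideal.eq_top_iff_one _).mpr h5)

theorem valuationRing_of_ringEquiv {R S : Type u} [CommRing R] [IsDomain R] [ValuationRing R]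
    [CommRing S] [IsDomain S] (e : R ≃+* S) : ValuationRing S :=
  ValuationRing.iff_dvd_total.mpr ⟨fun a b ↦ by
    rcases ValuationRing.dvd_total (e.symm a) (e.symm b) with h | h
    · exact Or.inl (by simpa using map_dvd e h)
    · exact Or.inr (by simpa using map_dvd e h)⟩

/-- Over a valuation ring, a generisation over the generic point has fibres at least as big. -/
theorem hasChain_of_specializes_generic {R : CommRingCat.{u}} [IsDomain R] [ValuationRing R]
    {X : Scheme.{u}} (f : X ⟶ Spec R) [LocallyOfFiniteType f] {ζ z : X} (hζ : ζ ⤳ z)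
    (hη : f ζ = genericPoint ↥(Spec R)) {k : ℕ} (hk : HasChain f (closure {z}) (f z) k) :
    HasChain f Set.univ (genericPoint ↥(Spec R)) k := by
  let V : (Spec R).Opens := ⊤
  obtain ⟨-, W, -, hW, hzW, -, -⟩ := exists_chart_le f (U := ⊤) (x := z) trivial
  have hV : IsAffineOpen V := isAffineOpen_top (Spec R)
  have hWV : W ≤ f ⁻¹ᵁ V := le_top
  let := (f.appLE V W hWV).hom.toAlgebra
  have : Algebra.FiniteType Γ(Spec R, V) Γ(X, W) := f.finiteType_appLE hV hW hWV
  let e : R ≃+* Γ(Spec R, V) := (Scheme.ΓSpecIso R).symm.commRingCatIsoToRingEquiv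
  have : IsDomain Γ(Spec R, V) := e.symm.toMulEquiv.isDomain
  have : ValuationRing Γ(Spec R, V) := valuationRing_of_ringEquiv e
  have hζW : ζ ∈ W := hζ.mem_open W.2 hzW
  let n := hW.primeIdealOf ⟨z, hzW⟩
  let q := hW.primeIdealOf ⟨ζ, hζW⟩
  have hqn : q.asIdeal ≤ n.asIdeal := (primeIdealOf_le_iff hW hζW hzW).mpr hζ
  have hqp : q.asIdeal.under Γ(Spec R, V) =
      (hV.primeIdealOf ⟨genericPoint ↥(Spec R), trivial⟩).asIdeal := by
    have := congrArg PrimeSpectrum.asIdeal (IsAffineOpen.comap_primeIdealOf_appLE V hV W hW hWV hζW)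
    simp only [hη] at this
    exact this
  have hbot : q.asIdeal.under Γ(Spec R, V) = ⊥ := by
    rw [hqp, eq_bot_iff]
    let p0 : PrimeSpectrum Γ(Spec R, V) := ⟨⊥, Ideal.isPrime_bot⟩
    have h1 : genericPoint ↥(Spec R) ⤳ hV.fromSpec p0 := genericPoint_specializes _
    have h2 := (primeIdealOf_le_iff hV (show genericPoint ↥(Spec R) ∈ V from trivial)
      (show hV.fromSpec p0 ∈ V from trivial)).mpr h1
    have h3 : hV.primeIdealOf ⟨hV.fromSpec p0, trivial⟩ = p0 :=
      hV.fromSpec.isOpenEmbedding.injective (hV.fromSpec_primeIdealOf _)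
    rw [h3] at h2
    exact h2
  obtain ⟨t, ht, -⟩ := exists_genAt (A := Γ(Spec R, V)) n.asIdeal
  obtain ⟨ζ', -, -, h⟩ := hasChain_closure_of_genAt f hV hW hWV hzW (η := genericPoint ↥(Spec R))
    trivial q hqn hqp t
    (by rw [Nat.card_eq_fintype_card, Fintype.card_ulift, Fintype.card_fin]; rfl)
    (genAt_of_le_of_valuationRing t n.asIdeal q.asIdeal hqn hbot ht)
  exact (h k hk).mono (Set.subset_univ _)

end Groth.Agent.Unibranch
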