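import Groth.Agent.Unibranch.Chains

/-!
# Chevalley's criterion at a point
-/

universe u

open CategoryTheory AlgebraicGeometry Topology CAlg2

namespace Groth.Agent.Unibranch

variable {X Y : Scheme.{u}}

/-- A morphism equidimensional at a point over a geometrically unibranch point is universally open
there, if the components of the base are locally finite. -/
theorem isUnivOpenAt_of_isEquidimAt (f : X ⟶ Y) [LocallyOfFiniteType f] (x : X)
    (hy : IsGeomUnibranch (Y.presheaf.stalk (f x)))
    (hfin : ∃ U : Y.Opens, f x ∈ U ∧ (irreducibleComponents ↥U).Finite)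
    (h : EGA43.IsEquidimAt f x) : EGA43.IsUnivOpenAt f x := by
  obtain ⟨e, U, hxU, hdom, hdim⟩ := h
  have : QuasiSober ↥U := U.2.isOpenEmbedding_subtypeVal.quasiSober
  let Z := irreducibleComponent (⟨x, hxU⟩ : U)
  obtain ⟨ζ, hζ⟩ : ∃ ζ, IsGenericPoint ζ Z :=
    QuasiSober.sober isIrreducible_irreducibleComponent isClosed_irreducibleComponent
  have hZ := irreducibleComponent_mem_irreducibleComponents (⟨x, hxU⟩ : U)
  obtain ⟨W, hW, hyW, hWZ⟩ := hdom Z hZ
  have hζmax : ∀ z : U, z ⤳ ζ → z = ζ := fun z hz ↦ by
    have h1 : Z ⊆ closure {z} := by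
      rw [← hζ.def]
      exact closure_minimal (Set.singleton_subset_iff.mpr hz.mem_closure) isClosed_closure
    have h2 := hZ.2 isIrreducible_singleton.closure h1
    exact ((hζ.specializes (h2 (subset_closure rfl))).antisymm hz).eq.symm
  have hgenW : IsGenericPoint (f (U.ι ζ)) W := by
    have := hζ.image (U.ι ≫ f).continuous
    have h2 : IsGenericPoint ((U.ι ≫ f) ζ) W := by
      rw [← hWZ]
      exact this
    rw [Scheme.Hom.comp_apply] at h2
    exact h2
  have hζx : U.ι ζ ⤳ x := (hζ.specializes mem_irreducibleComponent).map U.ι.continuous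
  have hη := exists_opens_forall_specializes hy
    (hgenW.specializes hyW) (fun z hz ↦ by
      have h1 : W ⊆ closure {z} := by
        rw [← hgenW.def]
        exact closure_minimal (Set.singleton_subset_iff.mpr hz.mem_closure) isClosed_closure
      have h2 := hW.2 isIrreducible_singleton.closure h1
      exact ((hgenW.specializes (h2 (subset_closure rfl))).antisymm hz).eq.symm)
    hfin
  refine isUnivOpenAt_of_chains f x hy e (U.ι ζ) hζx hη
    ⟨U, hxU, fun k c hc hc' ↦
      chain_bound_of_fibre_components f U (f x) (hdim ⟨x, hxU⟩) c hc hc'⟩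
    (exists_chain_of_fibre_component f U ζ hζmax (hdim ζ))

end Groth.Agent.Unibranch
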