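import Groth.Agent.Unibranch.Noether
import Groth.Agent.GoingDown.AtPoint

/-!
# Universal openness for morphisms of constant fibre dimension over geometrically unibranch points
-/

universe u

open CategoryTheory AlgebraicGeometry Limits CAlg2

namespace Groth.Agent.Unibranch

variable {X Y : Scheme.{u}}

/-- The chain condition: a finite strictly specialising sequence of points. -/
def IsChain' {k : ℕ} (c : Fin (k + 1) → X) : Prop :=
  ∀ i : Fin k, c i.castSucc ⤳ c i.succ ∧ c i.castSucc ≠ c i.succ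

theorem quasiFiniteAt_SpecMap {R S : CommRingCat.{u}} (ψ : R ⟶ S) (p : PrimeSpectrum S)
    (h : letI := ψ.hom.toAlgebra; Algebra.QuasiFiniteAt R p.asIdeal) :
    Scheme.Hom.QuasiFiniteAt (Spec.map ψ) p := by
  let := ψ.hom.toAlgebra
  show (Scheme.Hom.stalkMap (Spec.map ψ) p).hom.QuasiFinite
  rw [RingHom.QuasiFinite.respectsIso.arrow_mk_iso_iff (Scheme.arrowStalkMapSpecIso ψ p)]
  refine RingHom.QuasiFinite.of_comp (g := algebraMap R (Localization.AtPrime (p.asIdeal.comap ψ.hom))) ?_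
  have h2 : (Localization.localRingHom (p.asIdeal.comap ψ.hom) p.asIdeal ψ.hom rfl).comp
      (algebraMap R _) = algebraMap R (Localization.AtPrime p.asIdeal) := by
    ext r
    rw [RingHom.comp_apply, Localization.localRingHom_to_map, IsScalarTower.algebraMap_apply R S]
    rfl
  show ((Localization.localRingHom (p.asIdeal.comap ψ.hom) p.asIdeal ψ.hom rfl).comp
      (algebraMap R _)).QuasiFinite
  rw [h2]
  exact RingHom.quasiFinite_algebraMap.mpr h

/-- Affine space is universally open over the base. -/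
theorem universallyOpen_affineSpace (σ : Type u) (Y : Scheme.{u}) :
    UniversallyOpen (AffineSpace σ Y ↘ Y) := by
  refine ⟨fun X' Y' i₁ i₂ f' H ↦ ?_⟩
  have H' := AffineSpace.isPullback_map (n := σ) i₂
  let e := H.isoIsPullback _ _ H'.flip
  rw [show f' = e.hom ≫ (AffineSpace σ Y' ↘ Y') from (H.isoIsPullback_hom_fst _ _ H'.flip).symm]
  exact (AffineSpace.isOpenMap_over Y').comp e.hom.homeomorph.isOpenMap

/-- Universal openness when the fibre through `x` has dimension at most `e` and some component through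
`x` has generic fibre dimension at least `e`. -/
theorem isUnivOpenAt_of_chains (f : X ⟶ Y) [LocallyOfFiniteType f] (x : X)
    (hy : IsGeomUnibranch (Y.presheaf.stalk (f x))) (e : ℕ) (ζ : X) (hζ : ζ ⤳ x)
    (hη : ∃ V₀ : Y.Opens, f x ∈ V₀ ∧ ∀ z ∈ V₀, f ζ ⤳ z)
    (hle : ∃ U : X.Opens, x ∈ U ∧ ∀ (k : ℕ) (c : Fin (k + 1) → X),
      (∀ i, c i ∈ U ∧ f (c i) = f x) → IsChain' c → k ≤ e)
    (hge : ∃ c : Fin (e + 1) → X, (∀ i, f (c i) = f ζ) ∧ IsChain' c ∧ ζ ⤳ c 0) :
    EGA43.IsUnivOpenAt f x := by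
  obtain ⟨V₀, hyV₀, hV₀⟩ := hη
  obtain ⟨U, hxU, hU⟩ := hle
  obtain ⟨c, hcf, hc, hζc⟩ := hge
  obtain ⟨SV, hSV, hyV, hVV₀⟩ := Y.isBasis_affineOpens.exists_subset_of_mem_open hyV₀ V₀.2
  obtain ⟨V, hV, rfl⟩ : ∃ U : Y.Opens, IsAffineOpen U ∧ (U : Set Y) = SV := hSV
  obtain ⟨SW, hSW, hxW, hWV⟩ := X.isBasis_affineOpens.exists_subset_of_mem_open
    (show x ∈ (f ⁻¹ᵁ V ⊓ U : X.Opens) from ⟨hyV, hxU⟩) (f ⁻¹ᵁ V ⊓ U).2
  obtain ⟨W, hW, rfl⟩ : ∃ U : X.Opens, IsAffineOpen U ∧ (U : Set X) = SW := hSW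
  have hWV' : W ≤ f ⁻¹ᵁ V := fun z hz ↦ (hWV hz).1
  have hηV : f ζ ∈ V := (hζ.map f.continuous).mem_open V.2 hyV
  obtain ⟨SW', hSW', hcW', hW'V⟩ := X.isBasis_affineOpens.exists_subset_of_mem_open
    (show c (Fin.last e) ∈ f ⁻¹ᵁ V by show f _ ∈ V; rw [hcf]; exact hηV) (f ⁻¹ᵁ V).2
  obtain ⟨W', hW', rfl⟩ : ∃ U : X.Opens, IsAffineOpen U ∧ (U : Set X) = SW' := hSW'
  have hcmem : ∀ i, c i ∈ W' := fun i ↦ by
    induction i using Fin.reverseInduction with
    | last => exact hcW'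
    | cast i hi => exact (hc i).1.mem_open W'.2 hi
  have hζW' : ζ ∈ W' := hζc.mem_open W'.2 (hcmem 0)
  have hζW : ζ ∈ W := hζ.mem_open W.2 hxW
  let := (f.appLE V W hWV').hom.toAlgebra
  have : Algebra.FiniteType Γ(Y, V) Γ(X, W) := f.finiteType_appLE hV hW hWV'
  let n := hW.primeIdealOf ⟨x, hxW⟩
  have hkey : ∀ q, hV.fromSpec (PrimeSpectrum.comap (algebraMap Γ(Y, V) Γ(X, W)) q) =
      f (hW.fromSpec q) := fun q ↦ ((Scheme.Hom.comp_apply _ _ _).symm.trans
      (congr($(IsAffineOpen.SpecMap_appLE_fromSpec f hV hW hWV') q))).trans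
        (Scheme.Hom.comp_apply _ _ _)
  obtain ⟨t, ht⟩ := exists_quasiFiniteAt_aeval n (e := e) fun l hl ↦ by
    refine hU l.length (fun i ↦ hW.fromSpec (l i)) (fun i ↦ ⟨(hWV (hW.range_fromSpec.le ⟨l i, rfl⟩)).2, ?_⟩) fun i ↦ ⟨?_, ?_⟩
    · rw [← hkey, hl i, hkey]
      exact congrArg f (hW.fromSpec_primeIdealOf ⟨x, hxW⟩)
    · exact ((PrimeSpectrum.le_iff_specializes _ _).mp (l.step i).le).map hW.fromSpec.continuous
    · exact fun h ↦ (show l i.castSucc < l i.succ from l.step i).ne (hW.fromSpec.isOpenEmbedding.injective h)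
  let σ := ULift.{u} (Fin e)
  let M := MvPolynomial σ Γ(Y, V)
  let ψ : M →+* Γ(X, W) := (MvPolynomial.aeval (R := Γ(Y, V)) t).toRingHom
  -- the generic point goes to the generic point of affine space
  let q₀ := hW.primeIdealOf ⟨ζ, hζW⟩
  let L := X.residueField ζ
  let := ((X.evaluation W ζ hζW).hom.comp (algebraMap Γ(Y, V) Γ(X, W))).toAlgebra
  let ι : Γ(X, W) →ₐ[Γ(Y, V)] L := { (X.evaluation W ζ hζW).hom with commutes' := fun _ ↦ rfl }
  have hker : ∀ {W₁ : X.Opens} (h₁ : IsAffineOpen W₁) (hmem : ζ ∈ W₁),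
      RingHom.ker (X.evaluation W₁ ζ hmem).hom = (h₁.primeIdealOf ⟨ζ, hmem⟩).asIdeal := by
    intro W₁ h₁ hmem
    let := X.presheaf.algebra_section_stalk ⟨ζ, hmem⟩
    have := h₁.isLocalization_stalk ⟨ζ, hmem⟩
    show RingHom.ker ((IsLocalRing.residue (X.presheaf.stalk ζ)).comp
      (algebraMap Γ(X, W₁) (X.presheaf.stalk ζ))) = _
    rw [← RingHom.comap_ker, IsLocalRing.ker_residue]
    exact IsLocalization.AtPrime.under_maximalIdeal (X.presheaf.stalk ζ) _
  have hq₀ : q₀.asIdeal.under Γ(Y, V) = RingHom.ker (algebraMap Γ(Y, V) L) := by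
    rw [Ideal.under_def, ← hker hW hζW, RingHom.comap_ker]
    rfl
  let := (Ideal.Quotient.lift (RingHom.ker (algebraMap Γ(Y, V) L)) (algebraMap Γ(Y, V) L)
    fun _ h ↦ h).toAlgebra
  have : IsScalarTower Γ(Y, V) (Γ(Y, V) ⧸ RingHom.ker (algebraMap Γ(Y, V) L)) L :=
    IsScalarTower.of_algebraMap_eq' rfl
  have hfrac : ∀ z : L, ∃ b d : Γ(X, W), ι d ≠ 0 ∧ z * ι d = ι b := by
    intro z
    obtain ⟨z, rfl⟩ := IsLocalRing.residue_surjective z
    let := X.presheaf.algebra_section_stalk ⟨ζ, hζW⟩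
    have := hW.isLocalization_stalk ⟨ζ, hζW⟩
    obtain ⟨⟨b, d⟩, hbd⟩ := IsLocalization.surj (hW.primeIdealOf ⟨ζ, hζW⟩).asIdeal.primeCompl z
    refine ⟨b, d, fun h ↦ d.2 ((hker hW hζW).le h), ?_⟩
    show IsLocalRing.residue _ z * IsLocalRing.residue _ (algebraMap Γ(X, W) (X.presheaf.stalk ζ) d) =
      IsLocalRing.residue _ (algebraMap Γ(X, W) (X.presheaf.stalk ζ) b)
    rw [← map_mul, hbd]
  have htr : Cardinal.mk σ ≤
      Algebra.trdeg (Γ(Y, V) ⧸ RingHom.ker (algebraMap Γ(Y, V) L)) L := by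
    let := (f.appLE V W' hW'V).hom.toAlgebra
    have : Algebra.FiniteType Γ(Y, V) Γ(X, W') := f.finiteType_appLE hV hW' hW'V
    have hcompat : (X.evaluation W' ζ hζW').hom.comp (algebraMap Γ(Y, V) Γ(X, W')) =
        algebraMap Γ(Y, V) L := by
      have h : ∀ (W₁ : X.Opens) (h₁ : W₁ ≤ f ⁻¹ᵁ V) (hm : ζ ∈ W₁),
          f.appLE V W₁ h₁ ≫ X.evaluation W₁ ζ hm = f.app V ≫ X.evaluation (f ⁻¹ᵁ V) ζ (h₁ hm) := by
        intro W₁ h₁ hm
        rw [Scheme.Hom.app_eq_appLE, Scheme.Hom.appLE, Scheme.Hom.appLE, Category.assoc,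
          Category.assoc, Scheme.evaluation, Scheme.evaluation]
        simp only [TopCat.Presheaf.germ_res_assoc, Category.assoc]
      exact congrArg CommRingCat.Hom.hom ((h W' hW'V hζW').trans (h W hWV' hζW).symm)
    let ι' : Γ(X, W') →ₐ[Γ(Y, V)] L :=
      { (X.evaluation W' ζ hζW').hom with commutes' := RingHom.congr_fun hcompat }
    let l : LTSeries (PrimeSpectrum Γ(X, W')) :=
      ⟨e, fun i ↦ hW'.primeIdealOf ⟨c i, hcmem i⟩, fun i ↦ by
        refine lt_of_le_of_ne ((PrimeSpectrum.le_iff_specializes _ _).mpr ?_) fun h ↦ (hc i).2 ?_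
        · refine (hW'.fromSpec.isOpenEmbedding.isInducing.specializes_iff).mp ?_
          convert (hc i).1 using 1 <;> exact hW'.fromSpec_primeIdealOf _
        · have h' := congrArg hW'.fromSpec h
          exact (hW'.fromSpec_primeIdealOf ⟨c _, hcmem _⟩).symm.trans
            (h'.trans (hW'.fromSpec_primeIdealOf ⟨c _, hcmem _⟩))⟩
    have h0 := exists_algebraicIndependent_of_ltSeries (A := Γ(Y, V)) ι' l (fun i ↦ ?_) ?_
    · rw [Cardinal.mk_fintype, Fintype.card_ulift, Fintype.card_fin]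
      exact h0
    · rw [← hq₀]
      have h1 := congrArg PrimeSpectrum.asIdeal
        (IsAffineOpen.comap_primeIdealOf_appLE V hV W' hW' hW'V (hcmem i))
      have h2 := congrArg PrimeSpectrum.asIdeal
        (IsAffineOpen.comap_primeIdealOf_appLE V hV W hW hWV' hζW)
      refine Eq.trans h1 (Eq.trans ?_ h2.symm)
      congr 3
      exact hcf i
    · show RingHom.ker (X.evaluation W' ζ hζW').hom ≤ _
      rw [hker hW' hζW', PrimeSpectrum.asIdeal_le_asIdeal, PrimeSpectrum.le_iff_specializes]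
      refine (hW'.fromSpec.isOpenEmbedding.isInducing.specializes_iff).mp ?_
      convert hζc using 1 <;> exact hW'.fromSpec_primeIdealOf _
  have hqn : q₀.asIdeal ≤ n.asIdeal := by
    rw [PrimeSpectrum.asIdeal_le_asIdeal, PrimeSpectrum.le_iff_specializes]
    refine (hW.fromSpec.isOpenEmbedding.isInducing.specializes_iff).mp ?_
    convert hζ using 1 <;> exact hW.fromSpec_primeIdealOf _
  have hgen : q₀.asIdeal.comap ψ = (q₀.asIdeal.under Γ(Y, V)).map MvPolynomial.C := by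
    refine ker_eq_of_quasiFiniteAt ι hfrac t q₀.asIdeal (hker hW hζW) ?_ htr
    let := ψ.toAlgebra
    have := ht
    exact Algebra.QuasiFiniteAt.of_le hqn
  -- the factorisation through affine space
  have : IsOpenImmersion (AffineSpace.map σ hV.fromSpec) :=
    MorphismProperty.IsStableUnderBaseChange.of_isPullback
      (P := (@IsOpenImmersion : MorphismProperty Scheme.{u}))
      (AffineSpace.isPullback_map hV.fromSpec).flip inferInstance
  let v : Spec (CommRingCat.of M) ⟶ AffineSpace σ Y :=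
    (AffineSpace.SpecIso σ Γ(Y, V)).inv ≫ AffineSpace.map σ hV.fromSpec
  have hv : v ≫ (AffineSpace σ Y ↘ Y) =
      Spec.map (CommRingCat.ofHom (algebraMap Γ(Y, V) M)) ≫ hV.fromSpec := by
    rw [Category.assoc, AffineSpace.map_over, AffineSpace.SpecIso_inv_over_assoc]
    rfl
  let φ : Spec Γ(X, W) ⟶ AffineSpace σ Y := Spec.map (CommRingCat.ofHom ψ) ≫ v
  have hφ : φ ≫ (AffineSpace σ Y ↘ Y) = hW.fromSpec ≫ f := by
    rw [Category.assoc, hv, ← Category.assoc, ← Spec.map_comp, ← CommRingCat.ofHom_comp,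
      show ψ.comp (algebraMap Γ(Y, V) M) = algebraMap Γ(Y, V) Γ(X, W) from
        (MvPolynomial.aeval (R := Γ(Y, V)) t).comp_algebraMap]
    exact IsAffineOpen.SpecMap_appLE_fromSpec f hV hW hWV'
  have : LocallyOfFiniteType (φ ≫ (AffineSpace σ Y ↘ Y)) := by rw [hφ]; infer_instance
  have : LocallyOfFiniteType φ := locallyOfFiniteType_of_comp φ (AffineSpace σ Y ↘ Y)
  have hφq : ∀ q, φ q = v (PrimeSpectrum.comap ψ q) := fun q ↦ Scheme.Hom.comp_apply _ _ _
  have hyφ : (AffineSpace σ Y ↘ Y) (φ n) = f x :=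
    ((Scheme.Hom.comp_apply _ _ _).symm.trans (congr($hφ n))).trans
      ((Scheme.Hom.comp_apply _ _ _).trans (congrArg f (hW.fromSpec_primeIdealOf ⟨x, hxW⟩)))
  have h1 : EGA43.IsUnivOpenAt φ n := by
    refine isUnivOpenAt_of_quasiFiniteAt φ n ?_ ?_ q₀
      ((PrimeSpectrum.le_iff_specializes _ _).mp hqn) ⟨v.opensRange, ⟨_, (hφq n).symm⟩, ?_⟩
    · exact Scheme.Hom.quasiFiniteAt_comp_iff.mpr (quasiFiniteAt_SpecMap (CommRingCat.ofHom ψ) n ht)
    · exact isGeomUnibranch_stalk_affineSpace σ _ (hyφ.symm ▸ hy)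
    · rintro _ ⟨P, rfl⟩
      rw [hφq]
      refine ((PrimeSpectrum.le_iff_specializes _ P).mp ?_).map v.continuous
      show q₀.asIdeal.comap ψ ≤ P.asIdeal
      rw [hgen, Ideal.map_le_iff_le_comap]
      let z : PrimeSpectrum Γ(Y, V) := PrimeSpectrum.comap MvPolynomial.C P
      show q₀.asIdeal.under Γ(Y, V) ≤ z.asIdeal
      rw [show q₀.asIdeal.under Γ(Y, V) = (hV.primeIdealOf ⟨f ζ, hηV⟩).asIdeal from
        congrArg PrimeSpectrum.asIdeal (IsAffineOpen.comap_primeIdealOf_appLE V hV W hW hWV' hζW),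
        PrimeSpectrum.asIdeal_le_asIdeal, PrimeSpectrum.le_iff_specializes]
      refine (hV.fromSpec.isOpenEmbedding.isInducing.specializes_iff).mp ?_
      convert hV₀ _ (hVV₀ (hV.range_fromSpec.le ⟨z, rfl⟩)) using 1
      exact hV.fromSpec_primeIdealOf _
  have h2 : EGA43.IsUnivOpenAt (AffineSpace σ Y ↘ Y) (φ n) :=
    (GoingDown.universallyOpen_iff_forall_isUnivOpenAt (f := AffineSpace σ Y ↘ Y)).mp (universallyOpen_affineSpace σ Y) _
  have h3 := GoingDown.isUnivOpenAt_comp φ (AffineSpace σ Y ↘ Y) n h1 h2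
  rw [hφ] at h3
  have h4 := GoingDown.isUnivOpenAt_right_of_comp hW.fromSpec f n h3
  rwa [hW.fromSpec_primeIdealOf ⟨x, hxW⟩] at h4

end Groth.Agent.Unibranch
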