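import Groth.Agent.Unibranch.OpenAt

/-!
# Affine space over a geometrically unibranch point
-/

universe u

open CategoryTheory AlgebraicGeometry CAlg2

namespace Groth.Agent.Unibranch

variable {A σ : Type u} [CommRing A] [Finite σ]

/-- Polynomial rings over a geometrically unibranch prime. -/
theorem isGeomUnibranch_localization_mvPolynomial (P' : Ideal (MvPolynomial σ A)) [P'.IsPrime]
    (Ap : Type u) [CommRing Ap] [Algebra (MvPolynomial σ A) Ap] [IsLocalization.AtPrime Ap P']
    [IsLocalRing Ap] (p₀ : Ideal A) [p₀.IsPrime] (hle : p₀ ≤ P'.comap MvPolynomial.C)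
    (hmin : ∀ p' : Ideal A, p'.IsPrime → p' ≤ P'.comap MvPolynomial.C → p₀ ≤ p')
    (hG : GUAt (A ⧸ p₀) ((P'.comap MvPolynomial.C).map (Ideal.Quotient.mk p₀))) :
    IsGeomUnibranch Ap := by
  let π : MvPolynomial σ A →+* MvPolynomial σ (A ⧸ p₀) := MvPolynomial.map (Ideal.Quotient.mk p₀)
  have hπ : Function.Surjective π := MvPolynomial.map_surjective _ Ideal.Quotient.mk_surjective
  have hker : RingHom.ker π = p₀.map (MvPolynomial.C : A →+* MvPolynomial σ A) := by
    rw [MvPolynomial.ker_map, Ideal.mk_ker]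
  have : (RingHom.ker π).IsPrime := RingHom.ker_isPrime π
  have hleP : RingHom.ker π ≤ P' := by rw [hker]; exact Ideal.map_le_iff_le_comap.mpr hle
  refine isGeomUnibranch_of_guAt P' (RingHom.ker π) Ap hleP (fun p' hp' hp'P ↦ ?_) fun _ ↦ ?_
  · rw [hker]
    exact Ideal.map_le_iff_le_comap.mpr (hmin _ (hp'.comap _) (Ideal.comap_mono hp'P))
  have : (P'.map π).IsPrime := Ideal.map_isPrime_of_surjective hπ hleP
  have h1 : (P'.map π).comap π = P' := by
    rw [Ideal.comap_map_of_surjective _ hπ, ← RingHom.ker_eq_comap_bot, sup_eq_left.mpr hleP]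
  have h2 : GUAt (A ⧸ p₀) ((P'.map π).comap MvPolynomial.C) := by
    convert hG using 1
    refine Ideal.comap_injective_of_surjective (Ideal.Quotient.mk p₀) Ideal.Quotient.mk_surjective ?_
    rw [Ideal.comap_map_of_surjective _ Ideal.Quotient.mk_surjective, ← RingHom.ker_eq_comap_bot,
      Ideal.mk_ker, sup_eq_left.mpr hle, Ideal.comap_comap]
    conv_rhs => rw [← h1, Ideal.comap_comap]
    congr 1
    exact RingHom.ext fun x ↦ (MvPolynomial.map_C _ _).symm
  convert GUAt.of_ringEquiv (RingHom.quotientKerEquivOfSurjective hπ) _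
    (GUAt.mvPolynomial (P'.map π) h2) using 1
  refine Ideal.comap_injective_of_surjective (Ideal.Quotient.mk _) Ideal.Quotient.mk_surjective ?_
  rw [Ideal.comap_map_of_surjective _ Ideal.Quotient.mk_surjective, ← RingHom.ker_eq_comap_bot,
    Ideal.mk_ker, sup_eq_left.mpr hleP, Ideal.comap_comap]
  exact h1.symm

variable {Y : Scheme.{u}}

/-- Affine space over a geometrically unibranch point is geometrically unibranch. -/
theorem isGeomUnibranch_stalk_affineSpace (σ : Type u) [Finite σ] (y' : ↥(AffineSpace σ Y))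
    (hy : IsGeomUnibranch (Y.presheaf.stalk ((AffineSpace σ Y ↘ Y) y'))) :
    IsGeomUnibranch ((AffineSpace σ Y).presheaf.stalk y') := by
  obtain ⟨SV, hSV, hyV, -⟩ := Y.isBasis_affineOpens.exists_subset_of_mem_open
    (Set.mem_univ ((AffineSpace σ Y ↘ Y) y')) isOpen_univ
  obtain ⟨V, hV, rfl⟩ : ∃ U : Y.Opens, IsAffineOpen U ∧ (U : Set Y) = SV := hSV
  let M := MvPolynomial σ Γ(Y, V)
  have : IsOpenImmersion (AffineSpace.map σ hV.fromSpec) :=
    MorphismProperty.IsStableUnderBaseChange.of_isPullback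
      (P := (@IsOpenImmersion : MorphismProperty Scheme.{u}))
      (AffineSpace.isPullback_map hV.fromSpec).flip inferInstance
  let v : Spec (CommRingCat.of M) ⟶ AffineSpace σ Y :=
    (AffineSpace.SpecIso σ Γ(Y, V)).inv ≫ AffineSpace.map σ hV.fromSpec
  have hv : v ≫ (AffineSpace σ Y ↘ Y) =
      Spec.map (CommRingCat.ofHom (algebraMap Γ(Y, V) M)) ≫ hV.fromSpec := by
    rw [Category.assoc, AffineSpace.map_over, AffineSpace.SpecIso_inv_over_assoc]
    rfl
  obtain ⟨P', rfl⟩ : y' ∈ Set.range v := by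
    obtain ⟨z, hz1, -⟩ := Scheme.exists_preimage_of_isPullback
      (AffineSpace.isPullback_map hV.fromSpec (n := σ)) y' _
      (hV.range_fromSpec.ge hyV).choose_spec.symm
    refine ⟨(AffineSpace.SpecIso σ Γ(Y, V)).hom z, ?_⟩
    refine (Scheme.Hom.comp_apply _ _ _).symm.trans (Eq.trans ?_ hz1)
    exact congr($(Iso.hom_inv_id_assoc (AffineSpace.SpecIso σ Γ(Y, V))
      (AffineSpace.map σ hV.fromSpec)) z)
  have hpt : (AffineSpace σ Y ↘ Y) (v P') = hV.fromSpec
      (PrimeSpectrum.comap (algebraMap Γ(Y, V) M) P') :=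
    (Scheme.Hom.comp_apply _ _ _).symm.trans ((congr($hv P')).trans (Scheme.Hom.comp_apply _ _ _))
  obtain ⟨p₀, hp₀, hle, hmin, hG⟩ := exists_guAt_of_affine hV hyV hy
  have hP : (hV.primeIdealOf ⟨_, hyV⟩).asIdeal = P'.asIdeal.comap MvPolynomial.C := by
    have : hV.primeIdealOf ⟨_, hyV⟩ = PrimeSpectrum.comap (algebraMap Γ(Y, V) M) P' :=
      hV.fromSpec.isOpenEmbedding.injective ((hV.fromSpec_primeIdealOf _).trans hpt)
    rw [this]; rfl
  rw [hP] at hle hmin hG
  haveI : P'.asIdeal.IsPrime := PrimeSpectrum.isPrime P'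
  let e₀ : (AffineSpace σ Y).presheaf.stalk (v P') ≃+* Localization.AtPrime P'.asIdeal :=
    (asIso (v.stalkMap P') ≪≫ Spec.stalkIso (CommRingCat.of M) P').commRingCatIsoToRingEquiv
  letI : Algebra M ((AffineSpace σ Y).presheaf.stalk (v P')) :=
    (e₀.symm.toRingHom.comp (algebraMap M (Localization.AtPrime P'.asIdeal))).toAlgebra
  haveI : IsLocalization.AtPrime ((AffineSpace σ Y).presheaf.stalk (v P')) P'.asIdeal :=
    IsLocalization.isLocalization_of_algEquiv _
      (AlgEquiv.ofRingEquiv (f := e₀.symm) fun _ ↦ rfl :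
        Localization.AtPrime P'.asIdeal ≃ₐ[M] (AffineSpace σ Y).presheaf.stalk (v P'))
  exact isGeomUnibranch_localization_mvPolynomial P'.asIdeal _ p₀ hle hmin hG

end Groth.Agent.Unibranch
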