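import Groth.Agent.Unibranch.UnivOpen
import Groth.Prelude.Def_EGA43

/-!
# Universal openness at quasi-finite points over geometrically unibranch points
-/

universe u

open CategoryTheory AlgebraicGeometry Limits TensorProduct CAlg2

namespace Groth.Agent.Unibranch

variable {X Y : Scheme.{u}}

/-- The key data at a geometrically unibranch point in an affine open. -/
theorem exists_guAt_of_affine {V : Y.Opens} (hV : IsAffineOpen V) {y : Y} (hyV : y ∈ V)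
    (hy : IsGeomUnibranch (Y.presheaf.stalk y)) :
    ∃ p₀ : Ideal Γ(Y, V), p₀.IsPrime ∧ p₀ ≤ (hV.primeIdealOf ⟨y, hyV⟩).asIdeal ∧
      (∀ p' : Ideal Γ(Y, V), p'.IsPrime → p' ≤ (hV.primeIdealOf ⟨y, hyV⟩).asIdeal → p₀ ≤ p') ∧
      GUAt (Γ(Y, V) ⧸ p₀)
        ((hV.primeIdealOf ⟨y, hyV⟩).asIdeal.map (Ideal.Quotient.mk p₀)) := by
  letI := Y.presheaf.algebra_section_stalk ⟨y, hyV⟩
  haveI := hV.isLocalization_stalk ⟨y, hyV⟩
  exact exists_guAt_of_isGeomUnibranch _ (Y.presheaf.stalk y) hy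

/-- A quasi-finite point with a generisation over the only maximal point near its geometrically
unibranch image is a point of universal openness. -/
theorem isUnivOpenAt_of_quasiFiniteAt (f : X ⟶ Y) [LocallyOfFiniteType f] (x : X)
    (hqf : f.QuasiFiniteAt x) (hy : IsGeomUnibranch (Y.presheaf.stalk (f x)))
    (ζ : X) (hζ : ζ ⤳ x) (hη : ∃ V₀ : Y.Opens, f x ∈ V₀ ∧ ∀ z ∈ V₀, f ζ ⤳ z) :
    EGA43.IsUnivOpenAt f x := by
  obtain ⟨V₀, hyV₀, hV₀⟩ := hη
  obtain ⟨SV, hSV, hyV, hVV₀⟩ := Y.isBasis_affineOpens.exists_subset_of_mem_open hyV₀ V₀.2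
  obtain ⟨V, hV, rfl⟩ : ∃ U : Y.Opens, IsAffineOpen U ∧ (U : Set Y) = SV := hSV
  obtain ⟨SW, hSW, hxW, hWV⟩ := X.isBasis_affineOpens.exists_subset_of_mem_open
    (show x ∈ f ⁻¹ᵁ V from hyV) (f ⁻¹ᵁ V).2
  obtain ⟨W, hW, rfl⟩ : ∃ U : X.Opens, IsAffineOpen U ∧ (U : Set X) = SW := hSW
  have hζW : ζ ∈ W := hζ.mem_open W.2 hxW
  let := (f.appLE V W hWV).hom.toAlgebra
  have : Algebra.FiniteType Γ(Y, V) Γ(X, W) := f.finiteType_appLE hV hW hWV
  let n := hW.primeIdealOf ⟨x, hxW⟩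
  let q₀ := hW.primeIdealOf ⟨ζ, hζW⟩
  have : Algebra.QuasiFiniteAt Γ(Y, V) n.asIdeal := hqf.quasiFiniteAt hW hV hWV hxW
  have hle : q₀.asIdeal ≤ n.asIdeal := by
    rw [PrimeSpectrum.asIdeal_le_asIdeal, PrimeSpectrum.le_iff_specializes]
    refine (hW.fromSpec.isOpenEmbedding.isInducing.specializes_iff).mp ?_
    convert hζ using 1 <;> exact hW.fromSpec_primeIdealOf _
  have hn : n.asIdeal.under Γ(Y, V) = (hV.primeIdealOf ⟨f x, hyV⟩).asIdeal :=
    congrArg PrimeSpectrum.asIdeal (IsAffineOpen.comap_primeIdealOf_appLE V hV W hW hWV hxW)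
  have hq₀ : q₀.asIdeal.under Γ(Y, V) = (hV.primeIdealOf ⟨f ζ, hWV hζW⟩).asIdeal :=
    congrArg PrimeSpectrum.asIdeal (IsAffineOpen.comap_primeIdealOf_appLE V hV W hW hWV hζW)
  have hmin : ∀ p' : Ideal Γ(Y, V), p'.IsPrime → q₀.asIdeal.under Γ(Y, V) ≤ p' := by
    intro p' hp'
    let z : PrimeSpectrum Γ(Y, V) := ⟨p', hp'⟩
    show q₀.asIdeal.under Γ(Y, V) ≤ z.asIdeal
    rw [hq₀, PrimeSpectrum.asIdeal_le_asIdeal, PrimeSpectrum.le_iff_specializes]
    refine (hV.fromSpec.isOpenEmbedding.isInducing.specializes_iff).mp ?_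
    convert hV₀ _ (hVV₀ (hV.range_fromSpec.le ⟨z, rfl⟩)) using 1
    exact hV.fromSpec_primeIdealOf _
  obtain ⟨p₀, hp₀, hp₀y, hp₀min, hG⟩ := exists_guAt_of_affine hV hyV hy
  have hpq : p₀ = q₀.asIdeal.under Γ(Y, V) :=
    (hp₀min _ inferInstance (by rw [← hn]; exact Ideal.comap_mono hle)).antisymm (hmin p₀ hp₀)
  subst hpq
  intro Y' g x' hx' U hU
  change pullback.fst f g x' = x at hx'
  have hy'V : pullback.snd f g x' ∈ g ⁻¹ᵁ V := by
    show g (pullback.snd f g x') ∈ V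
    rw [← Scheme.Hom.comp_apply, ← pullback.condition, Scheme.Hom.comp_apply, hx']
    exact hyV
  obtain ⟨SV', hSV', hy'V', hV'V⟩ := Y'.isBasis_affineOpens.exists_subset_of_mem_open
    hy'V (g ⁻¹ᵁ V).2
  obtain ⟨V', hV', rfl⟩ : ∃ U : Y'.Opens, IsAffineOpen U ∧ (U : Set Y') = SV' := hSV'
  let := (g.appLE V V' hV'V).hom.toAlgebra
  obtain ⟨j, hj, hjfst, hjsnd, hjr⟩ := GoingDown.exists_chart (f := f) (g := g) (A := Γ(Y, V))
    (B := Γ(X, W)) (D := Γ(Y', V')) hW.fromSpec hV.fromSpec hV'.fromSpec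
    (IsAffineOpen.SpecMap_appLE_fromSpec f hV hW hWV).symm
    (IsAffineOpen.SpecMap_appLE_fromSpec g hV hV' hV'V).symm
  obtain ⟨p, rfl⟩ : x' ∈ Set.range j := by
    rw [hjr, hW.range_fromSpec, hV'.range_fromSpec]
    refine ⟨?_, hy'V'⟩
    show pullback.fst f g x' ∈ W
    rw [hx']; exact hxW
  have hkey : ∀ q, pullback.snd f g (j q) =
      hV'.fromSpec (PrimeSpectrum.comap (algebraMap Γ(Y', V') _) q) := fun q ↦ by
    rw [← Scheme.Hom.comp_apply, hjsnd]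
    exact Scheme.Hom.comp_apply _ _ _
  have hp : PrimeSpectrum.comap (Algebra.TensorProduct.includeRight :
      Γ(X, W) →ₐ[Γ(Y, V)] Γ(Y', V') ⊗[Γ(Y, V)] Γ(X, W)).toRingHom p = n := by
    apply hW.fromSpec.isOpenEmbedding.injective
    rw [hW.fromSpec_primeIdealOf]
    exact ((congr($hjfst p)).trans (Scheme.Hom.comp_apply _ _ _)).symm.trans
      ((Scheme.Hom.comp_apply _ _ _).trans hx')
  show _ ∈ nhds (pullback.snd f g (j p))
  rw [hkey p]
  refine Filter.mem_of_superset (hV'.fromSpec.isOpenEmbedding.isOpenMap.image_mem_nhds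
    (image_comap_tensor_mem_nhds q₀.asIdeal n hle hmin (by rw [hn]; exact hG) p hp
      (j.continuous.continuousAt.preimage_mem_nhds hU))) ?_
  rintro _ ⟨_, ⟨Q, hQ, rfl⟩, rfl⟩
  exact ⟨j Q, hQ, hkey Q⟩

end Groth.Agent.Unibranch
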