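import Groth.Agent.Unibranch.FiniteCoverAlg
import Groth.Agent.Unibranch.Lifting
import Groth.Agent.Unibranch.Equidim

/-!
# Universal openness over the normalisation from openness over finite extensions: local part
-/

universe u

open CategoryTheory AlgebraicGeometry TensorProduct

namespace Groth.Agent.Unibranch

variable {A B N σ : Type u} [CommRing A] [CommRing B] [CommRing N] [Algebra A B] [Algebra A N]

/-- Independence persists in a base change by an integral algebra. -/
theorem genAt_tensor [Algebra.IsIntegral A N] [Finite σ] (t : σ → B) (z : PrimeSpectrum (N ⊗[A] B))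
    (h : GenAt (A := A) t
      (z.asIdeal.comap (Algebra.TensorProduct.includeRight : B →ₐ[A] N ⊗[A] B).toRingHom)) :
    GenAt (A := N) (fun i ↦ (1 : N) ⊗ₜ[A] t i) z.asIdeal := by
  let inc : B →ₐ[A] N ⊗[A] B := Algebra.TensorProduct.includeRight
  let P' := z.asIdeal.under N
  let ev := (MvPolynomial.aeval (R := N) fun i ↦ (1 : N) ⊗ₜ[A] t i).toRingHom
  let Q := z.asIdeal.comap ev
  rw [genAt_iff_comap] at h ⊢
  let := MvPolynomial.algebraMvPolynomial (σ := σ) (R := A) (S := N)
  have := isIntegral_algebraMvPolynomial (R := A) (S := N) (σ := σ)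
  have hPT : (P'.map (MvPolynomial.C : N →+* MvPolynomial σ N)).IsPrime := by
    rw [← Ideal.mk_ker (I := P'), ← MvPolynomial.ker_map]
    exact RingHom.ker_isPrime _
  have hle : P'.map (MvPolynomial.C : N →+* MvPolynomial σ N) ≤ Q := by
    rw [Ideal.map_le_iff_le_comap]
    intro m hm
    show MvPolynomial.aeval _ (MvPolynomial.C m) ∈ z.asIdeal
    rw [MvPolynomial.aeval_C]
    exact hm
  refine le_antisymm (fun F hF ↦ ?_) hle
  by_contra hF'
  have hlt : P'.map (MvPolynomial.C : N →+* MvPolynomial σ N) < Q :=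
    lt_of_le_of_ne hle fun e ↦ hF' (e ▸ hF)
  refine (Ideal.IsIntegral.comap_lt_comap (R := MvPolynomial σ A) hlt).ne ?_
  refine le_antisymm (Ideal.comap_mono hle) fun G hG ↦ ?_
  have hcomp : ev.comp (algebraMap (MvPolynomial σ A) (MvPolynomial σ N)) =
      inc.toRingHom.comp (MvPolynomial.aeval (R := A) t).toRingHom := by
    refine MvPolynomial.ringHom_ext (fun a ↦ ?_) fun i ↦ ?_
    · show MvPolynomial.aeval _ (MvPolynomial.map (algebraMap A N) (MvPolynomial.C a)) =
        inc (MvPolynomial.aeval t (MvPolynomial.C a))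
      rw [MvPolynomial.map_C, MvPolynomial.aeval_C, MvPolynomial.aeval_C, AlgHom.commutes]
      exact (IsScalarTower.algebraMap_apply A N (N ⊗[A] B) a).symm
    · show MvPolynomial.aeval _ (MvPolynomial.map (algebraMap A N) (MvPolynomial.X i)) =
        inc (MvPolynomial.aeval t (MvPolynomial.X i))
      rw [MvPolynomial.map_X, MvPolynomial.aeval_X, MvPolynomial.aeval_X]
      rfl
  have hG' : G ∈ (z.asIdeal.comap inc.toRingHom).comap (MvPolynomial.aeval (R := A) t).toRingHom := by
    show inc.toRingHom.comp (MvPolynomial.aeval (R := A) t).toRingHom G ∈ z.asIdeal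
    rw [← hcomp]
    exact hG
  rw [h] at hG'
  show MvPolynomial.map (algebraMap A N) G ∈ P'.map (MvPolynomial.C : N →+* MvPolynomial σ N)
  rw [MvPolynomial.mem_map_C_iff] at hG' ⊢
  intro m
  rw [MvPolynomial.coeff_map]
  have h1 := hG' m
  show algebraMap N (N ⊗[A] B) (algebraMap A N (G.coeff m)) ∈ z.asIdeal
  rw [← IsScalarTower.algebraMap_apply A N (N ⊗[A] B), ← inc.commutes]
  exact h1

/-- Openness over a finite extension gives a generic lift there. -/
theorem exists_genAt_finite_level [IsNoetherianRing A] [Algebra.FiniteType A B] [IsDomain N]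
    [Module.Finite A N] [Finite σ] (t : σ → B) (nz : PrimeSpectrum B)
    (ht : GenAt (A := A) t nz.asIdeal) (n' : PrimeSpectrum (N ⊗[A] B))
    (hle : nz.asIdeal ≤
      n'.asIdeal.comap (Algebra.TensorProduct.includeRight : B →ₐ[A] N ⊗[A] B).toRingHom)
    (heq : nz.asIdeal.under A = (n'.asIdeal.under N).under A)
    (H : ∀ z : PrimeSpectrum (N ⊗[A] B),
      z.asIdeal.comap (Algebra.TensorProduct.includeRight : B →ₐ[A] N ⊗[A] B).toRingHom = nz.asIdeal →
      ∀ s ∈ nhds z, PrimeSpectrum.comap (algebraMap N (N ⊗[A] B)) '' s ∈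
        nhds (PrimeSpectrum.comap (algebraMap N (N ⊗[A] B)) z)) :
    ∃ q : PrimeSpectrum (N ⊗[A] B), q.asIdeal ≤ n'.asIdeal ∧ q.asIdeal.under N = ⊥ ∧
      GenAt (A := N) (fun i ↦ (1 : N) ⊗ₜ[A] t i) q.asIdeal := by
  obtain ⟨z, hzn, hzB, -⟩ := exists_le_over_fibre n' nz hle heq
  have : IsNoetherianRing N := IsNoetherianRing.of_finite A N
  obtain ⟨q, hqz, hqN, hqg⟩ := exists_genAt_of_lifts (A := N) (B := N ⊗[A] B) z
    (fun i ↦ (1 : N) ⊗ₜ[A] t i) (genAt_tensor t z (hzB ▸ ht)) ⊥
    (by rw [IsDomain.minimalPrimes_eq_singleton_bot]; rfl) bot_le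
    fun p hp _ hpz ↦ by
      obtain ⟨q, hq, hqp⟩ := exists_le_of_mem_nhds z (H z hzB) ⟨p, hp⟩ hpz
      exact ⟨q, hq, congrArg PrimeSpectrum.asIdeal hqp⟩
  exact ⟨q, hqz.trans hzn, hqN, hqg⟩

/-- Over a normal domain a generic lift gives universal openness. -/
theorem isUnivOpenAt_of_genericLift [IsDomain N] [IsIntegrallyClosed N] [Algebra.IsIntegral A N]
    [Algebra.FiniteType A B] [Finite σ] (n' : PrimeSpectrum (N ⊗[A] B)) {d : ℕ} (hd : d ≤ Nat.card σ)
    (hle : ∀ l : LTSeries (PrimeSpectrum B), (∀ i, PrimeSpectrum.comap (algebraMap A B) (l i) =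
      PrimeSpectrum.comap (algebraMap A N) (PrimeSpectrum.comap (algebraMap N (N ⊗[A] B)) n')) →
      l.length ≤ d)
    (t : σ → B) (Q : PrimeSpectrum (N ⊗[A] B)) (hQn : Q.asIdeal ≤ n'.asIdeal)
    (hQN : Q.asIdeal.under N = ⊥) (hQ : GenAt (A := N) (fun i ↦ (1 : N) ⊗ₜ[A] t i) Q.asIdeal) :
    EGA43.IsUnivOpenAt (Spec.map (CommRingCat.ofHom (algebraMap N (N ⊗[A] B)))) n' := by
  let f := Spec.map (CommRingCat.ofHom (algebraMap N (N ⊗[A] B)))
  have : LocallyOfFiniteType f := (HasRingHomProperty.Spec_iff (P := @LocallyOfFiniteType)).mpr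
    (RingHom.finiteType_algebraMap.mpr inferInstance)
  let inc : B →ₐ[A] N ⊗[A] B := Algebra.TensorProduct.includeRight
  let P := PrimeSpectrum.comap (algebraMap N (N ⊗[A] B)) n'
  have hy : CAlg2.IsGeomUnibranch ((Spec (CommRingCat.of N)).presheaf.stalk (f n')) := by
    show CAlg2.IsGeomUnibranch ((Spec (CommRingCat.of N)).presheaf.stalk P)
    let e₀ : (Spec (CommRingCat.of N)).presheaf.stalk P ≃+* Localization.AtPrime P.asIdeal :=
      (Spec.stalkIso (CommRingCat.of N) P).commRingCatIsoToRingEquiv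
    let : Algebra N ((Spec (CommRingCat.of N)).presheaf.stalk P) :=
      (e₀.symm.toRingHom.comp (algebraMap N (Localization.AtPrime P.asIdeal))).toAlgebra
    have : IsLocalization.AtPrime ((Spec (CommRingCat.of N)).presheaf.stalk P) P.asIdeal :=
      IsLocalization.isLocalization_of_algEquiv _
        (AlgEquiv.ofRingEquiv (f := e₀.symm) fun _ ↦ rfl :
          Localization.AtPrime P.asIdeal ≃ₐ[N] (Spec (CommRingCat.of N)).presheaf.stalk P)
    have : (⊥ : Ideal N).IsPrime := Ideal.isPrime_bot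
    refine isGeomUnibranch_of_guAt P.asIdeal (⊥ : Ideal N) _ bot_le (fun _ _ _ ↦ bot_le) fun _ ↦ ?_
    have hN : GUAt N P.asIdeal := by
      have : ExpChar (N ⧸ P.asIdeal) (ringExpChar (N ⧸ P.asIdeal)) := ringExpChar.expChar _
      refine ⟨N, inferInstance, inferInstance, Algebra.id N, inferInstance, inferInstance,
        inferInstance, ringExpChar (N ⧸ P.asIdeal), this,
        fun z ↦ ⟨0, 1, z, P.asIdeal.one_notMem, fun Q _ _ ↦ ?_⟩⟩
      simp
    convert GUAt.of_ringEquiv (RingEquiv.quotientBot N) P.asIdeal hN using 1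
    refine Ideal.comap_injective_of_surjective (Ideal.Quotient.mk (⊥ : Ideal N))
      Ideal.Quotient.mk_surjective ?_
    rw [Ideal.comap_map_of_surjective _ Ideal.Quotient.mk_surjective, ← RingHom.ker_eq_comap_bot,
      Ideal.mk_ker, sup_bot_eq, Ideal.comap_comap]
    exact (Ideal.comap_id _).symm.trans
      (congrArg (fun φ ↦ P.asIdeal.comap φ) (RingHom.ext fun _ ↦ rfl))
  refine isUnivOpenAt_of_chains f n' hy d Q ((PrimeSpectrum.le_iff_specializes _ _).mp hQn)
    ⟨⊤, trivial, fun z _ ↦ ?_⟩ ⟨⊤, trivial, fun k c hc hc' ↦ ?_⟩ ?_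
  · refine (PrimeSpectrum.le_iff_specializes (PrimeSpectrum.comap (algebraMap N (N ⊗[A] B)) Q) z).mp ?_
    show Q.asIdeal.under N ≤ z.asIdeal
    rw [hQN]
    exact bot_le
  · let := inc.toRingHom.toAlgebra
    have hint : inc.toRingHom.IsIntegral := fun x ↦ by
      induction x using TensorProduct.induction_on with
      | zero => exact inc.toRingHom.isIntegralElem_zero
      | add a b ha hb => exact ha.add _ hb
      | tmul m b =>
        rw [show m ⊗ₜ[A] b = (m ⊗ₜ[A] (1 : B)) * (1 : N) ⊗ₜ[A] b by simp]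
        refine RingHom.IsIntegralElem.mul _ ?_ inc.toRingHom.isIntegralElem_map
        exact (Algebra.IsIntegral.isIntegral (R := A) m).map_of_comp_eq (algebraMap A B)
          (Algebra.TensorProduct.includeLeftRingHom : N →+* N ⊗[A] B)
          (RingHom.ext fun a ↦ by
            show inc (algebraMap A B a) = algebraMap A N a ⊗ₜ[A] (1 : B)
            rw [AlgHom.commutes, Algebra.TensorProduct.algebraMap_apply])
    have : Algebra.IsIntegral B (N ⊗[A] B) := ⟨hint⟩
    let l : LTSeries (PrimeSpectrum B) := ⟨k, fun i ↦ PrimeSpectrum.comap inc.toRingHom (c i),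
      fun i ↦ Ideal.IsIntegral.comap_lt_comap (R := B) (lt_of_le_of_ne
        ((PrimeSpectrum.le_iff_specializes (c i.castSucc : PrimeSpectrum (N ⊗[A] B)) (c i.succ)).mpr
          (hc' i).1) fun e ↦ (hc' i).2 (PrimeSpectrum.ext e))⟩
    refine hle l fun i ↦ ?_
    have h1 : inc.toRingHom.comp (algebraMap A B) =
        (algebraMap N (N ⊗[A] B)).comp (algebraMap A N) :=
      RingHom.ext fun a ↦ (inc.commutes a).trans (IsScalarTower.algebraMap_apply A N (N ⊗[A] B) a)
    show PrimeSpectrum.comap (algebraMap A B) (PrimeSpectrum.comap inc.toRingHom (c i)) = _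
    rw [← PrimeSpectrum.comap_comp_apply, h1, PrimeSpectrum.comap_comp_apply]
    exact congrArg _ (hc i).2
  · obtain ⟨l, hl, hlen⟩ : ∃ l : LTSeries (PrimeSpectrum (N ⊗[A] B)),
        (∀ i, PrimeSpectrum.comap (algebraMap N (N ⊗[A] B)) (l i) =
          PrimeSpectrum.comap (algebraMap N (N ⊗[A] B)) Q ∧ Q.asIdeal ≤ (l i).asIdeal) ∧
        d ≤ l.length := by
      rcases d.eq_zero_or_pos with rfl | hpos
      · exact ⟨RelSeries.singleton _ Q, fun i ↦ ⟨rfl, le_rfl⟩, Nat.zero_le _⟩
      by_contra hno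
      push Not at hno
      have h1 : rdim N Q.asIdeal ≤ d - 1 := rdim_le_of_chains Q Q le_rfl (g := 1)
        Q.isPrime.one_notMem fun l hl ↦ by
          have := hno l fun i ↦ ⟨(hl i).1, (hl i).2.1⟩
          omega
      have h2 := hd.trans (hQ.card_le)
      omega
    refine ⟨fun i ↦ l (Fin.castLE (by omega) i), fun i ↦ (hl _).1, fun i ↦ ?_,
      (PrimeSpectrum.le_iff_specializes _ _).mp (hl _).2⟩
    have hs : l (Fin.castLE (by omega) i.castSucc) < l (Fin.castLE (by omega) i.succ) :=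
      l.step ⟨i, i.2.trans_le hlen⟩
    exact ⟨(PrimeSpectrum.le_iff_specializes _ _).mp hs.le, hs.ne⟩

end Groth.Agent.Unibranch
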