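import Groth.Agent.Unibranch.FiniteExtension
import Groth.Agent.Unibranch.FiniteCoverLocal
import Groth.Agent.Unibranch.ComponentDim
import Groth.Agent.DvrDom.ClosedProper

/-!
# Universal openness is detected by finite base changes
-/

universe u

open CategoryTheory AlgebraicGeometry Limits Topology TensorProduct

namespace Groth.Agent.Unibranch

variable {X Y : Scheme.{u}}

theorem app_SpecMap_fromSpec {V : Y.Opens} (hV : IsAffineOpen V) {R : CommRingCat.{u}}
    (φ : Γ(Y, V) ⟶ R) (h : ⊤ ≤ (Spec.map φ ≫ hV.fromSpec) ⁻¹ᵁ V) :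
    (Spec.map φ ≫ hV.fromSpec).appLE V ⊤ h ≫ (Scheme.ΓSpecIso R).hom = φ := by
  apply Spec.map_injective
  rw [← cancel_mono hV.fromSpec, Spec.map_comp, Category.assoc,
    IsAffineOpen.SpecMap_appLE_fromSpec (Spec.map φ ≫ hV.fromSpec) hV (isAffineOpen_top _) h,
    IsAffineOpen.fromSpec_top, ← Category.assoc, ← Category.assoc]
  congr 1
  rw [Scheme.isoSpec_Spec_inv, ← Spec.map_comp, Iso.inv_hom_id, Spec.map_id, Category.id_comp]

theorem top_le_preimage_SpecMap_fromSpec {V : Y.Opens} (hV : IsAffineOpen V) {R : CommRingCat.{u}}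
    (φ : Γ(Y, V) ⟶ R) : ⊤ ≤ (Spec.map φ ≫ hV.fromSpec) ⁻¹ᵁ V := fun p _ ↦ by
  show (Spec.map φ ≫ hV.fromSpec) p ∈ V
  rw [Scheme.Hom.comp_apply]
  exact hV.range_fromSpec.le ⟨_, rfl⟩

/-- Finite subalgebras of the normalisation over an affine open extend to finite schemes. -/
theorem exists_finite_subalgebra_extension [IsIntegral Y] [IsLocallyNoetherian Y] {V : Y.Opens}
    (hV : IsAffineOpen V) (K : Type u) [Field K] [Algebra Γ(Y, V) K] [IsFractionRing Γ(Y, V) K]
    (N₀ : Subalgebra Γ(Y, V) (integralClosure Γ(Y, V) K)) (hN₀ : Module.Finite Γ(Y, V) N₀) :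
    ∃ N₁ : Subalgebra Γ(Y, V) (integralClosure Γ(Y, V) K), N₀ ≤ N₁ ∧ Module.Finite Γ(Y, V) N₁ ∧
      ∃ (Y' : Scheme.{u}) (g : Y' ⟶ Y) (_ : IsFinite g) (j : Spec (CommRingCat.of N₁) ⟶ Y'),
        IsOpenImmersion j ∧
          j ≫ g = Spec.map (CommRingCat.ofHom (algebraMap Γ(Y, V) N₁)) ≫ hV.fromSpec := by
  classical
  let A := Γ(Y, V)
  have : Nontrivial A := (algebraMap A K).domain_nontrivial
  have : IsDomain A := (IsFractionRing.injective A K).isDomain
  let φ : A ⟶ CommRingCat.of K := CommRingCat.ofHom (algebraMap A K)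
  let j₀ := Spec.map φ ≫ hV.fromSpec
  have htop := top_le_preimage_SpecMap_fromSpec hV φ
  have htop' : j₀ ⁻¹ᵁ V = ⊤ := top_le_iff.mp htop
  let e : Γ(Spec (CommRingCat.of K), j₀ ⁻¹ᵁ V) ≅ CommRingCat.of K :=
    (Spec (CommRingCat.of K)).presheaf.mapIso (eqToIso htop'.symm).op ≪≫ Scheme.ΓSpecIso _
  have he : ∀ a, e.hom (j₀.app V a) = algebraMap A K a := fun a ↦ by
    have h := app_SpecMap_fromSpec hV φ htop
    have h2 : j₀.app V ≫ e.hom = φ := by
      refine Eq.trans ?_ h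
      rw [Scheme.Hom.appLE, Category.assoc]
      rfl
    exact congr($h2 a)
  have hei : Function.Injective e.hom := e.commRingCatIsoToRingEquiv.injective
  -- the denominators
  let 𝔡 : Ideal A :=
    { carrier := {c | ∀ a ∈ N₀, ∃ b, algebraMap A K c * (a : K) = algebraMap A K b}
      add_mem' := fun {c c'} hc hc' a ha ↦ by
        obtain ⟨b, hb⟩ := hc a ha
        obtain ⟨b', hb'⟩ := hc' a ha
        exact ⟨b + b', by rw [map_add, add_mul, hb, hb', map_add]⟩
      zero_mem' := fun a _ ↦ ⟨0, by rw [map_zero, zero_mul]⟩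
      smul_mem' := fun r c hc a ha ↦ by
        obtain ⟨b, hb⟩ := hc a ha
        exact ⟨r * b, by rw [smul_eq_mul, map_mul, mul_assoc, hb, map_mul]⟩ }
  obtain ⟨G, hG⟩ := hN₀.fg_top
  obtain ⟨c₀, hc₀⟩ := IsLocalization.exist_integer_multiples (nonZeroDivisors A)
    (S := K) G fun a ↦ ((a : integralClosure A K) : K)
  have hc₀' : (c₀ : A) ∈ 𝔡 := fun a ha ↦ by
    have h1 : (⟨a, ha⟩ : N₀) ∈ (⊤ : Submodule A N₀) := trivial
    rw [← hG] at h1
    refine Submodule.span_induction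
      (p := fun (x : N₀) _ ↦ ∃ b, algebraMap A K c₀ * ((x : integralClosure A K) : K) = algebraMap A K b)
      (fun x hx ↦ ?_) ⟨0, by simp⟩ (fun x y _ _ ⟨b, hb⟩ ⟨b', hb'⟩ ↦ ⟨b + b', by
        simp [mul_add, hb, hb']⟩) (fun r x _ ⟨b, hb⟩ ↦ ⟨r * b, by
        simp [Algebra.smul_def, ← hb, mul_left_comm]⟩) h1
    obtain ⟨b, hb⟩ := hc₀ x hx
    exact ⟨b, by rw [hb, Algebra.smul_def]⟩
  let k := Spec.map (CommRingCat.ofHom (Ideal.Quotient.mk 𝔡)) ≫ hV.fromSpec
  let I := k.ker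
  -- the generic point avoids the denominators
  have hgen : ∀ U : Y.affineOpens, ∀ hU : genericPoint Y ∈ U.1,
      ∃ c ∈ I.ideal U, genericPoint Y ∈ Y.basicOpen c := by
    intro U hU
    by_contra hno
    push Not at hno
    have h1 : genericPoint Y ∈ I.support := by
      rw [Scheme.IdealSheafData.mem_support_iff_of_mem hU, Scheme.mem_zeroLocus_iff]
      exact hno
    have h2 : genericPoint Y ∈ closure (Set.range k) := by
      rw [← Scheme.Hom.support_ker]; exact h1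
    have hgV : genericPoint Y ∈ V := (genericPoint_specializes _).mem_open V.2
      (hV.range_fromSpec.le ⟨⟨⊥, Ideal.isPrime_bot⟩, rfl⟩)
    have h3 : genericPoint Y ∈ Set.range k := by
      have hk : Set.range k = hV.fromSpec '' Set.range (Spec.map (CommRingCat.ofHom (Ideal.Quotient.mk 𝔡))) := by
        rw [← Set.range_comp]
        exact congrArg Set.range (funext fun _ ↦ Scheme.Hom.comp_apply _ _ _)
      obtain ⟨q, hq⟩ := hV.range_fromSpec.ge hgV
      rw [hk] at h2 ⊢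
      have hclosed : IsClosed (Set.range (Spec.map (CommRingCat.ofHom (Ideal.Quotient.mk 𝔡)))) :=
        (PrimeSpectrum.isClosedEmbedding_comap_of_surjective _ (Ideal.Quotient.mk 𝔡)
          Ideal.Quotient.mk_surjective).isClosed_range
      refine ⟨q, ?_, hq⟩
      rw [← hclosed.closure_eq, hV.fromSpec.isOpenEmbedding.isInducing.closure_eq_preimage_closure_image,
        Set.mem_preimage, hq]
      exact h2
    obtain ⟨q, hq⟩ := h3
    rw [Scheme.Hom.comp_apply] at hq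
    have hbot : hV.fromSpec (⟨⊥, Ideal.isPrime_bot⟩ : PrimeSpectrum A) = genericPoint Y := by
      obtain ⟨p, hp⟩ := hV.range_fromSpec.ge hgV
      refine Eq.trans ?_ hp
      congr 1
      refine PrimeSpectrum.ext (le_antisymm bot_le ?_)
      refine (PrimeSpectrum.le_iff_specializes p ⟨⊥, Ideal.isPrime_bot⟩).mpr ?_
      refine hV.fromSpec.isOpenEmbedding.isInducing.specializes_iff.mp ?_
      rw [hp]
      exact genericPoint_specializes _
    have h4 := hV.fromSpec.isOpenEmbedding.injective (hq.trans hbot.symm)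
    have h5 : (c₀ : A) ∈ (PrimeSpectrum.comap (Ideal.Quotient.mk 𝔡) q).asIdeal := by
      show Ideal.Quotient.mk 𝔡 (c₀ : A) ∈ q.asIdeal
      rw [Ideal.Quotient.eq_zero_iff_mem.mpr hc₀']
      exact q.asIdeal.zero_mem
    rw [show PrimeSpectrum.comap (Ideal.Quotient.mk 𝔡) q = ⟨⊥, Ideal.isPrime_bot⟩ from h4,
      Ideal.mem_bot] at h5
    exact nonZeroDivisors.ne_zero c₀.2 h5
  have hI : ∀ U : Y.AffineZariskiSite, ∃ c ∈ I.ideal ⟨U.1, U.2⟩, IsUnit (j₀.app U.toOpens c) := by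
    intro U
    have hpt : ∀ p, j₀ p = genericPoint Y := fun p ↦ by
      rw [Scheme.Hom.comp_apply]
      obtain ⟨q, hq⟩ := hV.range_fromSpec.ge
        ((genericPoint_specializes _).mem_open V.2 (htop (x := p) trivial) : genericPoint Y ∈ V)
      refine Eq.trans (congrArg hV.fromSpec ?_) hq
      show PrimeSpectrum.comap φ.hom p = q
      refine PrimeSpectrum.ext ?_
      show Ideal.comap (algebraMap A K) p.asIdeal = q.asIdeal
      have hp : p.asIdeal = ⊥ := (Ideal.eq_bot_or_top p.asIdeal).resolve_right p.2.ne_top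
      rw [hp, ← RingHom.ker_eq_comap_bot,
        (RingHom.injective_iff_ker_eq_bot _).mp (IsFractionRing.injective A K)]
      refine le_antisymm bot_le ?_
      refine (PrimeSpectrum.le_iff_specializes q ⟨⊥, Ideal.isPrime_bot⟩).mpr ?_
      refine hV.fromSpec.isOpenEmbedding.isInducing.specializes_iff.mp ?_
      rw [hq]
      exact genericPoint_specializes _
    by_cases hU : genericPoint Y ∈ U.toOpens
    · obtain ⟨c, hc, hgc⟩ := hgen ⟨U.1, U.2⟩ hU
      refine ⟨c, hc, ?_⟩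
      apply (Spec (CommRingCat.of K)).toRingedSpace.isUnit_of_isUnit_germ
      intro p hp
      have h1 : p ∈ j₀ ⁻¹ᵁ Y.basicOpen c := by
        show j₀ p ∈ Y.basicOpen c
        rw [hpt]; exact hgc
      rw [Scheme.preimage_basicOpen] at h1
      exact ((Spec (CommRingCat.of K)).mem_basicOpen _ p hp).mp h1
    · refine ⟨0, Ideal.zero_mem _, ?_⟩
      apply (Spec (CommRingCat.of K)).toRingedSpace.isUnit_of_isUnit_germ
      exact fun p hp ↦ absurd ((hpt p) ▸ hp) hU
  -- the extension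
  let U₀ : Y.AffineZariskiSite := ⟨V, hV⟩
  obtain ⟨Y', g, hg, j, hj, hjg⟩ := exists_finite_extension j₀ I hI U₀
  let D := denomAlg j₀ I U₀
  let : Algebra A D := ((j₀.app V).hom.codRestrict _ (app_mem_denomAlg j₀ I U₀)).toAlgebra
  have hDfin : Module.Finite A D := finite_denomMap j₀ I U₀ (hI U₀)
  let θ₀ : D →ₐ[A] K :=
    { e.hom.hom.comp D.subtype with commutes' := fun a ↦ he a }
  have hθint : ∀ x, θ₀ x ∈ integralClosure A K := fun x ↦
    (Algebra.IsIntegral.isIntegral x).map θ₀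
  let θ : D →ₐ[A] integralClosure A K := θ₀.codRestrict _ hθint
  have hθi : Function.Injective θ := fun a b h ↦ Subtype.ext (hei (congrArg Subtype.val h))
  refine ⟨θ.range, fun a ha ↦ ?_, Module.Finite.of_surjective θ.rangeRestrict.toLinearMap
    θ.rangeRestrict_surjective, Y', g, hg, ?_⟩
  · let a' : Γ(Spec (CommRingCat.of K), j₀ ⁻¹ᵁ V) := e.inv (a : K)
    have hea : e.hom a' = (a : K) := congr($(e.inv_hom_id) (a : K))
    have ha' : a' ∈ denomSet j₀ I U₀ := by
      refine ⟨?_, fun c hc ↦ ?_⟩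
      · obtain ⟨P, hP, hPa⟩ := a.2
        refine ⟨P, hP, hei ?_⟩
        rw [map_zero, Polynomial.hom_eval₂, hea,
          show e.hom.hom.comp (j₀.app V).hom = algebraMap A K from RingHom.ext he]
        exact hPa
      · have hc' : c ∈ 𝔡 := by
          rw [show I = k.ker from rfl, Scheme.Hom.ker_apply, RingHom.mem_ker] at hc
          refine Ideal.Quotient.eq_zero_iff_mem.mp ?_
          have h := app_SpecMap_fromSpec hV (CommRingCat.ofHom (Ideal.Quotient.mk 𝔡))
            (top_le_preimage_SpecMap_fromSpec hV _)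
          have h2 := congr($h c)
          refine h2.symm.trans ?_
          show (Scheme.ΓSpecIso _).hom ((Spec _).presheaf.map _ (k.app V c)) = 0
          rw [show k.app V c = 0 from hc, map_zero, map_zero]
        obtain ⟨b, hb⟩ := hc' a ha
        refine ⟨b, hei ?_⟩
        show e.hom (j₀.app V c * a') = e.hom (j₀.app V b)
        rw [map_mul, he, he, hea]
        exact hb
    exact ⟨⟨a', mem_denomAlg_of_mem j₀ I ha'⟩, Subtype.ext hea⟩
  · let ε := RingEquiv.ofBijective θ.rangeRestrict.toRingHom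
      ⟨fun a b h ↦ hθi (congrArg Subtype.val h), θ.rangeRestrict_surjective⟩
    let i := Spec.map ε.toCommRingCatIso.hom
    refine ⟨i ≫ j, inferInstance, ?_⟩
    rw [Category.assoc, hjg, ← Category.assoc, ← Spec.map_comp]
    congr 2
    exact CommRingCat.hom_ext (RingHom.ext fun a ↦ θ.rangeRestrict.commutes a)

theorem exists_genAt_restrict {A B N : Type u} [CommRing A] [CommRing B] [CommRing N] [Algebra A B]
    [Algebra A N] {σ : Type u} [Finite σ] (t : σ → B) {N₀ N₁ : Subalgebra A N} (hle : N₀ ≤ N₁)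
    (n' : PrimeSpectrum (N ⊗[A] B)) (q : PrimeSpectrum (N₁ ⊗[A] B))
    (hqn : q.asIdeal ≤ n'.asIdeal.comap (Algebra.TensorProduct.map N₁.val (AlgHom.id A B)).toRingHom)
    (hqN : q.asIdeal.under N₁ = ⊥)
    (hqg : GenAt (A := N₁) (fun i ↦ (1 : N₁) ⊗ₜ[A] t i) q.asIdeal) :
    ∃ q₀ : PrimeSpectrum (N₀ ⊗[A] B),
      q₀.asIdeal ≤ n'.asIdeal.comap (Algebra.TensorProduct.map N₀.val (AlgHom.id A B)).toRingHom ∧
      q₀.asIdeal.under N₀ = ⊥ ∧ GenAt (A := N₀) (fun i ↦ (1 : N₀) ⊗ₜ[A] t i) q₀.asIdeal := by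
  let j₁ : N₁ ⊗[A] B →ₐ[A] N ⊗[A] B := Algebra.TensorProduct.map N₁.val (AlgHom.id A B)
  let i₀ : N₀ ⊗[A] B →ₐ[A] N₁ ⊗[A] B :=
    Algebra.TensorProduct.map (Subalgebra.inclusion hle) (AlgHom.id A B)
  have hi : j₁.comp i₀ = Algebra.TensorProduct.map N₀.val (AlgHom.id A B) := by
    rw [← Algebra.TensorProduct.map_comp]
    rfl
  have hincl : ∀ a : N₀, i₀ (algebraMap N₀ (N₀ ⊗[A] B) a) =
      algebraMap N₁ (N₁ ⊗[A] B) (Subalgebra.inclusion hle a) := fun a ↦ by
    show i₀ (a ⊗ₜ 1) = _ ⊗ₜ 1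
    simp [i₀]
  refine ⟨PrimeSpectrum.comap i₀.toRingHom q, ?_, ?_, ?_⟩
  · intro a ha
    have h4 := hqn ha
    show Algebra.TensorProduct.map N₀.val (AlgHom.id A B) a ∈ n'.asIdeal
    rw [← hi]
    exact h4
  · refine (Submodule.eq_bot_iff _).mpr fun a ha ↦ ?_
    have h4 : Subalgebra.inclusion hle a ∈ q.asIdeal.under N₁ := by
      show algebraMap N₁ (N₁ ⊗[A] B) (Subalgebra.inclusion hle a) ∈ q.asIdeal
      rw [← hincl]
      exact ha
    rw [hqN, Ideal.mem_bot] at h4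
    exact Subalgebra.inclusion_injective hle (h4.trans (map_zero _).symm)
  · rw [genAt_iff_comap, hqN, Ideal.map_bot] at hqg
    rw [genAt_iff_comap]
    refine le_antisymm (fun F hF ↦ ?_) ?_
    · have hcomp : (MvPolynomial.aeval (R := N₁) fun i ↦ (1 : N₁) ⊗ₜ[A] t i).toRingHom.comp
          (MvPolynomial.map (Subalgebra.inclusion hle).toRingHom) =
          i₀.toRingHom.comp (MvPolynomial.aeval (R := N₀) fun i ↦ (1 : N₀) ⊗ₜ[A] t i).toRingHom := by
        refine MvPolynomial.ringHom_ext (fun a ↦ ?_) fun i ↦ ?_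
        · simp only [RingHom.comp_apply, MvPolynomial.map_C, AlgHom.toRingHom_eq_coe,
            RingHom.coe_coe, MvPolynomial.aeval_C]
          exact (hincl a).symm
        · simp [i₀]
      have h5 : MvPolynomial.map (Subalgebra.inclusion hle).toRingHom F ∈
          q.asIdeal.comap (MvPolynomial.aeval (R := N₁) fun i ↦ (1 : N₁) ⊗ₜ[A] t i).toRingHom := by
        show _ ∈ q.asIdeal
        rw [← RingHom.comp_apply, hcomp]
        exact hF
      rw [hqg, Ideal.mem_bot, map_eq_zero_iff _ (MvPolynomial.map_injective _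
        (Subalgebra.inclusion_injective hle))] at h5
      rw [h5]
      exact Ideal.zero_mem _
    · rw [Ideal.map_le_iff_le_comap]
      intro a ha
      show (MvPolynomial.aeval (R := N₀) fun i ↦ (1 : N₀) ⊗ₜ[A] t i) (MvPolynomial.C a) ∈
        q.asIdeal.comap i₀.toRingHom
      rw [MvPolynomial.aeval_C]
      exact ha

theorem exists_genAt_of_openAt {A B N : Type u} [CommRing A] [IsNoetherianRing A] [CommRing B]
    [CommRing N] [IsDomain N] [Algebra A B] [Algebra A N] [Algebra.FiniteType A B] {σ : Type u}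
    [Finite σ] (t : σ → B) {N₀ N₁ : Subalgebra A N} (hle : N₀ ≤ N₁) [Module.Finite A N₁]
    (n' : PrimeSpectrum (N ⊗[A] B)) (n nz : PrimeSpectrum B) (hnz : nz.asIdeal ≤ n.asIdeal)
    (hn' : PrimeSpectrum.comap (Algebra.TensorProduct.includeRight (R := A) (A := N) (B := B)).toRingHom n' = n)
    (hp : PrimeSpectrum.comap (algebraMap A N) (PrimeSpectrum.comap (algebraMap N (N ⊗[A] B)) n') =
      PrimeSpectrum.comap (algebraMap A B) nz)
    (ht : GenAt (A := A) t nz.asIdeal)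
    (hopen : ∀ w : PrimeSpectrum (N₁ ⊗[A] B),
      w.asIdeal.comap (Algebra.TensorProduct.includeRight : B →ₐ[A] N₁ ⊗[A] B).toRingHom = nz.asIdeal →
      ∀ s ∈ nhds w, PrimeSpectrum.comap (algebraMap N₁ (N₁ ⊗[A] B)) '' s ∈
        nhds (PrimeSpectrum.comap (algebraMap N₁ (N₁ ⊗[A] B)) w)) :
    ∃ q₀ : PrimeSpectrum (N₀ ⊗[A] B),
      q₀.asIdeal ≤ n'.asIdeal.comap (Algebra.TensorProduct.map N₀.val (AlgHom.id A B)).toRingHom ∧
      q₀.asIdeal.under N₀ = ⊥ ∧ GenAt (A := N₀) (fun i ↦ (1 : N₀) ⊗ₜ[A] t i) q₀.asIdeal := by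
  let j₁ : N₁ ⊗[A] B →ₐ[A] N ⊗[A] B := Algebra.TensorProduct.map N₁.val (AlgHom.id A B)
  let n₁ : PrimeSpectrum (N₁ ⊗[A] B) := PrimeSpectrum.comap j₁.toRingHom n'
  have h1 : PrimeSpectrum.comap (Algebra.TensorProduct.includeRight (R := A) (A := N₁) (B := B)).toRingHom n₁ = n := by
    rw [← hn', ← PrimeSpectrum.comap_comp_apply]
    congr 1
  have h2 : nz.asIdeal.under A = (n₁.asIdeal.under N₁).under A := by
    refine (congrArg PrimeSpectrum.asIdeal hp.symm).trans ?_
    show ((n'.asIdeal.comap (algebraMap N (N ⊗[A] B))).comap (algebraMap A N)) =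
      ((n'.asIdeal.comap j₁.toRingHom).comap (algebraMap N₁ (N₁ ⊗[A] B))).comap (algebraMap A N₁)
    simp only [Ideal.comap_comap]
    congr 1
  obtain ⟨q, hqn, hqN, hqg⟩ := exists_genAt_finite_level (A := A) (B := B) (N := N₁) t nz ht n₁
    (by rw [show n₁.asIdeal.comap _ = n.asIdeal from congrArg PrimeSpectrum.asIdeal h1]; exact hnz)
    h2 hopen
  exact exists_genAt_restrict t hle n' q hqn hqN hqg

theorem image_mem_nhds_of_isOpenAt (f : X ⟶ Y) {V : Y.Opens} {W : X.Opens} (hV : IsAffineOpen V)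
    (hW : IsAffineOpen W) (hWV : W ≤ f ⁻¹ᵁ V) {z : X} (hzW : z ∈ W) (N₁ : Type u) [CommRing N₁]
    [Algebra Γ(Y, V) N₁] (Y' : Scheme.{u}) (g : Y' ⟶ Y)
    (j : Spec (CommRingCat.of N₁) ⟶ Y') [IsOpenImmersion j]
    (hjg : j ≫ g = Spec.map (CommRingCat.ofHom (algebraMap Γ(Y, V) N₁)) ≫ hV.fromSpec)
    (H : ∀ z' : ↥(pullback f g), pullback.fst f g z' = z → EGA43.IsOpenAt (pullback.snd f g) z') :
    letI := (f.appLE V W hWV).hom.toAlgebra
    ∀ w : PrimeSpectrum (N₁ ⊗[Γ(Y, V)] Γ(X, W)),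
      w.asIdeal.comap (Algebra.TensorProduct.includeRight :
        Γ(X, W) →ₐ[Γ(Y, V)] N₁ ⊗[Γ(Y, V)] Γ(X, W)).toRingHom = (hW.primeIdealOf ⟨z, hzW⟩).asIdeal →
      ∀ s ∈ nhds w, PrimeSpectrum.comap (algebraMap N₁ (N₁ ⊗[Γ(Y, V)] Γ(X, W))) '' s ∈
        nhds (PrimeSpectrum.comap (algebraMap N₁ (N₁ ⊗[Γ(Y, V)] Γ(X, W))) w) := by
  let := (f.appLE V W hWV).hom.toAlgebra
  intro w hw s hs
  let g₁ := Spec.map (CommRingCat.ofHom (algebraMap Γ(Y, V) N₁)) ≫ hV.fromSpec
  let A := Γ(Y, V)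
  let B := Γ(X, W)
  obtain ⟨jw, hjw, hwfst, hwsnd, -⟩ := GoingDown.exists_chart (f := f) (g := g₁) (A := A)
    (B := B) (D := N₁) hW.fromSpec hV.fromSpec (𝟙 _)
    (IsAffineOpen.SpecMap_appLE_fromSpec f hV hW hWV).symm (Category.id_comp _)
  let m : pullback f g₁ ⟶ pullback f g :=
    pullback.map f g₁ f g (𝟙 X) j (𝟙 Y) (by simp) (by rw [Category.comp_id, hjg])
  have hm : IsOpenImmersion m := inferInstance
  have hfst : pullback.fst f g (m (jw w)) = z := by
    rw [← Scheme.Hom.comp_apply, pullback.lift_fst, Category.comp_id, ← Scheme.Hom.comp_apply,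
      hwfst, Scheme.Hom.comp_apply]
    exact (congrArg hW.fromSpec (PrimeSpectrum.ext hw)).trans (hW.fromSpec_primeIdealOf ⟨z, hzW⟩)
  have h3 := H (m (jw w)) hfst _ (m.isOpenEmbedding.isOpenMap.image_mem_nhds
    (jw.isOpenEmbedding.isOpenMap.image_mem_nhds hs))
  have hkey' : ∀ a, pullback.snd f g (m (jw a)) =
      j (PrimeSpectrum.comap (algebraMap N₁ (N₁ ⊗[A] B)) a) := fun a ↦ by
    rw [← Scheme.Hom.comp_apply, pullback.lift_snd, ← Scheme.Hom.comp_apply, ← Category.assoc,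
      hwsnd, Category.comp_id]
    exact Scheme.Hom.comp_apply _ _ _
  rw [hkey'] at h3
  refine Filter.mem_of_superset (j.continuous.continuousAt.preimage_mem_nhds h3) ?_
  rintro p ⟨_, ⟨_, ⟨a, ha, rfl⟩, rfl⟩, hap⟩
  exact ⟨a, ha, j.isOpenEmbedding.injective ((hkey' a).symm.trans hap)⟩

/-- Universal openness at `x` from openness at `z` after finite base changes, integral base. -/
theorem isUnivOpenAt_of_finite_integral [IsIntegral Y] [IsLocallyNoetherian Y] (f : X ⟶ Y)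
    [LocallyOfFiniteType f] {x z : X} (hz : z ⤳ x) (hfz : f z = f x) {d : ℕ}
    (hU : ∃ U : X.Opens, x ∈ U ∧ ChainsLE f U (f x) d) (hc : HasChain f (closure {z}) (f x) d)
    (H : ∀ (Y' : Scheme.{u}) (g : Y' ⟶ Y) [IsFinite g], ∀ z' : ↥(pullback f g),
      pullback.fst f g z' = z → EGA43.IsOpenAt (pullback.snd f g) z') :
    EGA43.IsUnivOpenAt f x := by
  obtain ⟨U, hxU, hU⟩ := hU
  obtain ⟨V, W, hV, hW, hxW, hWV, hWU⟩ := exists_chart_le f hxU
  let := (f.appLE V W hWV).hom.toAlgebra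
  have : Algebra.FiniteType Γ(Y, V) Γ(X, W) := f.finiteType_appLE hV hW hWV
  have : IsNoetherianRing Γ(Y, V) := IsLocallyNoetherian.component_noetherian ⟨V, hV⟩
  have : Nonempty V := ⟨⟨f x, hWV hxW⟩⟩
  have : IsDomain Γ(Y, V) := inferInstance
  let A := Γ(Y, V)
  let B := Γ(X, W)
  let K := FractionRing A
  let N := integralClosure A K
  have hzW : z ∈ W := hz.mem_open W.2 hxW
  let n := hW.primeIdealOf ⟨x, hxW⟩
  let nz := hW.primeIdealOf ⟨z, hzW⟩
  have hnz : nz.asIdeal ≤ n.asIdeal := (primeIdealOf_le_iff hW _ _).mpr hz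
  have hkey : ∀ q, hV.fromSpec (PrimeSpectrum.comap (algebraMap A B) q) = f (hW.fromSpec q) :=
    fun q ↦ fromSpec_comap_appLE f hV hW hWV q
  have hpz : PrimeSpectrum.comap (algebraMap A B) nz = PrimeSpectrum.comap (algebraMap A B) n := by
    apply hV.fromSpec.isOpenEmbedding.injective
    rw [hkey, hkey, hW.fromSpec_primeIdealOf, hW.fromSpec_primeIdealOf]
    exact hfz
  obtain ⟨t, ht, -⟩ := exists_genAt (A := A) nz.asIdeal
  have hd : d ≤ Nat.card (ULift.{u} (Fin (rdim A nz.asIdeal))) := by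
    rw [Nat.card_eq_fintype_card, Fintype.card_ulift, Fintype.card_fin]
    rw [← hfz] at hc
    exact hc.le (chainsLE_of_specializes f specializes_rfl hzW (chainsLE_rdimIn hV hW hWV hzW))
  -- local morphisms
  let fA := Spec.map (CommRingCat.ofHom (algebraMap A B))
  let v := Spec.map (CommRingCat.ofHom (algebraMap A N))
  have : IsIntegralHom v := IsIntegralHom.SpecMap_iff.mpr
    (algebraMap_isIntegral_iff.mpr inferInstance)
  have hfA : EGA43.IsUnivOpenAt fA n := by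
    refine GoingDown.isUnivOpenAt_of_closed_cover fA n (ι := PUnit.{u + 1})
      (fun _ ↦ Spec (CommRingCat.of N)) (fun _ ↦ v) ?_ fun _ x₁ hx₁ ↦ ?_
    · rw [Set.iUnion_const]
      refine Set.range_eq_univ.mpr fun p ↦ ?_
      obtain ⟨Q, -, hQ, hQp⟩ := Ideal.exists_ideal_over_prime_of_isIntegral (R := A) (S := N)
        (p : PrimeSpectrum A).asIdeal ⊥ (by
          rw [← RingHom.ker_eq_comap_bot, (RingHom.injective_iff_ker_eq_bot _).mp
            (show Function.Injective (algebraMap A N) from fun a b h ↦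
              IsFractionRing.injective A K (congrArg Subtype.val h))]
          exact bot_le)
      exact ⟨(⟨Q, hQ⟩ : PrimeSpectrum N), PrimeSpectrum.ext hQp⟩
    obtain ⟨jc, hjc, hjfst, hjsnd, hjr⟩ := GoingDown.exists_chart (f := fA) (g := v) (A := A)
      (B := B) (D := N) (𝟙 _) (𝟙 _) (𝟙 _) (by simp [fA]) (by simp [v])
    obtain ⟨n', rfl⟩ : x₁ ∈ Set.range jc := by
      rw [hjr]
      exact ⟨⟨_, rfl⟩, ⟨_, rfl⟩⟩
    refine GoingDown.isUnivOpenAt_right_of_comp jc (pullback.snd fA v) n' ?_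
    rw [hjsnd, Category.comp_id]
    have hn' : PrimeSpectrum.comap (Algebra.TensorProduct.includeRight (R := A) (A := N) (B := B)).toRingHom n' = n := by
      refine Eq.trans ?_ hx₁
      rw [← Scheme.Hom.comp_apply, hjfst, Category.comp_id]
      rfl
    have hcompat : (Algebra.TensorProduct.includeRight (R := A) (A := N) (B := B)).toRingHom.comp
        (algebraMap A B) = (algebraMap N (N ⊗[A] B)).comp (algebraMap A N) :=
      RingHom.ext fun a ↦ ((Algebra.TensorProduct.includeRight (R := A) (A := N) (B := B)).commutes a).trans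
        (IsScalarTower.algebraMap_apply A N (N ⊗[A] B) a)
    have hp : PrimeSpectrum.comap (algebraMap A N) (PrimeSpectrum.comap (algebraMap N (N ⊗[A] B)) n') =
        PrimeSpectrum.comap (algebraMap A B) n := by
      rw [← PrimeSpectrum.comap_comp_apply, ← hcompat, PrimeSpectrum.comap_comp_apply, hn']
    obtain ⟨Q, hQn, hQN, hQg⟩ := exists_genAt_of_finite (A := A) (B := B) (N := N) t n' fun N₀ hN₀ ↦ by
      obtain ⟨N₁, hle, hfin, Y', g, hg, j, hj, hjg⟩ := exists_finite_subalgebra_extension hV K N₀ hN₀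
      exact exists_genAt_of_openAt t hle n' n nz hnz hn' (hp.trans hpz.symm) ht
        (image_mem_nhds_of_isOpenAt f hV hW hWV hzW N₁ Y' g j hjg (H Y' g))
    have : IsIntegrallyClosed N := isIntegrallyClosed_integralClosure
    refine isUnivOpenAt_of_genericLift (A := A) (B := B) n' hd (fun l hl ↦ ?_) t Q hQn hQN hQg
    refine (hU l.length (fun i ↦ hW.fromSpec (l i)) (fun i ↦ ⟨hWU (hW.range_fromSpec.le ⟨l i, rfl⟩), ?_⟩)
      fun i ↦ ⟨?_, ?_⟩).trans le_rfl
    · rw [← hkey, hl i, hp, hkey, hW.fromSpec_primeIdealOf]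
    · exact ((PrimeSpectrum.le_iff_specializes _ _).mp (l.step i).le).map hW.fromSpec.continuous
    · exact fun h' ↦ (show l i.castSucc < l i.succ from l.step i).ne
        (hW.fromSpec.isOpenEmbedding.injective h')
  have h1 : EGA43.IsUnivOpenAt (hW.fromSpec ≫ f) n := by
    rw [← IsAffineOpen.SpecMap_appLE_fromSpec f hV hW hWV]
    exact GoingDown.isUnivOpenAt_comp fA hV.fromSpec n hfA
      (GoingDown.universallyOpen_iff_forall_isUnivOpenAt.mp inferInstance _)
  have h2 := GoingDown.isUnivOpenAt_right_of_comp hW.fromSpec f n h1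
  rwa [hW.fromSpec_primeIdealOf] at h2

/-- Universal openness at `x` from openness at a maximal point `z` of its fibre of largest dimension
after finite base changes. -/
theorem isUnivOpenAt_of_finite [IsNoetherian Y] (f : X ⟶ Y) [LocallyOfFiniteType f] {x z : X}
    (hz : z ⤳ x) (hfz : f z = f x) {d : ℕ} (hU : ∃ U : X.Opens, x ∈ U ∧ ChainsLE f U (f x) d)
    (hc : HasChain f (closure {z}) (f x) d)
    (H : ∀ (Y' : Scheme.{u}) (g : Y' ⟶ Y) [IsFinite g], ∀ z' : ↥(pullback f g),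
      pullback.fst f g z' = z → EGA43.IsOpenAt (pullback.snd f g) z') :
    EGA43.IsUnivOpenAt f x := by
  have hfin : (irreducibleComponents (Y : Type u)).Finite :=
    TopologicalSpace.NoetherianSpace.finite_irreducibleComponents
  have := hfin.to_subtype
  let Z : irreducibleComponents (Y : Type u) → TopologicalSpace.Closeds Y :=
    fun C ↦ ⟨C.1, isClosed_of_mem_irreducibleComponents _ C.2⟩
  let v := fun C ↦ (Scheme.IdealSheafData.vanishingIdeal (Z C)).subschemeι
  have hr : ∀ C, Set.range (v C) = C.1 := fun C ↦ by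
    rw [Scheme.IdealSheafData.range_subschemeι, Scheme.IdealSheafData.coe_support_vanishingIdeal]
    rfl
  refine GoingDown.isUnivOpenAt_of_closed_cover f x _ v ?_ fun C x₁ hx₁ ↦ ?_
  · refine Set.eq_univ_of_forall fun y ↦ Set.mem_iUnion.mpr
      ⟨⟨irreducibleComponent y, irreducibleComponent_mem_irreducibleComponents y⟩, ?_⟩
    rw [hr]
    exact mem_irreducibleComponent
  have : IrreducibleSpace ↥((Scheme.IdealSheafData.vanishingIdeal (Z C)).subscheme) := by
    have hirr : IsIrreducible (Set.range (v C)) := by rw [hr]; exact C.2.1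
    exact (irreducibleSpace_def _).mpr (by
      show IsIrreducible Set.univ
      obtain ⟨⟨_, w, rfl⟩, hpre⟩ := hirr
      refine ⟨⟨w, trivial⟩, fun O₁ O₂ hO₁ hO₂ ⟨a, _, ha⟩ ⟨b, _, hb⟩ ↦ ?_⟩
      obtain ⟨O₁', hO₁', rfl⟩ := (v C).isEmbedding.isInducing.isOpen_iff.mp hO₁
      obtain ⟨O₂', hO₂', rfl⟩ := (v C).isEmbedding.isInducing.isOpen_iff.mp hO₂
      obtain ⟨_, ⟨c, rfl⟩, hc₁, hc₂⟩ := hpre O₁' O₂' hO₁' hO₂' ⟨_, ⟨a, rfl⟩, ha⟩ ⟨_, ⟨b, rfl⟩, hb⟩
      exact ⟨c, trivial, hc₁, hc₂⟩)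
  have : IsReduced ((Scheme.IdealSheafData.vanishingIdeal (Z C)).subscheme) :=
    DvrDom.isReduced_vanishingIdeal_subscheme _
  have : IsIntegral ((Scheme.IdealSheafData.vanishingIdeal (Z C)).subscheme) :=
    isIntegral_of_irreducibleSpace_of_isReduced _
  have : IsLocallyNoetherian ((Scheme.IdealSheafData.vanishingIdeal (Z C)).subscheme) :=
    LocallyOfFiniteType.isLocallyNoetherian (v C)
  let p := pullback.fst f (v C)
  let q := pullback.snd f (v C)
  have hp : IsEmbedding p := p.isEmbedding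
  have hsq : ∀ a, f (p a) = v C (q a) := fun a ↦ by
    rw [← Scheme.Hom.comp_apply, ← Scheme.Hom.comp_apply, pullback.condition]
  have hfib : ∀ a : X, f a = f x → ∃ a₁, p a₁ = a ∧ q a₁ = q x₁ := fun a ha ↦ by
    obtain ⟨a₁, h1, h2⟩ := Scheme.Pullback.exists_preimage_pullback (f := f) (g := v C) a (q x₁)
      (by rw [ha, ← hsq, hx₁])
    exact ⟨a₁, h1, h2⟩
  have hvi : Function.Injective (v C) := (v C).isEmbedding.injective
  obtain ⟨z₁, hz₁, hz₁q⟩ := hfib z hfz
  have hsp : ∀ a b, p a ⤳ p b ↔ a ⤳ b := fun a b ↦ hp.isInducing.specializes_iff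
  obtain ⟨U, hxU, hU⟩ := hU
  refine isUnivOpenAt_of_finite_integral q (z := z₁) ((hsp _ _).mp (by rw [hz₁, hx₁]; exact hz)) hz₁q
    (d := d) ⟨p ⁻¹ᵁ U, show p x₁ ∈ U by rw [hx₁]; exact hxU, fun k c hc hc' ↦
      hU k (fun i ↦ p (c i)) (fun i ↦ ⟨(hc i).1, by rw [hsq, (hc i).2, ← hsq, hx₁]⟩)
        fun i ↦ ⟨(hsp _ _).mpr (hc' i).1, fun h ↦ (hc' i).2 (hp.injective h)⟩⟩ ?_ fun Y' g _ z' hz' ↦ ?_
  · obtain ⟨c, hc₁, hc₂⟩ := hc
    choose c₁ hc₁p hc₁q using fun i ↦ hfib (c i) (hc₁ i).2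
    refine ⟨c₁, fun i ↦ ⟨?_, hc₁q i⟩, fun i ↦ ⟨(hsp _ _).mp ?_, fun h ↦ (hc₂ i).2 ?_⟩⟩
    · rw [← specializes_iff_mem_closure, ← hsp, hz₁, hc₁p]
      exact specializes_iff_mem_closure.mpr (hc₁ i).1
    · rw [hc₁p, hc₁p]; exact (hc₂ i).1
    · rw [← hc₁p, ← hc₁p, h]
  · let e := pullbackLeftPullbackSndIso f (v C) g
    have h2 := H Y' (g ≫ v C) (e.hom z') (by
      rw [← Scheme.Hom.comp_apply, pullbackLeftPullbackSndIso_hom_fst, Scheme.Hom.comp_apply, hz']
      exact hz₁)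
    intro O hO
    have h3 := h2 _ (e.hom.homeomorph.isOpenMap.image_mem_nhds hO)
    have he : ∀ a, pullback.snd f (g ≫ v C) (e.hom a) = pullback.snd q g a := fun a ↦ by
      rw [← Scheme.Hom.comp_apply, pullbackLeftPullbackSndIso_hom_snd]
    rw [he] at h3
    refine Filter.mem_of_superset h3 ?_
    rintro _ ⟨_, ⟨a, ha, rfl⟩, rfl⟩
    exact ⟨a, ha, (he a).symm⟩

end Groth.Agent.Unibranch
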