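import Groth.Agent.Unibranch.UniqueComp
import Groth.Agent.DvrDom.Scheme
import Groth.Agent.DimField.Cons

/-!
# Sections with geometrically reduced fibres: dimensions along generisations
-/

set_option linter.style.haveILetI false

universe u

open CategoryTheory AlgebraicGeometry Topology TopologicalSpace Limits

namespace Groth.Agent.Unibranch

theorem isPrincipal_maximalIdeal_stalk_Spec (A : Type u) [CommRing A] [IsPrincipalIdealRing A]
    (c : PrimeSpectrum A) :
    (IsLocalRing.maximalIdeal ((Spec (CommRingCat.of A)).presheaf.stalk (c : ↥(Spec (CommRingCat.of A))))).IsPrincipal := by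
  let S := Localization.AtPrime c.asIdeal
  let e : S ≃+* (Spec (CommRingCat.of A)).presheaf.stalk c :=
    (Spec.stalkIso (CommRingCat.of A) c).commRingCatIsoToRingEquiv.symm
  set J := IsLocalRing.maximalIdeal ((Spec (CommRingCat.of A)).presheaf.stalk c)
  obtain ⟨a, ha⟩ := (IsPrincipalIdealRing.principal ((J.comap e.toRingHom).comap (algebraMap A S)) : _)
  refine ⟨e (algebraMap A S a), ?_⟩
  have h1 : J.comap e.toRingHom = Ideal.span {algebraMap A S a} := by
    rw [← IsLocalization.map_under c.asIdeal.primeCompl S (J.comap e.toRingHom)]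
    show Ideal.map (algebraMap A S) ((J.comap e.toRingHom).comap (algebraMap A S)) = _
    rw [ha, Ideal.submodule_span_eq, Ideal.map_span, Set.image_singleton]
  rw [← Ideal.map_comap_of_surjective e.toRingHom e.surjective J, h1, Ideal.submodule_span_eq,
    Ideal.map_span, Set.image_singleton]
  rfl

variable {X Y : Scheme.{u}}

/-- A geometrically reduced point of a fibre stays reduced after base change. -/
theorem isReduced_stalk_fiber_of_geomReduced {X' Y' : Scheme.{u}} {f : X ⟶ Y} {f' : X' ⟶ Y'}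
    {e : X' ⟶ X} {σ : Y' ⟶ Y} (hsq : IsPullback e f' f σ) (t : Y') (p' : ↥(f'.fiber t))
    (h : FBase.IsGeomReducedAt (f.fiberToSpecResidueField (σ.base t)) (ConsEngine.fiberBC hsq t p')) :
    _root_.IsReduced ((f'.fiber t).presheaf.stalk p') := by
  letI : Algebra (IsLocalRing.ResidueField (Y.presheaf.stalk (σ.base t))) (Y'.residueField t) :=
    (σ.residueFieldMap t).hom.toAlgebra
  let i := (ConsEngine.isPullback_fiberBC hsq t).isoPullback
  have hi : i.hom ≫ pullback.fst _ _ = ConsEngine.fiberBC hsq t := IsPullback.isoPullback_hom_fst _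
  have h1 := h (Y'.residueField t) (i.hom p') (by
    rw [← hi]; rfl)
  have h3 : Function.Injective (inv (i.hom.stalkMap p')).hom :=
    (asIso (i.hom.stalkMap p')).commRingCatIsoToRingEquiv.symm.injective
  exact @isReduced_of_injective _ _ _ _ _ _ _ _ h3 h1

/-- The common core: over the spectrum of a discrete valuation ring, the component through the
section is the only one through a reduced point of it, and does not drop in dimension. -/
theorem exists_generic_component_of_dvr {A : Type u} [CommRing A] [IsDomain A]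
    [IsDiscreteValuationRing A] {X : Scheme.{u}} (f : X ⟶ Spec (CommRingCat.of A))
    [LocallyOfFiniteType f] (g : Spec (CommRingCat.of A) ⟶ X) (hg : g ≫ f = 𝟙 _)
    {c η : ↥(Spec (CommRingCat.of A))} (hη : η ⤳ c) (hne : η ≠ c)
    (hmax : ∀ t, t ≠ c → t = η)
    (hirr : IsIrreducible (connectedComponentIn (f.base ⁻¹' {c}) (g.base c)))
    (p : ↥(f.fiber c)) (hp : f.fiberι c p ∈ connectedComponentIn (f.base ⁻¹' {c}) (g.base c))
    (hred : _root_.IsReduced ((f.fiber c).presheaf.stalk p))
    (hlift : ∀ ξ ∈ connectedComponentIn (f.base ⁻¹' {c}) (g.base c),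
      connectedComponentIn (f.base ⁻¹' {c}) (g.base c) ⊆ closure {ξ} → ∃ ζ, ζ ⤳ ξ ∧ f.base ζ = η) :
    ∃ ζ₀, f.base ζ₀ = η ∧ (∀ w, w ⤳ f.fiberι c p → ζ₀ ⤳ w) ∧
      (∀ d : ℕ, topologicalKrullDim ↥(connectedComponentIn (f.base ⁻¹' {c}) (g.base c)) = (d : WithBot ℕ∞) →
        HasChain f (closure {ζ₀}) η d) := by
  have hgc : f.base (g.base c) = c := by
    have : (g ≫ f).base c = c := by rw [hg]; rfl
    exact this
  obtain ⟨ξ, hξC, hξc, hξmax, hCeq, d₀, hd₀, -, hd₂, -⟩ :=
    exists_genericPoint_connectedComponent f hgc hirr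
  obtain ⟨ζ, hζξ, hζ⟩ := hlift ξ hξC (hCeq.le.trans Set.inter_subset_left)
  have : IsLocallyNoetherian X := LocallyOfFiniteType.isLocallyNoetherian f
  have hξp : ξ ⤳ f.fiberι c p := specializes_iff_mem_closure.mpr (hCeq.le hp).1
  have huniq := exists_unique_generalization f c p (isPrincipal_maximalIdeal_stalk_Spec A _) hred
    hξp hξc (fun w hw hwp ↦ by
      have hpy : f.base (f.fiberι c p) = c := (f.range_fiberι c).le ⟨p, rfl⟩
      have h1 := (mem_connectedComponentIn_of_specializes f (x := g.base c) hwp (hw.trans hgc.symm)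
        (hpy.trans hgc.symm)).mp (by rw [hgc]; exact hp)
      rw [hgc] at h1
      exact specializes_iff_mem_closure.mpr (hCeq.le h1).1)
    hζξ (fun h ↦ hne (hζ.symm.trans h))
  refine ⟨ζ, hζ, huniq, fun d hd ↦ ?_⟩
  have hdd : d₀ = d := by exact_mod_cast hd₀.symm.trans hd
  subst hdd
  obtain ⟨ζ', hζ', hfζ', hch⟩ := exists_hasChain_of_lifts' f (z := ξ) (η := η)
    (show η ⤳ f ξ by rw [show f ξ = c from hξc]; exact hη) fun η' hη₁ hη₂ ↦ by
      rw [show f ξ = c from hξc] at hη₂
      by_cases h : η' = c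
      · exact ⟨ξ, specializes_rfl, hξc.trans h.symm⟩
      · exact ⟨ζ, hζξ, hζ.trans (hmax η' h).symm⟩
  refine (hch _ (by rw [show f ξ = c from hξc]; exact hd₂)).mono ?_
  exact closure_minimal (Set.singleton_subset_iff.mpr
    (specializes_iff_mem_closure.mp (huniq ζ' (hζ'.trans hξp)))) isClosed_closure

/-- Universal openness at the generic point of the component and geometric reducedness at the section
bound the dimension of the components at generisations from below. -/
theorem dim_component_le_of_geomReduced [IsLocallyNoetherian Y] (f : X ⟶ Y) [LocallyOfFiniteType f]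
    (g : Y ⟶ X) (hg : g ≫ f = 𝟙 Y) (hgi : GeomIrredComp f g) (y : Y)
    (hopen : ∀ ξ ∈ connectedComponentIn (f.base ⁻¹' {y}) (g.base y),
      connectedComponentIn (f.base ⁻¹' {y}) (g.base y) ⊆ closure {ξ} → EGA43.IsUnivOpenAt f ξ)
    (hred : FBase.IsGeomReducedAt (f.fiberToSpecResidueField (f.base (g.base y))) (f.asFiber (g.base y)))
    (y' : Y) (hy' : y' ⤳ y) :
    topologicalKrullDim ↥(connectedComponentIn (f.base ⁻¹' {y}) (g.base y)) ≤
      topologicalKrullDim ↥(connectedComponentIn (f.base ⁻¹' {y'}) (g.base y')) := by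
  by_cases hne : y = y'
  · subst hne; exact le_rfl
  have hgy : f.base (g.base y) = y := by
    have : (g ≫ f).base y = y := by rw [hg]; rfl
    exact this
  obtain ⟨A, g₀, _, hg₀c, hg₀η⟩ := DvrDom.exists_dvr_through (𝟙 Y) y' y (by simpa using hy')
    (by simpa using hne)
  let c : ↥(Spec (CommRingCat.of A)) := IsLocalRing.closedPoint A
  let η : ↥(Spec (CommRingCat.of A)) := ⟨⊥, Ideal.isPrime_bot⟩
  have hηc : η ⤳ c := (PrimeSpectrum.le_iff_specializes η c).mp bot_le
  have hηne : η ≠ c := fun h ↦ IsDiscreteValuationRing.not_a_field A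
    (congrArg PrimeSpectrum.asIdeal h).symm
  have hmax : ∀ t : ↥(Spec (CommRingCat.of A)), t ≠ c → t = η := fun t ht ↦ by
    by_contra h
    have : t.asIdeal.IsMaximal := t.2.isMaximal fun hb ↦ h (PrimeSpectrum.ext hb)
    exact ht (PrimeSpectrum.ext (IsLocalRing.eq_maximalIdeal this))
  have hη' : g₀.base η = y' := by
    have h1 := congr($hg₀η (default : PrimeSpectrum (Y.residueField y')))
    rw [Scheme.Hom.comp_apply, Scheme.Hom.comp_apply] at h1
    have h2 : Spec.map (CommRingCat.ofHom A.subtype) (default : PrimeSpectrum (Y.residueField y')) = η := by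
      refine PrimeSpectrum.ext ?_
      show Ideal.comap A.subtype _ = ⊥
      rw [show (default : PrimeSpectrum (Y.residueField y')).asIdeal = ⊥ from
        ((Ideal.eq_bot_or_top _).resolve_right (default : PrimeSpectrum (Y.residueField y')).2.ne_top)]
      exact Ideal.comap_bot_of_injective _ Subtype.val_injective
    rw [h2] at h1
    simpa using h1
  let f' := pullback.snd f g₀
  let e := pullback.fst f g₀
  have hsq : IsPullback e f' f g₀ := IsPullback.of_hasPullback f g₀
  let g' : Spec (CommRingCat.of A) ⟶ pullback f g₀ :=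
    pullback.lift (g₀ ≫ g) (𝟙 _) (by rw [Category.assoc, hg, Category.comp_id, Category.id_comp])
  have hg' : g' ≫ f' = 𝟙 _ := pullback.lift_snd _ _ _
  have hge : g' ≫ e = g₀ ≫ g := pullback.lift_fst _ _ _
  obtain ⟨hCc, hirrc, hdimc⟩ := hgi.component_baseChange hg hsq hg' hge c
  obtain ⟨-, hirrη, hdimη⟩ := hgi.component_baseChange hg hsq hg' hge η
  have hyc : g₀.base c = y := hg₀c
  have hgc : f'.base (g'.base c) = c := by
    have : (g' ≫ f').base c = c := by rw [hg']; rfl
    exact this
  have hgη : f'.base (g'.base η) = η := by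
    have : (g' ≫ f').base η = η := by rw [hg']; rfl
    exact this
  have hegc : e.base (g'.base c) = g.base y := by
    have : (g' ≫ e).base c = (g₀ ≫ g).base c := by rw [hge]
    exact this.trans (congrArg g.base hyc)
  obtain ⟨p, hp⟩ := (f'.range_fiberι c).ge hgc
  have hredp : _root_.IsReduced ((f'.fiber c).presheaf.stalk p) := by
    refine isReduced_stalk_fiber_of_geomReduced hsq c p ?_
    have hq : f.fiberι (g₀.base c) (ConsEngine.fiberBC hsq c p) = g.base y := by
      rw [← Scheme.Hom.comp_apply, ConsEngine.fiberBC_fiberι, Scheme.Hom.comp_apply, hp]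
      exact hegc
    have key : ∀ (a : Y) (q : ↥(f.fiber a)) (x : X), f.fiberι a q = x →
        FBase.IsGeomReducedAt (f.fiberToSpecResidueField (f.base x)) (f.asFiber x) →
        FBase.IsGeomReducedAt (f.fiberToSpecResidueField a) q := by
      intro a q x hqx h
      obtain rfl : f.base x = a := hqx ▸ (f.range_fiberι a).le ⟨q, rfl⟩
      obtain rfl : q = f.asFiber x := (f.fiberι _).isEmbedding.injective
        (hqx.trans (f.fiberι_asFiber x).symm)
      exact h
    exact key _ _ _ hq hred
  have hlift : ∀ ξ ∈ connectedComponentIn (f'.base ⁻¹' {c}) (g'.base c),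
      connectedComponentIn (f'.base ⁻¹' {c}) (g'.base c) ⊆ closure {ξ} → ∃ ζ, ζ ⤳ ξ ∧ f'.base ζ = η := by
    intro ξ hξ hgen
    obtain ⟨ξ₀, hξ₀C, hξ₀y, hξ₀max, hC₀, -⟩ :=
      exists_genericPoint_connectedComponent f (y := y) hgy (hgi.isIrreducible y)
    have hmem : ξ ∈ f'.base ⁻¹' {c} ∩ e.base ⁻¹' connectedComponentIn (f.base ⁻¹' {y}) (g.base y) := by
      rw [← hyc, ← hCc]; exact hξ
    have heξ : e.base ξ = ξ₀ := by
      obtain ⟨w, hw₁, hw₂⟩ := Scheme.Pullback.exists_preimage_pullback (f := f) (g := g₀) ξ₀ c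
        (hξ₀y.trans hyc.symm)
      have hwC : w ∈ connectedComponentIn (f'.base ⁻¹' {c}) (g'.base c) := by
        rw [hCc, hyc]
        exact ⟨hw₂, show e.base w ∈ _ from hw₁.symm ▸ hξ₀C⟩
      have hsp : e.base ξ ⤳ ξ₀ := hw₁ ▸ (specializes_iff_mem_closure.mpr (hgen hwC)).map e.continuous
      refine hξ₀max _ ?_ hsp
      exact connectedComponentIn_subset (f.base ⁻¹' {y}) _ hmem.2
    have hU := hopen (e.base ξ) hmem.2 (by rw [heξ, hC₀]; exact Set.inter_subset_left)
    have hOpen : EGA43.IsOpenAt f'.base ξ := hU (Spec (CommRingCat.of A)) g₀ ξ rfl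
    obtain ⟨ζ, hζ, hfζ⟩ := exists_specializes_of_isOpenAt f' hOpen (η := η)
      (by rw [show f' ξ = c from hmem.1]; exact hηc)
    exact ⟨ζ, hζ, hfζ⟩
  obtain ⟨ζ₀, hfζ₀, huniq, hchain⟩ := exists_generic_component_of_dvr f' g' hg' hηc hηne hmax hirrc p
    (by rw [hp]; exact mem_connectedComponentIn hgc) hredp hlift
  obtain ⟨ξ₁, -, -, -, -, d, hd, -, -, -⟩ := exists_genericPoint_connectedComponent f' hgc hirrc
  suffices key : topologicalKrullDim ↥(connectedComponentIn (f'.base ⁻¹' {c}) (g'.base c)) ≤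
      topologicalKrullDim ↥(connectedComponentIn (f'.base ⁻¹' {η}) (g'.base η)) by
    rwa [hdimc, hdimη, hyc, hη'] at key
  rw [hd]
  obtain ⟨k, hk, hkch⟩ := hchain d hd
  obtain ⟨O, hO⟩ := exists_opens_inter_eq f' η hgη
  have hζη : ζ₀ ⤳ g'.base η := huniq _ (by rw [hp]; exact hηc.map g'.continuous)
  have hsub : closure {ζ₀} ∩ f'.base ⁻¹' {η} ⊆ connectedComponentIn (f'.base ⁻¹' {η}) (g'.base η) :=
    ((isPreconnected_singleton (x := ζ₀)).subset_closure
      (Set.singleton_subset_iff.mpr (show ζ₀ ∈ closure {ζ₀} ∩ f'.base ⁻¹' {η} from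
        ⟨subset_closure rfl, hfζ₀⟩))
      Set.inter_subset_left).subset_connectedComponentIn
      ⟨specializes_iff_mem_closure.mp hζη, hgη⟩ Set.inter_subset_right
  rw [← hO]
  exact (natCast_le_topologicalKrullDim_inter_iff f' O.2.isLocallyClosed η).mpr
    ⟨k, fun i ↦ ⟨(hO.ge (hsub (hk i))).1, (hk i).2⟩, hkch⟩

end Groth.Agent.Unibranch

namespace Groth.Agent.Unibranch

variable {X Y : Scheme.{u}}

theorem exists_dim_component (f : X ⟶ Y) [LocallyOfFiniteType f] (g : Y ⟶ X) (hg : g ≫ f = 𝟙 Y)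
    (hirr : ∀ y : Y, IsIrreducible (connectedComponentIn (f.base ⁻¹' {y}) (g.base y))) (y : Y) :
    ∃ d : ℕ, topologicalKrullDim ↥(connectedComponentIn (f.base ⁻¹' {y}) (g.base y)) = (d : WithBot ℕ∞) ∧
      FlatMor.fibreDimAt f (g.base y) = (d : WithBot ℕ∞) := by
  have hgy : f.base (g.base y) = y := by
    have : (g ≫ f).base y = y := by rw [hg]; rfl
    exact this
  obtain ⟨ξ, -, -, -, -, d, hd, -, -, hloc⟩ := exists_genericPoint_connectedComponent f hgy (hirr y)
  exact ⟨d, hd, hloc _ (mem_connectedComponentIn hgy)⟩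

/-- The dimension of the component through the section is monotone:
generisations have components of dimension at most that of the specialisation. -/
theorem dim_component_generization_le (f : X ⟶ Y) [LocallyOfFiniteType f] (g : Y ⟶ X) (hg : g ≫ f = 𝟙 Y)
    (hirr : ∀ y : Y, IsIrreducible (connectedComponentIn (f.base ⁻¹' {y}) (g.base y))) {y y' : Y}
    (h : y' ⤳ y) :
    topologicalKrullDim ↥(connectedComponentIn (f.base ⁻¹' {y'}) (g.base y')) ≤
      topologicalKrullDim ↥(connectedComponentIn (f.base ⁻¹' {y}) (g.base y)) := by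
  by_contra hlt
  have h1 := upperSemicontinuous_dim_component f g hg hirr y _ (not_le.mp hlt)
  obtain ⟨O, hO, hOo, hyO⟩ := eventually_nhds_iff.mp h1
  exact lt_irrefl _ (hO _ (h.mem_open hOo hyO))

/-- If no generisation has a smaller component, the dimension of the component is locally constant. -/
theorem dim_component_const_nhd [IsLocallyNoetherian X] (f : X ⟶ Y) [LocallyOfFiniteType f] (g : Y ⟶ X)
    (hg : g ≫ f = 𝟙 Y)
    (hirr : ∀ y : Y, IsIrreducible (connectedComponentIn (f.base ⁻¹' {y}) (g.base y))) (y : Y)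
    (h : ∀ y' : Y, y' ⤳ y → topologicalKrullDim ↥(connectedComponentIn (f.base ⁻¹' {y}) (g.base y)) ≤
      topologicalKrullDim ↥(connectedComponentIn (f.base ⁻¹' {y'}) (g.base y'))) :
    ∃ V ∈ nhds y, ∀ z ∈ V, topologicalKrullDim ↥(connectedComponentIn (f.base ⁻¹' {z}) (g.base z)) =
      topologicalKrullDim ↥(connectedComponentIn (f.base ⁻¹' {y}) (g.base y)) := by
  obtain ⟨d, hd, hd'⟩ := exists_dim_component f g hg hirr y
  have hclosed : IsClosed {x : X | (d : WithBot ℕ∞) ≤ FlatMor.fibreDimAt f x} :=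
    DimField.isClosed_le_fibreDimAt f d
  have hcons : IsLocallyConstructible (g.base ⁻¹' {x : X | (d : WithBot ℕ∞) ≤ FlatMor.fibreDimAt f x}) :=
    ConsEngine.isLocallyConstructible_preimage g (ConsEngine.isLocallyConstructible_of_isClosed hclosed)
  have hmem : g.base ⁻¹' {x : X | (d : WithBot ℕ∞) ≤ FlatMor.fibreDimAt f x} ∈ nhds y := by
    refine mem_nhds_of_isLocallyConstructible hcons fun y' hy' ↦ ?_
    obtain ⟨e, he, he'⟩ := exists_dim_component f g hg hirr y'
    show (d : WithBot ℕ∞) ≤ FlatMor.fibreDimAt f (g.base y')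
    rw [he', ← hd, ← he]
    exact h y' hy'
  obtain ⟨U, hxU, hU⟩ := (fibreDimAt_le_iff f _).mp hd'.le
  obtain ⟨U', hxU', -, hU'⟩ := exists_opens_chainsLE f hxU hU
  refine ⟨_, Filter.inter_mem hmem ((g ⁻¹ᵁ U').2.mem_nhds hxU'), fun z ⟨hz₁, hz₂⟩ ↦ ?_⟩
  obtain ⟨e, he, he'⟩ := exists_dim_component f g hg hirr z
  rw [he, hd]
  refine le_antisymm ?_ ?_
  · rw [← he']
    exact (fibreDimAt_le_iff f _).mpr ⟨U', hz₂, hU' _⟩
  · rw [← he']
    exact hz₁

end Groth.Agent.Unibranch
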