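import Groth.Agent.Unibranch.SectionComp
import Groth.Agent.DimField.Scheme
import Groth.Agent.ConsEngine.Fiber
import Groth.Agent.GeomConn.Comp
import Groth.Prelude.Def_FDesc

/-!
# Components of fibres through a section under base change
-/

set_option linter.style.haveILetI false

universe u

open CategoryTheory AlgebraicGeometry Topology TopologicalSpace Limits

namespace Groth.Agent.Unibranch

variable {X Y X' Y' : Scheme.{u}}

/-- The component of the fibre through the section is geometrically irreducible. -/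
def GeomIrredComp (f : X ⟶ Y) (g : Y ⟶ X) : Prop :=
  ∀ (y : Y) (K : Type u) [Field K] [Algebra (IsLocalRing.ResidueField (Y.presheaf.stalk y)) K],
    IsIrreducible ((FBase.bcπ (f.fiberToSpecResidueField y) K ≫ f.fiberι y).base ⁻¹'
      (connectedComponentIn (f.base ⁻¹' {y}) (g.base y)))

theorem GeomIrredComp.isIrreducible {f : X ⟶ Y} {g : Y ⟶ X} (h : GeomIrredComp f g) (y : Y) :
    IsIrreducible (connectedComponentIn (f.base ⁻¹' {y}) (g.base y)) := by
  let k := IsLocalRing.ResidueField (Y.presheaf.stalk y)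
  let p := FBase.bcπ (f.fiberToSpecResidueField y) k ≫ f.fiberι y
  have hsub : connectedComponentIn (f.base ⁻¹' {y}) (g.base y) ⊆ Set.range p.base := fun z hz ↦ by
    obtain ⟨q, rfl⟩ := (f.range_fiberι y).ge (connectedComponentIn_subset _ _ hz)
    have : Surjective (FBase.bcπ (f.fiberToSpecResidueField y) k) :=
      MorphismProperty.pullback_fst _ _ GeomConn.surjective_Spec_field
    obtain ⟨r, rfl⟩ := (FBase.bcπ (f.fiberToSpecResidueField y) k).surjective q
    exact ⟨r, rfl⟩
  rw [← Set.image_preimage_eq_of_subset hsub]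
  exact (h y k).image _ p.continuous.continuousOn

/-- The component of the fibre over a point through the section is geometrically irreducible. -/
def GeomIrredAt (f : X ⟶ Y) (g : Y ⟶ X) (y : Y) : Prop :=
  ∀ (K : Type u) [Field K] [Algebra (IsLocalRing.ResidueField (Y.presheaf.stalk y)) K],
    IsIrreducible ((FBase.bcπ (f.fiberToSpecResidueField y) K ≫ f.fiberι y).base ⁻¹'
      (connectedComponentIn (f.base ⁻¹' {y}) (g.base y)))

/-- The component through the section commutes with base change, keeping its dimension. -/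
theorem component_baseChange_at {f : X ⟶ Y} [LocallyOfFiniteType f] {g : Y ⟶ X}
    (hg : g ≫ f = 𝟙 Y) {f' : X' ⟶ Y'} {e : X' ⟶ X} {σ : Y' ⟶ Y}
    (hsq : IsPullback e f' f σ) {g' : Y' ⟶ X'} (hg' : g' ≫ f' = 𝟙 Y') (hge : g' ≫ e = σ ≫ g) (t : Y') (hgi : GeomIrredAt f g (σ.base t)) :
    connectedComponentIn (f'.base ⁻¹' {t}) (g'.base t) =
        f'.base ⁻¹' {t} ∩ e.base ⁻¹' connectedComponentIn (f.base ⁻¹' {σ.base t}) (g.base (σ.base t)) ∧
      IsIrreducible (connectedComponentIn (f'.base ⁻¹' {t}) (g'.base t)) ∧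
      topologicalKrullDim ↥(connectedComponentIn (f'.base ⁻¹' {t}) (g'.base t)) =
        topologicalKrullDim ↥(connectedComponentIn (f.base ⁻¹' {σ.base t}) (g.base (σ.base t))) := by
  set C := connectedComponentIn (f.base ⁻¹' {σ.base t}) (g.base (σ.base t)) with hC
  have hgy : f.base (g.base (σ.base t)) = σ.base t := by
    have : (g ≫ f).base (σ.base t) = σ.base t := by rw [hg]; rfl
    exact this
  have hgt : f'.base (g'.base t) = t := by
    have : (g' ≫ f').base t = t := by rw [hg']; rfl
    exact this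
  have hge' : e.base (g'.base t) = g.base (σ.base t) := by
    have : (g' ≫ e).base t = (σ ≫ g).base t := by rw [hge]
    exact this
  let π := ConsEngine.fiberBC hsq t
  have hπ : ∀ a, f.fiberι (σ.base t) (π a) = e.base (f'.fiberι t a) := fun a ↦ by
    rw [← Scheme.Hom.comp_apply, ConsEngine.fiberBC_fiberι, Scheme.Hom.comp_apply]
  have hP : f'.base ⁻¹' {t} ∩ e.base ⁻¹' C = f'.fiberι t '' (π ⁻¹' (f.fiberι (σ.base t) ⁻¹' C)) := by
    ext x
    constructor
    · rintro ⟨hx, hxC⟩
      obtain ⟨a, rfl⟩ := (f'.range_fiberι t).ge hx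
      exact ⟨a, by rw [Set.mem_preimage, Set.mem_preimage, hπ]; exact hxC, rfl⟩
    · rintro ⟨a, ha, rfl⟩
      exact ⟨(f'.range_fiberι t).le ⟨a, rfl⟩, by rw [Set.mem_preimage, ← hπ]; exact ha⟩
  have hirr : IsIrreducible (f'.base ⁻¹' {t} ∩ e.base ⁻¹' C) := by
    letI : Algebra (IsLocalRing.ResidueField (Y.presheaf.stalk (σ.base t))) (Y'.residueField t) :=
      (σ.residueFieldMap t).hom.toAlgebra
    have h1 := hgi (Y'.residueField t)
    have H := IsPullback.of_hasPullback (f.fiberToSpecResidueField (σ.base t))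
      (Spec.map (σ.residueFieldMap t))
    let i := (ConsEngine.isPullback_fiberBC hsq t).isoPullback
    have hi : i.hom ≫ pullback.fst _ _ = π := IsPullback.isoPullback_hom_fst _
    have h2 := h1.image i.inv i.inv.continuous.continuousOn
    rw [hP]
    refine IsIrreducible.image ?_ _ (f'.fiberι t).continuous.continuousOn
    convert! h2 using 1
    ext a
    constructor
    · intro ha
      refine ⟨i.hom a, ?_, by rw [← Scheme.Hom.comp_apply, Iso.hom_inv_id]; rfl⟩
      show (f.fiberι (σ.base t)) ((pullback.fst _ _ : _ ⟶ f.fiber (σ.base t)) (i.hom a)) ∈ C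
      rw [← Scheme.Hom.comp_apply i.hom, hi]
      exact ha
    · rintro ⟨b, hb, rfl⟩
      show f.fiberι (σ.base t) (π (i.inv b)) ∈ C
      rw [← hi, ← Scheme.Hom.comp_apply i.inv, Iso.inv_hom_id_assoc]
      exact hb
  have heq : connectedComponentIn (f'.base ⁻¹' {t}) (g'.base t) = f'.base ⁻¹' {t} ∩ e.base ⁻¹' C := by
    refine Set.Subset.antisymm (Set.subset_inter (connectedComponentIn_subset _ _) ?_) ?_
    · rw [← Set.image_subset_iff]
      refine ((isPreconnected_connectedComponentIn).image _ e.continuous.continuousOn).subset_connectedComponentIn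
        ⟨_, mem_connectedComponentIn (show g'.base t ∈ f'.base ⁻¹' {t} from hgt), hge'⟩ ?_
      rintro _ ⟨x, hx, rfl⟩
      show f.base (e.base x) = σ.base t
      have h3 : (e ≫ f).base x = (f' ≫ σ).base x := by rw [hsq.w]
      exact h3.trans (congrArg σ.base (show f'.base x = t from connectedComponentIn_subset (f'.base ⁻¹' {t}) _ hx))
    · exact hirr.isConnected.isPreconnected.subset_connectedComponentIn
        ⟨hgt, show e.base (g'.base t) ∈ C from hge' ▸ mem_connectedComponentIn (show g.base (σ.base t) ∈ f.base ⁻¹' {σ.base t} from hgy)⟩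
        Set.inter_subset_left
  refine ⟨heq, heq ▸ hirr, ?_⟩
  rw [heq, hP]
  obtain ⟨O, hO⟩ := exists_opens_inter_eq f (σ.base t) hgy
  let W : (f.fiber (σ.base t)).Opens := f.fiberι (σ.base t) ⁻¹ᵁ O
  have hW : f.fiberι (σ.base t) ⁻¹' C = (W : Set ↥(f.fiber (σ.base t))) := by
    ext a
    rw [Set.mem_preimage, hC, ← hO]
    exact ⟨fun h ↦ h.1, fun h ↦ ⟨h, (f.range_fiberι _).le ⟨a, rfl⟩⟩⟩
  have : LocallyOfFiniteType (f.fiberToSpecResidueField (σ.base t)) :=
    MorphismProperty.pullback_snd _ _ ‹_›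
  have hW' := DimField.dim_eq_of_isPullback (W.ι ≫ f.fiberToSpecResidueField (σ.base t))
    ((π ⁻¹ᵁ W).ι ≫ f'.fiberToSpecResidueField t) (π ∣_ W) (Spec.map (σ.residueFieldMap t))
    ((isPullback_morphismRestrict π W).paste_vert (ConsEngine.isPullback_fiberBC hsq t))
  rw [hW, ← IsHomeomorph.topologicalKrullDim_eq _
    ((f'.fiberι t).isEmbedding.homeomorphImage (π ⁻¹' (W : Set _))).isHomeomorph]
  have hCW : topologicalKrullDim ↥C = topologicalKrullDim ↥(W : Set ↥(f.fiber (σ.base t))) := by
    have hCim : f.fiberι (σ.base t) '' (W : Set _) = C := by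
      rw [← hW, Set.image_preimage_eq_of_subset]
      exact (connectedComponentIn_subset _ _).trans (f.range_fiberι _).ge
    rw [IsHomeomorph.topologicalKrullDim_eq _ (((f.fiberι (σ.base t)).isEmbedding.homeomorphImage
      (W : Set _)).trans (Homeomorph.setCongr hCim)).isHomeomorph]
  rw [hCW]
  exact hW'.symm

/-- The component through the section commutes with base change, keeping its dimension. -/
theorem GeomIrredComp.component_baseChange {f : X ⟶ Y} [LocallyOfFiniteType f] {g : Y ⟶ X}
    (hgi : GeomIrredComp f g) (hg : g ≫ f = 𝟙 Y) {f' : X' ⟶ Y'} {e : X' ⟶ X} {σ : Y' ⟶ Y}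
    (hsq : IsPullback e f' f σ) {g' : Y' ⟶ X'} (hg' : g' ≫ f' = 𝟙 Y') (hge : g' ≫ e = σ ≫ g) (t : Y') :
    connectedComponentIn (f'.base ⁻¹' {t}) (g'.base t) =
        f'.base ⁻¹' {t} ∩ e.base ⁻¹' connectedComponentIn (f.base ⁻¹' {σ.base t}) (g.base (σ.base t)) ∧
      IsIrreducible (connectedComponentIn (f'.base ⁻¹' {t}) (g'.base t)) ∧
      topologicalKrullDim ↥(connectedComponentIn (f'.base ⁻¹' {t}) (g'.base t)) =
        topologicalKrullDim ↥(connectedComponentIn (f.base ⁻¹' {σ.base t}) (g.base (σ.base t))) :=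
  component_baseChange_at hg hsq hg' hge t (hgi _)

end Groth.Agent.Unibranch
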