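import Groth.Agent.Unibranch.Components

/-!
# Openness at quasi-finite points over unibranch points; transport along isomorphisms
-/

universe u

open CategoryTheory AlgebraicGeometry CAlg2 PrimeSpectrum

namespace Groth.Agent.Unibranch

/-- `GUAt` is invariant under ring isomorphisms. -/
theorem GUAt.of_ringEquiv {R S : Type u} [CommRing R] [CommRing S] (e : R ≃+* S) (P : Ideal S)
    (h : GUAt S P) : GUAt R (P.comap e.toRingHom) := by
  obtain ⟨R₁, _, _, _, hn, hi, hf, q, hq, hr⟩ := h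
  letI : Algebra R R₁ := ((algebraMap S R₁).comp e.toRingHom).toAlgebra
  have hker : ∀ Q : Ideal R₁, Q.comap (algebraMap R R₁) = P.comap e.toRingHom →
      Q.comap (algebraMap S R₁) = P := fun Q hQ ↦ by
    refine Ideal.comap_injective_of_surjective e.toRingHom e.surjective ?_
    rw [← hQ, Ideal.comap_comap]
    rfl
  refine ⟨R₁, inferInstance, inferInstance, inferInstance, hn, ⟨fun z ↦ ?_⟩, ?_, q, ?_, fun z ↦ ?_⟩
  · exact RingHom.IsIntegral.trans e.toRingHom (algebraMap S R₁)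
      (RingHom.isIntegral_of_surjective _ e.surjective) (fun x ↦ hi.isIntegral x) z
  · exact (faithfulSMul_iff_algebraMap_injective R R₁).mpr
      ((FaithfulSMul.algebraMap_injective S R₁).comp e.injective)
  · have h1 : P ≤ (P.comap e.toRingHom).comap e.symm.toRingHom := fun x hx ↦ by
      show e (e.symm x) ∈ P
      rwa [e.apply_symm_apply]
    have h2 : (P.comap e.toRingHom).comap e.symm.toRingHom ≤ P := fun x hx ↦ by
      have : e (e.symm x) ∈ P := hx
      rwa [e.apply_symm_apply] at this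
    let g : S ⧸ P →+* R ⧸ P.comap e.toRingHom :=
      Ideal.quotientMap (P.comap e.toRingHom) e.symm.toRingHom h1
    have hg : Function.Injective g := Ideal.quotientMap_injective' h2
    exact expChar_of_injective_ringHom hg q
  · obtain ⟨n, s, a, hs, hQ⟩ := hr z
    refine ⟨n, e.symm s, e.symm a, fun hh ↦ hs ?_, fun Q hQp hQe ↦ ?_⟩
    · have : e (e.symm s) ∈ P := hh
      rwa [e.apply_symm_apply] at this
    show algebraMap S R₁ (e (e.symm s)) * _ - algebraMap S R₁ (e (e.symm a)) ∈ Q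
    rw [e.apply_symm_apply, e.apply_symm_apply]
    exact hQ Q hQp (hker Q hQe)

/-- The unique minimal prime under a unibranch prime, and uniqueness in the normalisation. -/
theorem exists_uniqueOver_of_isUnibranch {A : Type u} [CommRing A] (p : Ideal A) [p.IsPrime]
    (Ap : Type u) [CommRing Ap] [Algebra A Ap] [IsLocalization.AtPrime Ap p] [IsLocalRing Ap]
    (h : IsUnibranch Ap) :
    ∃ p₀ : Ideal A, p₀.IsPrime ∧ p₀ ≤ p ∧ (∀ p' : Ideal A, p'.IsPrime → p' ≤ p → p₀ ≤ p') ∧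
      ∃ (R' : Type u) (_ : CommRing R') (_ : IsDomain R') (_ : Algebra (A ⧸ p₀) R'),
        IsIntegrallyClosed R' ∧ Algebra.IsIntegral (A ⧸ p₀) R' ∧ FaithfulSMul (A ⧸ p₀) R' ∧
          UniqueOver (A ⧸ p₀) R' (p.map (Ideal.Quotient.mk p₀)) := by
  obtain ⟨hd, hl⟩ := h
  have hN : (nilradical Ap).IsPrime := (Ideal.Quotient.isDomain_iff_prime _).mp hd
  refine ⟨(nilradical Ap).comap (algebraMap A Ap), inferInstance,
    comap_nilradical_le p Ap p le_rfl, fun p' _ hp' ↦ comap_nilradical_le p Ap p' hp', ?_⟩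
  obtain ⟨hle, _, hP, φ, hφ, hloc⟩ := exists_setup p _ Ap rfl
  letI := φ.toAlgebra
  haveI := hloc hP
  haveI : IsLocalRing (red Ap) :=
    .of_surjective' (Ideal.Quotient.mk (nilradical Ap)) Ideal.Quotient.mk_surjective
  haveI : IsLocalRing (integralClosure (red Ap) (FractionRing (red Ap))) := hl
  refine ⟨integralClosure (A ⧸ (nilradical Ap).comap (algebraMap A Ap)) (FractionRing (red Ap)),
    inferInstance, inferInstance, inferInstance, isIntegrallyClosed_integralClosure, inferInstance,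
    ?_, uniqueOver_of_local (S := red Ap) _⟩
  refine (faithfulSMul_iff_algebraMap_injective _ _).mpr fun a b e ↦ ?_
  refine injective_algebraMap_of_atPrime (S := red Ap) (p.map (Ideal.Quotient.mk _))
    (IsFractionRing.injective (red Ap) (FractionRing (red Ap)) ?_)
  rw [← IsScalarTower.algebraMap_apply, ← IsScalarTower.algebraMap_apply]
  exact congrArg Subtype.val e

variable {X Y : Scheme.{u}}

/-- A quasi-finite point with a generisation over the only maximal point near its unibranch image is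
a point of openness. -/
theorem isOpenAt_of_quasiFiniteAt (f : X ⟶ Y) [LocallyOfFiniteType f] (x : X)
    (hqf : f.QuasiFiniteAt x) (hy : IsUnibranch (Y.presheaf.stalk (f x)))
    (ζ : X) (hζ : ζ ⤳ x) (hη : ∃ V₀ : Y.Opens, f x ∈ V₀ ∧ ∀ z ∈ V₀, f ζ ⤳ z) :
    EGA43.IsOpenAt f x := by
  obtain ⟨V₀, hyV₀, hV₀⟩ := hη
  obtain ⟨SV, hSV, hyV, hVV₀⟩ := Y.isBasis_affineOpens.exists_subset_of_mem_open hyV₀ V₀.2
  obtain ⟨V, hV, rfl⟩ : ∃ U : Y.Opens, IsAffineOpen U ∧ (U : Set Y) = SV := hSV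
  obtain ⟨SW, hSW, hxW, hWV⟩ := X.isBasis_affineOpens.exists_subset_of_mem_open
    (show x ∈ f ⁻¹ᵁ V from hyV) (f ⁻¹ᵁ V).2
  obtain ⟨W, hW, rfl⟩ : ∃ U : X.Opens, IsAffineOpen U ∧ (U : Set X) = SW := hSW
  have hζW : ζ ∈ W := hζ.mem_open W.2 hxW
  let := (f.appLE V W hWV).hom.toAlgebra
  have : Algebra.FiniteType Γ(Y, V) Γ(X, W) := f.finiteType_appLE hV hW hWV
  let n := hW.primeIdealOf ⟨x, hxW⟩
  let q₀ := hW.primeIdealOf ⟨ζ, hζW⟩
  have : Algebra.QuasiFiniteAt Γ(Y, V) n.asIdeal := hqf.quasiFiniteAt hW hV hWV hxW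
  have hle : q₀.asIdeal ≤ n.asIdeal := by
    rw [asIdeal_le_asIdeal, le_iff_specializes]
    refine (hW.fromSpec.isOpenEmbedding.isInducing.specializes_iff).mp ?_
    convert hζ using 1 <;> exact hW.fromSpec_primeIdealOf _
  have hn : n.asIdeal.under Γ(Y, V) = (hV.primeIdealOf ⟨f x, hyV⟩).asIdeal :=
    congrArg PrimeSpectrum.asIdeal (IsAffineOpen.comap_primeIdealOf_appLE V hV W hW hWV hxW)
  have hq₀ : q₀.asIdeal.under Γ(Y, V) = (hV.primeIdealOf ⟨f ζ, hWV hζW⟩).asIdeal :=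
    congrArg PrimeSpectrum.asIdeal (IsAffineOpen.comap_primeIdealOf_appLE V hV W hW hWV hζW)
  have hmin : ∀ p' : Ideal Γ(Y, V), p'.IsPrime → q₀.asIdeal.under Γ(Y, V) ≤ p' := by
    intro p' hp'
    let z : PrimeSpectrum Γ(Y, V) := ⟨p', hp'⟩
    show q₀.asIdeal.under Γ(Y, V) ≤ z.asIdeal
    rw [hq₀, asIdeal_le_asIdeal, le_iff_specializes]
    refine (hV.fromSpec.isOpenEmbedding.isInducing.specializes_iff).mp ?_
    convert hV₀ _ (hVV₀ (hV.range_fromSpec.le ⟨z, rfl⟩)) using 1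
    exact hV.fromSpec_primeIdealOf _
  letI := Y.presheaf.algebra_section_stalk ⟨f x, hyV⟩
  haveI := hV.isLocalization_stalk ⟨f x, hyV⟩
  obtain ⟨p₀, hp₀, hp₀y, hp₀min, R', _, _, _, hn', hi', hf', hU⟩ :=
    exists_uniqueOver_of_isUnibranch (hV.primeIdealOf ⟨f x, hyV⟩).asIdeal
      (Y.presheaf.stalk (f x)) hy
  have hpq : p₀ = q₀.asIdeal.under Γ(Y, V) :=
    (hp₀min _ inferInstance (by rw [← hn]; exact Ideal.comap_mono hle)).antisymm (hmin p₀ hp₀)
  subst hpq
  let p₀ := q₀.asIdeal.under Γ(Y, V)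
  let R := Γ(Y, V) ⧸ p₀
  let Bb := Γ(X, W) ⧸ q₀.asIdeal
  haveI : FaithfulSMul R Bb := by
    refine (faithfulSMul_iff_algebraMap_injective _ _).mpr ?_
    rw [injective_iff_map_eq_zero]
    intro z hz
    obtain ⟨a, rfl⟩ := Ideal.Quotient.mk_surjective z
    have h1 : Ideal.Quotient.mk q₀.asIdeal (algebraMap Γ(Y, V) Γ(X, W) a) = 0 := hz
    exact Ideal.Quotient.eq_zero_iff_mem.mpr
      (Ideal.mem_comap.mpr (Ideal.Quotient.eq_zero_iff_mem.mp h1))
  haveI : Algebra.FiniteType Γ(Y, V) Bb :=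
    .trans (R := Γ(Y, V)) (S := Γ(X, W)) inferInstance inferInstance
  haveI : Algebra.FiniteType R Bb := Algebra.FiniteType.of_restrictScalars_finiteType Γ(Y, V) R Bb
  have hnb : (n.asIdeal.map (Ideal.Quotient.mk q₀.asIdeal)).IsPrime :=
    Ideal.map_isPrime_of_surjective Ideal.Quotient.mk_surjective (by rw [Ideal.mk_ker]; exact hle)
  let nb : PrimeSpectrum Bb := ⟨_, hnb⟩
  have hnb' : nb.asIdeal.comap (Ideal.Quotient.mk q₀.asIdeal) = n.asIdeal := by
    rw [Ideal.comap_map_of_surjective _ Ideal.Quotient.mk_surjective, ← RingHom.ker_eq_comap_bot,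
      Ideal.mk_ker, sup_eq_left.mpr hle]
  have hqA : Algebra.QuasiFiniteAt Γ(Y, V) nb.asIdeal :=
    .of_surjectiveOnStalks n.asIdeal (Ideal.Quotient.mkₐ Γ(Y, V) q₀.asIdeal)
      (RingHom.surjectiveOnStalks_of_surjective Ideal.Quotient.mk_surjective) _ hnb'.symm
  haveI : Algebra.QuasiFiniteAt R nb.asIdeal :=
    Algebra.QuasiFinite.of_restrictScalars Γ(Y, V) R _
  have hP : (comap (algebraMap R Bb) nb).asIdeal =
      (hV.primeIdealOf ⟨f x, hyV⟩).asIdeal.map (Ideal.Quotient.mk p₀) := by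
    refine Ideal.comap_injective_of_surjective (Ideal.Quotient.mk p₀) Ideal.Quotient.mk_surjective ?_
    rw [Ideal.comap_map_of_surjective _ Ideal.Quotient.mk_surjective, ← RingHom.ker_eq_comap_bot,
      Ideal.mk_ker, sup_eq_left.mpr (hn ▸ Ideal.comap_mono hle), ← hn, comap_asIdeal,
      Ideal.under_def, ← hnb', Ideal.comap_comap, Ideal.comap_comap]
    rfl
  intro U hU'
  have hs : comap (Ideal.Quotient.mk q₀.asIdeal) ⁻¹' (hW.fromSpec ⁻¹' U) ∈ nhds nb := by
    refine (continuous_comap _).continuousAt.preimage_mem_nhds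
      (hW.fromSpec.continuous.continuousAt.preimage_mem_nhds ?_)
    convert hU' using 2
    rw [show comap (Ideal.Quotient.mk q₀.asIdeal) nb = n from PrimeSpectrum.ext hnb']
    exact hW.fromSpec_primeIdealOf ⟨x, hxW⟩
  have h3 := image_comap_mem_nhds_of_quasiFiniteAt _ (hP.symm ▸ hU) nb rfl hs
  have hπr : Set.range (comap (Ideal.Quotient.mk p₀)) = Set.univ := by
    refine Set.eq_univ_of_forall fun q ↦ ?_
    rw [range_comap_of_surjective _ _ Ideal.Quotient.mk_surjective, mem_zeroLocus,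
      SetLike.coe_subset_coe, Ideal.mk_ker]
    exact hmin _ q.isPrime
  have hπo : Topology.IsOpenEmbedding (comap (Ideal.Quotient.mk p₀)) :=
    ⟨(isClosedEmbedding_comap_of_surjective _ _ Ideal.Quotient.mk_surjective).isEmbedding,
      hπr ▸ isOpen_univ⟩
  have h4 := hV.fromSpec.isOpenEmbedding.isOpenMap.image_mem_nhds (hπo.isOpenMap.image_mem_nhds h3)
  have hkey : ∀ q, hV.fromSpec (comap (algebraMap Γ(Y, V) Γ(X, W)) q) = f (hW.fromSpec q) :=
    fun q ↦ ((Scheme.Hom.comp_apply _ _ _).symm.trans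
      (congr($(IsAffineOpen.SpecMap_appLE_fromSpec f hV hW hWV) q))).trans
        (Scheme.Hom.comp_apply _ _ _)
  have hx' : hV.fromSpec (comap (Ideal.Quotient.mk p₀) (comap (algebraMap R Bb) nb)) = f x := by
    refine ((congrArg hV.fromSpec ?_).trans (hkey n)).trans
      (congrArg f (hW.fromSpec_primeIdealOf ⟨x, hxW⟩))
    refine PrimeSpectrum.ext ?_
    rw [comap_asIdeal, hP, Ideal.comap_map_of_surjective _ Ideal.Quotient.mk_surjective,
      ← RingHom.ker_eq_comap_bot, Ideal.mk_ker, sup_eq_left.mpr (hn ▸ Ideal.comap_mono hle)]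
    exact hn.symm
  rw [hx'] at h4
  refine Filter.mem_of_superset h4 ?_
  rintro _ ⟨_, ⟨_, ⟨z, hz, rfl⟩, rfl⟩, rfl⟩
  refine ⟨_, hz, ?_⟩
  rw [← hkey, ← comap_comp_apply, ← comap_comp_apply]
  rfl

end Groth.Agent.Unibranch
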