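import Groth.Agent.Unibranch.QuasiSectionAlg
import Groth.Agent.Unibranch.ComponentDim

/-!
# Quasi-sections through closed points of fibres over geometrically unibranch points
-/

universe u

open CategoryTheory AlgebraicGeometry Topology CAlg2

namespace Groth.Agent.Unibranch

variable {A B : Type u} [CommRing A] [CommRing B] [Algebra A B]

theorem comap_eq_of_quasiFiniteAt' [Algebra.FiniteType A B] {σ L : Type u} [Finite σ] [Field L]
    [Algebra A L] (ι : B →ₐ[A] L) (hfrac : ∀ x : L, ∃ b c : B, ι c ≠ 0 ∧ x * ι c = ι b) (t : σ → B)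
    (q₀ : Ideal B) [q₀.IsPrime] (hq₀ : RingHom.ker ι.toRingHom = q₀)
    (hqf : letI := (MvPolynomial.aeval (R := A) t).toRingHom.toAlgebra
      Algebra.QuasiFiniteAt (MvPolynomial σ A) q₀)
    (p₀ : Ideal A) (hp₀ : RingHom.ker (algebraMap A L) = p₀)
    [Algebra (A ⧸ p₀) L] [IsScalarTower A (A ⧸ p₀) L]
    (htr : Cardinal.mk σ ≤ Algebra.trdeg (A ⧸ p₀) L) :
    (q₀.comap (MvPolynomial.aeval (R := A) t).toRingHom) =
      (q₀.under A).map (MvPolynomial.C : A →+* MvPolynomial σ A) := by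
  subst hp₀
  exact ker_eq_of_quasiFiniteAt ι hfrac t q₀ hq₀ hqf htr

/-- A quasi-finite family of size at most the relative dimension is generic. -/
theorem genAt_of_quasiFiniteAt [Algebra.FiniteType A B] {σ : Type u} [Finite σ] (t : σ → B)
    (q : Ideal B) [q.IsPrime]
    (hqf : letI := (MvPolynomial.aeval (R := A) t).toRingHom.toAlgebra
      Algebra.QuasiFiniteAt (MvPolynomial σ A) q)
    (hr : Nat.card σ ≤ rdim A q) : GenAt (A := A) t q := by
  let L := FractionRing (B ⧸ q)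
  let ι : B →ₐ[A] L := (IsScalarTower.toAlgHom A (B ⧸ q) L).comp (Ideal.Quotient.mkₐ A q)
  have hι : RingHom.ker ι.toRingHom = q := by
    ext b
    show algebraMap (B ⧸ q) L (Ideal.Quotient.mk q b) = 0 ↔ _
    rw [map_eq_zero_iff _ (IsFractionRing.injective (B ⧸ q) L), Ideal.Quotient.eq_zero_iff_mem]
  have hp : RingHom.ker (algebraMap A L) = q.under A := by
    ext a
    have := SetLike.ext_iff.mp hι (algebraMap A B a)
    rw [RingHom.mem_ker] at this
    show algebraMap A L a = 0 ↔ algebraMap A B a ∈ q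
    rw [← ι.commutes]
    exact this
  rw [genAt_iff_comap]
  refine comap_eq_of_quasiFiniteAt' ι (fun x ↦ ?_) t q hι hqf _ hp ?_
  · obtain ⟨⟨b, c⟩, h⟩ := IsLocalization.surj (nonZeroDivisors (B ⧸ q)) x
    obtain ⟨b, rfl⟩ := Ideal.Quotient.mk_surjective b
    obtain ⟨c', hc'⟩ := Ideal.Quotient.mk_surjective (c : B ⧸ q)
    refine ⟨b, c', ?_, ?_⟩
    · show algebraMap (B ⧸ q) L (Ideal.Quotient.mk q c') ≠ 0
      rw [hc']
      exact (map_ne_zero_iff _ (IsFractionRing.injective (B ⧸ q) L)).mpr (nonZeroDivisors.ne_zero c.2)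
    · show x * algebraMap (B ⧸ q) L (Ideal.Quotient.mk q c') = _
      rw [hc']
      exact h
  · refine le_trans ?_ (trdeg_le_of_injective (IsScalarTower.toAlgHom (A ⧸ q.under A) (B ⧸ q) L)
      (IsFractionRing.injective (B ⧸ q) L))
    rw [← natCast_rdim q, ← Nat.cast_card]
    exact_mod_cast hr

variable {X Y : Scheme.{u}}

/-- A quasi-section through a closed point of a fibre of constant dimension. -/
theorem exists_quasiSection [IrreducibleSpace Y] [IsLocallyNoetherian Y] (f : X ⟶ Y)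
    [LocallyOfFiniteType f] (x : X) (hy : IsGeomUnibranch (Y.presheaf.stalk (f x)))
    (hcl : ∀ x' : X, f x' = f x → x ⤳ x' → x' = x) {e : ℕ} {ζ : X} (hζ : ζ ⤳ x)
    (hη : f ζ = genericPoint Y) {U : X.Opens} (hxU : x ∈ U) (hle : ChainsLE f U (f x) e)
    (hge : HasChain f (closure {ζ}) (f ζ) e) :
    ∃ (T : Scheme.{u}) (i : T ⟶ X), IsImmersion i ∧ IrreducibleSpace ↥T ∧ IsReduced T ∧
      x ∈ Set.range i.base ∧ LocallyOfFiniteType (i ≫ f) ∧ LocallyQuasiFinite (i ≫ f) ∧
      QuasiCompact (i ≫ f) ∧ IsDominant (i ≫ f) := by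
  obtain ⟨V, W, hV, hW, hxW, hWV, hWU⟩ := exists_chart_le f hxU
  let := (f.appLE V W hWV).hom.toAlgebra
  have : Algebra.FiniteType Γ(Y, V) Γ(X, W) := f.finiteType_appLE hV hW hWV
  let n := hW.primeIdealOf ⟨x, hxW⟩
  have hkey : ∀ q, hV.fromSpec (PrimeSpectrum.comap (algebraMap Γ(Y, V) Γ(X, W)) q) =
      f (hW.fromSpec q) := fun q ↦ fromSpec_comap_appLE f hV hW hWV q
  have hclr : ∀ n' : PrimeSpectrum Γ(X, W), n.asIdeal ≤ n'.asIdeal →
      n'.asIdeal.under Γ(Y, V) = n.asIdeal.under Γ(Y, V) → n' = n := fun n' hle' heq ↦ by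
    apply hW.fromSpec.isOpenEmbedding.injective
    rw [hW.fromSpec_primeIdealOf]
    refine hcl _ ?_ ?_
    · rw [← hkey, show PrimeSpectrum.comap (algebraMap Γ(Y, V) Γ(X, W)) n' =
        PrimeSpectrum.comap (algebraMap Γ(Y, V) Γ(X, W)) n from PrimeSpectrum.ext heq, hkey,
        hW.fromSpec_primeIdealOf]
    · have := ((PrimeSpectrum.le_iff_specializes _ _).mp hle').map hW.fromSpec.continuous
      rwa [hW.fromSpec_primeIdealOf] at this
  obtain ⟨t, ht⟩ := exists_quasiFiniteAt_aeval (A := Γ(Y, V)) n (e := e) fun l hl ↦ by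
    refine hle l.length (fun i ↦ hW.fromSpec (l i))
      (fun i ↦ ⟨hWU (hW.range_fromSpec.le ⟨l i, rfl⟩), ?_⟩) fun i ↦ ⟨?_, ?_⟩
    · rw [← hkey, hl i, hkey]
      exact congrArg f (hW.fromSpec_primeIdealOf ⟨x, hxW⟩)
    · exact ((PrimeSpectrum.le_iff_specializes _ _).mp (l.step i).le).map hW.fromSpec.continuous
    · exact fun h ↦ (show l i.castSucc < l i.succ from l.step i).ne
        (hW.fromSpec.isOpenEmbedding.injective h)
  let σ := ULift.{u} (Fin e)
  let M := MvPolynomial σ Γ(Y, V)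
  let ψ : M →+* Γ(X, W) := (MvPolynomial.aeval (R := Γ(Y, V)) t).toRingHom
  -- the generic point
  have hζW : ζ ∈ W := hζ.mem_open W.2 hxW
  let q₀ := hW.primeIdealOf ⟨ζ, hζW⟩
  have hqn : q₀.asIdeal ≤ n.asIdeal := (primeIdealOf_le_iff hW _ _).mpr hζ
  have hgen : GenAt (A := Γ(Y, V)) t q₀.asIdeal := by
    refine genAt_of_quasiFiniteAt t _ ?_ ?_
    · let := ψ.toAlgebra
      have := ht
      exact Algebra.QuasiFiniteAt.of_le hqn
    · rw [Nat.card_eq_fintype_card, Fintype.card_ulift, Fintype.card_fin]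
      exact hge.le (chainsLE_of_specializes f specializes_rfl hζW (chainsLE_rdimIn hV hW hWV hζW))
  rw [genAt_iff_comap] at hgen
  have hp₀ : ∀ p' : PrimeSpectrum Γ(Y, V), q₀.asIdeal.under Γ(Y, V) ≤ p'.asIdeal := fun p' ↦ by
    show (PrimeSpectrum.comap (algebraMap Γ(Y, V) Γ(X, W)) q₀).asIdeal ≤ p'.asIdeal
    rw [PrimeSpectrum.asIdeal_le_asIdeal, PrimeSpectrum.le_iff_specializes]
    refine hV.fromSpec.isOpenEmbedding.isInducing.specializes_iff.mp ?_
    rw [hkey, hW.fromSpec_primeIdealOf]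
    exact hη ▸ genericPoint_specializes _
  -- the factorisation through affine space is open at `n`
  let φ : Spec Γ(X, W) ⟶ Spec (CommRingCat.of M) := Spec.map (CommRingCat.ofHom ψ)
  have : LocallyOfFiniteType φ := by
    refine (HasRingHomProperty.Spec_iff (P := @LocallyOfFiniteType)).mpr ?_
    let := ψ.toAlgebra
    have : IsScalarTower Γ(Y, V) M Γ(X, W) :=
      IsScalarTower.of_algebraMap_eq fun a ↦ ((MvPolynomial.aeval (R := Γ(Y, V)) t).commutes a).symm
    exact RingHom.finiteType_algebraMap.mpr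
      (Algebra.FiniteType.of_restrictScalars_finiteType Γ(Y, V) M Γ(X, W))
  let P : PrimeSpectrum M := PrimeSpectrum.comap ψ n
  have hPC : P.asIdeal.comap MvPolynomial.C = n.asIdeal.under Γ(Y, V) := by
    show (n.asIdeal.comap ψ).comap _ = _
    rw [Ideal.comap_comap]
    congr 1
    exact (MvPolynomial.aeval (R := Γ(Y, V)) t).comp_algebraMap
  have hstalk : IsGeomUnibranch ((Spec (CommRingCat.of M)).presheaf.stalk (φ n)) := by
    show IsGeomUnibranch ((Spec (CommRingCat.of M)).presheaf.stalk P)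
    have hyV : f x ∈ V := hWV hxW
    have hn : n.asIdeal.under Γ(Y, V) = (hV.primeIdealOf ⟨f x, hyV⟩).asIdeal :=
      congrArg PrimeSpectrum.asIdeal (IsAffineOpen.comap_primeIdealOf_appLE V hV W hW hWV hxW)
    obtain ⟨p₁, hp₁, hp₁le, hp₁min, hG⟩ := exists_guAt_of_affine hV hyV hy
    rw [← hn, ← hPC] at hp₁le hp₁min hG
    let e₀ : (Spec (CommRingCat.of M)).presheaf.stalk P ≃+* Localization.AtPrime P.asIdeal :=
      (Spec.stalkIso (CommRingCat.of M) P).commRingCatIsoToRingEquiv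
    let : Algebra M ((Spec (CommRingCat.of M)).presheaf.stalk P) :=
      (e₀.symm.toRingHom.comp (algebraMap M (Localization.AtPrime P.asIdeal))).toAlgebra
    have : IsLocalization.AtPrime ((Spec (CommRingCat.of M)).presheaf.stalk P) P.asIdeal :=
      IsLocalization.isLocalization_of_algEquiv _
        (AlgEquiv.ofRingEquiv (f := e₀.symm) fun _ ↦ rfl :
          Localization.AtPrime P.asIdeal ≃ₐ[M] (Spec (CommRingCat.of M)).presheaf.stalk P)
    exact isGeomUnibranch_localization_mvPolynomial P.asIdeal _ p₁ hp₁le hp₁min hG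
  have hopen : EGA43.IsUnivOpenAt φ n := by
    refine isUnivOpenAt_of_quasiFiniteAt φ n (quasiFiniteAt_SpecMap (CommRingCat.ofHom ψ) n ht)
      hstalk q₀ ((PrimeSpectrum.le_iff_specializes _ _).mp hqn) ⟨⊤, trivial, fun z _ ↦ ?_⟩
    refine (PrimeSpectrum.le_iff_specializes _ z).mp ?_
    show q₀.asIdeal.comap ψ ≤ z.asIdeal
    rw [hgen, Ideal.map_le_iff_le_comap]
    exact hp₀ (PrimeSpectrum.comap MvPolynomial.C z)
  -- the prime of the quasi-section
  obtain ⟨Q, hQ, hQP, hQC, hQg⟩ := exists_prime_algebraic P.asIdeal (q₀.asIdeal.under Γ(Y, V))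
    (hp₀ (PrimeSpectrum.comap MvPolynomial.C P)) fun i ↦ by
      obtain ⟨g, hg, hgl⟩ := exists_polynomial_of_closed n hclr (t i)
      refine ⟨g, ?_, by rw [hPC]; exact hgl⟩
      show (MvPolynomial.aeval (R := Γ(Y, V)) t) (Polynomial.aeval (MvPolynomial.X i) g) ∈ n.asIdeal
      rw [← Polynomial.aeval_algHom_apply, MvPolynomial.aeval_X]
      exact hg
  obtain ⟨q, hqsp, hqQ⟩ := exists_specializes_of_isOpenAt φ (isOpenAt_of_isUnivOpenAt φ n hopen)
    (η := (⟨Q, hQ⟩ : PrimeSpectrum M))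
    ((PrimeSpectrum.le_iff_specializes (⟨Q, hQ⟩ : PrimeSpectrum M) P).mp hQP)
  have hqn' : q.asIdeal ≤ n.asIdeal := (PrimeSpectrum.le_iff_specializes q n).mpr hqsp
  have hqQ' : q.asIdeal.comap ψ = Q := congrArg PrimeSpectrum.asIdeal hqQ
  have hqA : q.asIdeal.under Γ(Y, V) = q₀.asIdeal.under Γ(Y, V) := by
    rw [← hQC, ← hqQ', Ideal.comap_comap]
    exact congrArg (Ideal.comap · q.asIdeal) (MvPolynomial.aeval (R := Γ(Y, V)) t).comp_algebraMap.symm
  -- a neighbourhood where the fibres over affine space are discrete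
  obtain ⟨_, ⟨h, rfl⟩, hnh, hhφ⟩ :=
    PrimeSpectrum.isTopologicalBasis_basic_opens.exists_subset_of_mem_open
      (show n ∈ (φ.quasiFiniteLocus : Set (Spec Γ(X, W))) from
        quasiFiniteAt_SpecMap (CommRingCat.ofHom ψ) n ht) φ.quasiFiniteLocus.2
  let D := Γ(X, W) ⧸ q.asIdeal
  let hD : D := Ideal.Quotient.mk _ h
  let D' := Localization.Away hD
  have hhq : hD ≠ 0 := fun h' ↦ hnh (hqn' (Ideal.Quotient.eq_zero_iff_mem.mp h'))
  have hpow : Submonoid.powers hD ≤ nonZeroDivisors D :=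
    powers_le_nonZeroDivisors_of_noZeroDivisors hhq
  have : IsDomain D' := IsLocalization.isDomain_of_le_nonZeroDivisors D' hpow
  have : Algebra.FiniteType D D' := IsLocalization.finiteType_of_monoid_fg (Submonoid.powers hD) D'
  have : Algebra.FiniteType Γ(Y, V) D := .trans (R := Γ(Y, V)) (S := Γ(X, W)) inferInstance inferInstance
  have : Algebra.FiniteType Γ(Y, V) D' := .trans (R := Γ(Y, V)) (S := D) inferInstance inferInstance
  let π : Γ(X, W) →+* D' := (algebraMap D D').comp (Ideal.Quotient.mk q.asIdeal)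
  have hπA : π.comp (algebraMap Γ(Y, V) Γ(X, W)) = algebraMap Γ(Y, V) D' := by
    rw [IsScalarTower.algebraMap_eq Γ(Y, V) D D', RingHom.comp_assoc]
    rfl
  let jD : Spec (CommRingCat.of D') ⟶ Spec Γ(X, W) := Spec.map (CommRingCat.ofHom π)
  have himm : IsImmersion jD := by
    have h1 : jD = Spec.map (CommRingCat.ofHom (algebraMap D D')) ≫
        Spec.map (CommRingCat.ofHom (Ideal.Quotient.mk q.asIdeal)) := by
      rw [← Spec.map_comp, ← CommRingCat.ofHom_comp]
    have : IsOpenImmersion (Spec.map (CommRingCat.ofHom (algebraMap D D'))) :=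
      IsOpenImmersion.of_isLocalization hD
    have : IsClosedImmersion (Spec.map (CommRingCat.ofHom (Ideal.Quotient.mk q.asIdeal))) :=
      IsClosedImmersion.spec_of_surjective _ Ideal.Quotient.mk_surjective
    rw [h1]; infer_instance
  let i : Spec (CommRingCat.of D') ⟶ X := jD ≫ hW.fromSpec
  let s : Spec (CommRingCat.of D') ⟶ Spec Γ(Y, V) :=
    Spec.map (CommRingCat.ofHom (algebraMap Γ(Y, V) D'))
  have hif : i ≫ f = s ≫ hV.fromSpec := by
    show (jD ≫ hW.fromSpec) ≫ f = _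
    rw [Category.assoc, ← IsAffineOpen.SpecMap_appLE_fromSpec f hV hW hWV, ← Category.assoc,
      ← Spec.map_comp]
    congr 2
  have hmem : ∀ P' : PrimeSpectrum D', q.asIdeal ≤ (PrimeSpectrum.comap π P').asIdeal ∧
      PrimeSpectrum.comap π P' ∈ PrimeSpectrum.basicOpen h := fun P' ↦ by
    refine ⟨fun b hb ↦ ?_, fun h' ↦ P'.isPrime.ne_top (Ideal.eq_top_of_isUnit_mem _ h'
      (IsLocalization.Away.algebraMap_isUnit hD))⟩
    show π b ∈ P'.asIdeal
    rw [show π b = 0 by
      show algebraMap D D' (Ideal.Quotient.mk q.asIdeal b) = 0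
      rw [Ideal.Quotient.eq_zero_iff_mem.mpr hb, map_zero]]
    exact Ideal.zero_mem _
  have hπi : Function.Injective (PrimeSpectrum.comap π) := fun a b h' ↦ jD.isEmbedding.injective h'
  obtain ⟨n', hn'⟩ : n ∈ Set.range (PrimeSpectrum.comap π) := by
    rw [show PrimeSpectrum.comap π = PrimeSpectrum.comap (Ideal.Quotient.mk q.asIdeal) ∘
        PrimeSpectrum.comap (algebraMap D D') from funext fun _ ↦ PrimeSpectrum.comap_comp_apply _ _ _,
      Set.range_comp, PrimeSpectrum.localization_away_comap_range D' hD]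
    have h1 : n ∈ Set.range (PrimeSpectrum.comap (Ideal.Quotient.mk q.asIdeal)) := by
      rw [range_comap_of_surjective _ _ Ideal.Quotient.mk_surjective, Ideal.mk_ker]
      exact hqn'
    obtain ⟨m, hm⟩ := h1
    refine ⟨m, fun h' ↦ hnh ?_, hm⟩
    rw [← hm]
    exact h' 
  -- quasi-finiteness at the point
  obtain ⟨t₀, ht₀⟩ := exists_quasiFiniteAt_aeval (A := Γ(Y, V)) n' (e := 0) fun l hl ↦ by
    by_contra hpos
    have hlen : 0 < l.length := by omega
    let a := PrimeSpectrum.comap π (l (Fin.castSucc ⟨0, hlen⟩))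
    let b := PrimeSpectrum.comap π (l (Fin.succ ⟨0, hlen⟩))
    have hab : a.asIdeal ≤ b.asIdeal := Ideal.comap_mono (l.step ⟨0, hlen⟩).le
    have hover : ∀ j, (PrimeSpectrum.comap π (l j)).asIdeal.under Γ(Y, V) = n.asIdeal.under Γ(Y, V) :=
      fun j ↦ by
        refine congrArg PrimeSpectrum.asIdeal (show PrimeSpectrum.comap (algebraMap Γ(Y, V) Γ(X, W))
          (PrimeSpectrum.comap π (l j)) = PrimeSpectrum.comap (algebraMap Γ(Y, V) Γ(X, W)) n from ?_)
        rw [← hn', ← PrimeSpectrum.comap_comp_apply, ← PrimeSpectrum.comap_comp_apply, hπA]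
        exact hl j
    have hCeq : ∀ c : PrimeSpectrum Γ(X, W), (c.asIdeal.comap ψ).comap MvPolynomial.C =
        c.asIdeal.under Γ(Y, V) := fun c ↦ by
      rw [Ideal.comap_comap]
      exact congrArg (Ideal.comap · c.asIdeal) (MvPolynomial.aeval (R := Γ(Y, V)) t).comp_algebraMap
    have h1 : a.asIdeal.comap ψ = b.asIdeal.comap ψ := by
      refine eq_of_le_of_algebraic (Ideal.comap_mono hab) ((hCeq a).trans
        ((hover _).trans ((hover _).symm.trans (hCeq b).symm))) fun j ↦ ?_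
      obtain ⟨g, hg, hgl⟩ := hQg j
      refine ⟨g, Ideal.comap_mono (hmem _).1 (hqQ'.ge hg), ?_⟩
      rw [hCeq, hover, ← hPC]
      exact hgl
    have h2 : a = b := by
      have hd := (φ.quasiFiniteLocus.ι ≫ φ).isDiscrete_preimage_singleton (φ b)
      have : DiscreteTopology _ := hd.to_subtype
      let a' : φ.quasiFiniteLocus := ⟨a, hhφ (hmem _).2⟩
      let b' : φ.quasiFiniteLocus := ⟨b, hhφ (hmem _).2⟩
      have hs : (⟨a', (Scheme.Hom.comp_apply _ _ _).trans (PrimeSpectrum.ext h1 : φ a = φ b)⟩ :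
          (φ.quasiFiniteLocus.ι ≫ φ) ⁻¹' {φ b}) ⤳ ⟨b', Scheme.Hom.comp_apply _ _ _⟩ := by
        rw [subtype_specializes_iff]
        exact (subtype_specializes_iff _ _).mpr ((PrimeSpectrum.le_iff_specializes a b).mp hab)
      exact congrArg (fun z ↦ φ.quasiFiniteLocus.ι z.1) hs.eq
    exact (show l (Fin.castSucc ⟨0, hlen⟩) < l (Fin.succ ⟨0, hlen⟩) from l.step _).ne (hπi h2)
  have hqf : s.QuasiFiniteAt n' := by
    let M₀ := MvPolynomial (ULift.{u} (Fin 0)) Γ(Y, V)
    let ψ₀ : M₀ →+* D' := (MvPolynomial.aeval (R := Γ(Y, V)) t₀).toRingHom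
    have hs : s = Spec.map (CommRingCat.ofHom ψ₀) ≫
        Spec.map (CommRingCat.ofHom (algebraMap Γ(Y, V) M₀)) := by
      rw [← Spec.map_comp, ← CommRingCat.ofHom_comp]
      exact congrArg (fun r ↦ Spec.map (CommRingCat.ofHom r))
        (MvPolynomial.aeval (R := Γ(Y, V)) t₀).comp_algebraMap.symm
    have : IsFinite (Spec.map (CommRingCat.ofHom (algebraMap Γ(Y, V) M₀))) := by
      rw [IsFinite.SpecMap_iff]
      exact RingHom.finite_algebraMap.mpr
        (Module.Finite.equiv (MvPolynomial.isEmptyAlgEquiv Γ(Y, V) (ULift.{u} (Fin 0))).symm.toLinearEquiv)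
    rw [hs]
    exact Scheme.Hom.quasiFiniteAt_comp_iff.mpr (quasiFiniteAt_SpecMap (CommRingCat.ofHom ψ₀) n' ht₀)
  have : LocallyOfFiniteType s := by
    exact (HasRingHomProperty.Spec_iff (P := @LocallyOfFiniteType)).mpr
      (RingHom.finiteType_algebraMap.mpr inferInstance)
  obtain ⟨SO, hSO, hnO, hOs⟩ := (Spec (CommRingCat.of D')).isBasis_affineOpens.exists_subset_of_mem_open
    (show n' ∈ (s.quasiFiniteLocus : Set ↥(Spec (CommRingCat.of D'))) from hqf) s.quasiFiniteLocus.2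
  obtain ⟨O, hO, rfl⟩ :
    ∃ O : (Spec (CommRingCat.of D')).Opens, IsAffineOpen O ∧ (O : Set _) = SO := hSO
  have : IsAffine (O : Scheme.{u}) := hO
  have : Nonempty ↥(O : Scheme.{u}) := ⟨⟨n', hnO⟩⟩
  have : IsIntegral (O : Scheme.{u}) := isIntegral_of_isOpenImmersion O.ι
  have hcomp : (O.ι ≫ i) ≫ f = (O.ι ≫ s) ≫ hV.fromSpec := by
    rw [Category.assoc, hif, Category.assoc]
  have : LocallyQuasiFinite (O.ι ≫ s) := by
    rw [← (Spec (CommRingCat.of D')).homOfLE_ι (U := O) (V := s.quasiFiniteLocus) hOs, Category.assoc]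
    infer_instance
  refine ⟨O, O.ι ≫ i, inferInstance, inferInstance, inferInstance, ⟨⟨n', hnO⟩, ?_⟩,
    inferInstance, hcomp ▸ inferInstance, hcomp ▸ inferInstance, ?_⟩
  · show (O.ι ≫ i) (⟨n', hnO⟩ : O) = x
    rw [Scheme.Hom.comp_apply, Scheme.Hom.comp_apply]
    exact (congrArg hW.fromSpec hn').trans (hW.fromSpec_primeIdealOf ⟨x, hxW⟩)
  · let b₀ : Spec (CommRingCat.of D') := (⟨⊥, Ideal.isPrime_bot⟩ : PrimeSpectrum D')
    have hb₀ : b₀ ∈ O :=
      (show b₀ ⤳ n' from (PrimeSpectrum.le_iff_specializes _ _).mp bot_le).mem_open O.2 hnO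
    refine ⟨?_⟩
    have h3 : ((O.ι ≫ i) ≫ f) (⟨b₀, hb₀⟩ : O) = genericPoint Y := by
      rw [hcomp, Scheme.Hom.comp_apply, Scheme.Hom.comp_apply, ← hη,
        ← (hkey q₀).trans (congrArg f (hW.fromSpec_primeIdealOf ⟨ζ, hζW⟩))]
      refine congrArg hV.fromSpec (PrimeSpectrum.ext ?_)
      show Ideal.comap (algebraMap Γ(Y, V) D') ⊥ = q₀.asIdeal.under Γ(Y, V)
      rw [← hqA, ← hπA, ← Ideal.comap_comap]
      congr 1
      show Ideal.comap ((algebraMap D D').comp (Ideal.Quotient.mk q.asIdeal)) ⊥ = _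
      rw [← Ideal.comap_comap, ← RingHom.ker_eq_comap_bot,
        (RingHom.injective_iff_ker_eq_bot _).mp (IsLocalization.injective D' hpow),
        ← RingHom.ker_eq_comap_bot, Ideal.mk_ker]
    exact Dense.mono (Set.singleton_subset_iff.mpr ⟨_, h3⟩)
      (dense_iff_closure_eq.mpr (genericPoint_spec Y).def)

end Groth.Agent.Unibranch
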