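import Groth.Agent.Unibranch.ImageDim

/-!
# Fibre dimension of the closure of images of universally open morphisms
-/

set_option autoImplicit false
set_option linter.style.haveILetI false
universe u

open CategoryTheory AlgebraicGeometry Limits Topology TopologicalSpace TensorProduct

namespace Groth.Agent.Unibranch

variable {X S : Scheme.{u}}

/-- Points of a family of images of universally open morphisms lift generisations after base change. -/
theorem exists_lift_point (f : X ⟶ S) {Y : Scheme.{u}} (v : Y ⟶ X) [UniversallyOpen (v ≫ f)]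
    {D : Scheme.{u}} (g : D ⟶ S) (w : ↥(pullback f g)) (hw : pullback.fst f g w ∈ Set.range v)
    {η : D} (hη : η ⤳ pullback.snd f g w) :
    ∃ w', w' ⤳ w ∧ pullback.snd f g w' = η ∧ pullback.fst f g w' ∈ Set.range v := by
  obtain ⟨y, hy⟩ := hw
  obtain ⟨z, hz1, hz2⟩ := Scheme.Pullback.exists_preimage_pullback (f := v) (g := pullback.fst f g) y w hy
  let e := pullbackRightPullbackFstIso f g v
  let π := e.inv ≫ pullback.snd v (pullback.fst f g) ≫ pullback.snd f g
  have hπ : π = pullback.snd (v ≫ f) g := pullbackRightPullbackFstIso_inv_snd_snd _ _ _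
  have he : e.inv (e.hom z) = z := by rw [← Scheme.Hom.comp_apply, Iso.hom_inv_id]; rfl
  have hπz : π (e.hom z) = pullback.snd f g w := by
    rw [Scheme.Hom.comp_apply, Scheme.Hom.comp_apply, he, hz2]
  have hopen : EGA43.IsOpenAt π (e.hom z) := fun U hU ↦ by
    haveI : UniversallyOpen π := hπ ▸ (MorphismProperty.pullback_snd _ _ inferInstance)
    exact π.isOpenMap.image_mem_nhds hU
  obtain ⟨ζ, hζ, hζη⟩ := exists_specializes_of_isOpenAt π hopen (hπz ▸ hη : η ⤳ π (e.hom z))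
  refine ⟨pullback.snd v (pullback.fst f g) (e.inv ζ), ?_, ?_, pullback.fst v (pullback.fst f g) (e.inv ζ), ?_⟩
  · have := (hζ.map e.inv.continuous).map (pullback.snd v (pullback.fst f g)).continuous
    rwa [he, hz2] at this
  · rw [← hζη]; rfl
  · rw [← Scheme.Hom.comp_apply, ← Scheme.Hom.comp_apply (pullback.snd v (pullback.fst f g)),
      pullback.condition]

/-- The dimension of the closure, in the fibres, of a family of images of universally open morphisms
does not drop under generisation. -/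
theorem topologicalKrullDim_closure_images_le (f : X ⟶ S) [LocallyOfFiniteType f] {ι : Type u}
    (Y : ι → Scheme.{u}) (v : ∀ i, Y i ⟶ X) [∀ i, UniversallyOpen (v i ≫ f)] {s s' : S} (hs : s' ⤳ s) :
    topologicalKrullDim ↥(f ⁻¹' {s} ∩ closure ((⋃ i, Set.range (v i)) ∩ f ⁻¹' {s})) ≤
      topologicalKrullDim ↥(f ⁻¹' {s'} ∩ closure ((⋃ i, Set.range (v i)) ∩ f ⁻¹' {s'})) := by
  set M := ⋃ i, Set.range (v i) with hM
  rw [Set.inter_comm (f ⁻¹' {s}), Set.inter_comm (f ⁻¹' {s'})]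
  refine le_of_forall_natCast_le fun k hk ↦ ?_
  rw [natCast_le_topologicalKrullDim_inter_iff f isClosed_closure.isLocallyClosed] at hk ⊢
  obtain ⟨ch, hch, hch'⟩ := hk
  obtain ⟨z, hzdef⟩ : ∃ z, ch 0 = z := ⟨_, rfl⟩
  have hzC : z ∈ closure (M ∩ f ⁻¹' {s}) := hzdef ▸ (hch 0).1
  have hfz : f z = s := hzdef ▸ (hch 0).2
  obtain ⟨V, W, hV, hW, hzW, hWV, -⟩ := exists_chart_le f (U := ⊤) (x := z) trivial
  let := (f.appLE V W hWV).hom.toAlgebra
  have : Algebra.FiniteType Γ(S, V) Γ(X, W) := f.finiteType_appLE hV hW hWV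
  let n := hW.primeIdealOf ⟨z, hzW⟩
  have hsV : s ∈ V := hfz ▸ hWV hzW
  have hs'V : s' ∈ V := hs.mem_open V.2 hsV
  have hfib : ∀ (q : PrimeSpectrum Γ(X, W)) (y : S) (hy : y ∈ V),
      q.asIdeal.under Γ(S, V) = (hV.primeIdealOf ⟨y, hy⟩).asIdeal ↔ f (hW.fromSpec q) = y := fun q y hy ↦ by
    rw [← fromSpec_comap_appLE f hV hW hWV]
    refine ⟨fun h ↦ (congrArg hV.fromSpec (PrimeSpectrum.ext h)).trans (hV.fromSpec_primeIdealOf _), fun h ↦ ?_⟩
    exact congrArg PrimeSpectrum.asIdeal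
      (hV.fromSpec.isOpenEmbedding.injective (h.trans (hV.fromSpec_primeIdealOf ⟨y, hy⟩).symm))
  let P := hV.primeIdealOf ⟨s, hsV⟩
  have hn : n.asIdeal.under Γ(S, V) = P.asIdeal := (hfib n s hsV).mpr (by rw [hW.fromSpec_primeIdealOf]; exact hfz)
  obtain ⟨t, ht, -⟩ := exists_genAt (A := Γ(S, V)) n.asIdeal
  let T : Set (PrimeSpectrum Γ(X, W)) := {q | hW.fromSpec q ∈ M}
  have hdense : ∀ b ∉ n.asIdeal, ∃ q ∈ T, q.asIdeal.under Γ(S, V) = n.asIdeal.under Γ(S, V) ∧ b ∉ q.asIdeal :=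
    fun b hb ↦ by
      obtain ⟨_, ⟨q, hq, rfl⟩, hqM, hqs⟩ := mem_closure_iff.mp hzC
        (hW.fromSpec '' (PrimeSpectrum.basicOpen b : Set (PrimeSpectrum Γ(X, W))))
        (hW.fromSpec.isOpenEmbedding.isOpenMap _ (PrimeSpectrum.basicOpen b).2)
        ⟨n, hb, hW.fromSpec_primeIdealOf _⟩
      exact ⟨q, hqM, ((hfib q s hsV).mpr hqs).trans hn.symm, hq⟩
  obtain ⟨q, hqp, hgen, hqd⟩ := exists_genAt_of_dense_lifts (A := Γ(S, V)) T n t ht
    (hV.primeIdealOf ⟨s', hs'V⟩).asIdeal (by rw [hn]; exact (primeIdealOf_le_iff hV hs'V hsV).mpr hs) hdense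
    (fun D _ _ _ Pr hPr ↦ by
      let g : Spec (CommRingCat.of D) ⟶ S :=
        Spec.map (CommRingCat.ofHom (algebraMap Γ(S, V) D)) ≫ hV.fromSpec
      obtain ⟨j, hj, hjfst, hjsnd, -⟩ := GoingDown.exists_chart (f := f) (g := g) (A := Γ(S, V))
        (B := Γ(X, W)) (D := D) hW.fromSpec hV.fromSpec (𝟙 _)
        (IsAffineOpen.SpecMap_appLE_fromSpec f hV hW hWV).symm (Category.id_comp _)
      have hkey : ∀ Q, pullback.snd f g (j Q) = PrimeSpectrum.comap (algebraMap D _) Q := fun Q ↦ by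
        rw [← Scheme.Hom.comp_apply, hjsnd, Category.comp_id]
        rfl
      have hkey' : ∀ Q, pullback.fst f g (j Q) = hW.fromSpec (PrimeSpectrum.comap
          (Algebra.TensorProduct.includeRight : Γ(X, W) →ₐ[Γ(S, V)] D ⊗[Γ(S, V)] Γ(X, W)).toRingHom Q) :=
        fun Q ↦ (Scheme.Hom.comp_apply _ _ _).symm.trans ((congr($hjfst Q)).trans (Scheme.Hom.comp_apply _ _ _))
      obtain ⟨i, hi⟩ := Set.mem_iUnion.mp (show pullback.fst f g (j Pr) ∈ M by rw [hkey']; exact hPr)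
      let η : Spec (CommRingCat.of D) := (⟨⊥, Ideal.isPrime_bot⟩ : PrimeSpectrum D)
      have hη : η ⤳ pullback.snd f g (j Pr) :=
        (PrimeSpectrum.le_iff_specializes η (pullback.snd f g (j Pr))).mp (bot_le (α := Ideal D))
      obtain ⟨w', hw', hw'η, hw'M⟩ := exists_lift_point f (v i) g (j Pr) hi hη
      obtain ⟨Q, rfl⟩ : w' ∈ Set.range j := hw'.mem_open j.isOpenEmbedding.isOpen_range ⟨Pr, rfl⟩
      refine ⟨Q, (PrimeSpectrum.le_iff_specializes Q Pr).mpr (j.isOpenEmbedding.isInducing.specializes_iff.mp hw'),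
        congrArg PrimeSpectrum.asIdeal ((hkey Q).symm.trans hw'η), ?_⟩
      show hW.fromSpec _ ∈ M
      rw [← hkey']
      exact Set.mem_iUnion.mpr ⟨i, hw'M⟩)
  have hζW : hW.fromSpec q ∈ W := hW.range_fromSpec.le ⟨q, rfl⟩
  have hfζ : f (hW.fromSpec q) = s' := (hfib q s' hs'V).mp hqp
  have hqe : hW.primeIdealOf ⟨hW.fromSpec q, hζW⟩ = q :=
    hW.fromSpec.isOpenEmbedding.injective (hW.fromSpec_primeIdealOf _)
  have hζC : hW.fromSpec q ∈ closure (M ∩ f ⁻¹' {s'}) := mem_closure_iff.mpr fun O hO hqO ↦ by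
    obtain ⟨_, ⟨b, rfl⟩, hqb, hbO⟩ := PrimeSpectrum.isTopologicalBasis_basic_opens.exists_subset_of_mem_open
      (show q ∈ hW.fromSpec ⁻¹' O from hqO) (hO.preimage hW.fromSpec.continuous)
    obtain ⟨q', hq'T, hq'p, hq'b⟩ := hqd b hqb
    exact ⟨hW.fromSpec q', hbO hq'b, hq'T, (hfib q' s' hs'V).mp hq'p⟩
  have hkz : HasChain f (closure {z}) (f z) k := by
    subst hzdef
    exact ⟨ch, fun i ↦ ⟨specializes_iff_mem_closure.mp (specializes_of_chain ch hch' i),
      (hch i).2.trans hfz.symm⟩, hch'⟩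
  have h1 : k ≤ rdimIn f hW hWV (hW.fromSpec q) hζW := by
    refine le_trans (hkz.le (chainsLE_of_specializes f specializes_rfl hzW
      (chainsLE_rdimIn hV hW hWV hzW))) ?_
    refine le_trans (le_of_eq ?_) (le_trans hgen.card_le (le_of_eq ?_))
    · rw [Nat.card_eq_fintype_card, Fintype.card_ulift, Fintype.card_fin]; rfl
    · show rdim Γ(S, V) q.asIdeal = rdim Γ(S, V) _
      rw [hqe]
  rw [← hfζ] at hζC ⊢
  exact (((hasChain_rdimIn hV hW hWV hζW).mono Set.inter_subset_right).anti h1).mono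
    (closure_minimal (Set.singleton_subset_iff.mpr hζC) isClosed_closure)

end Groth.Agent.Unibranch
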