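import Groth.Agent.Unibranch.SectionDVR
import Groth.Agent.GoingDown.Scheme
import Groth.Prelude.Def_MoreMor

/-!
# Generisations of a point of the component through a section
-/

set_option autoImplicit false

universe u

open CategoryTheory AlgebraicGeometry Limits

namespace Groth.Agent.Unibranch

variable {X Y : Scheme.{u}}

/-- Generisations of a geometrically reduced point of a geometrically irreducible component through a
section, at whose generic point the morphism is universally open, stay in the section components. -/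
theorem mem_sectionComponents_of_generization [IsLocallyNoetherian Y] (f : X ⟶ Y) [LocallyOfFiniteType f]
    (g : Y ⟶ X) (hg : g ≫ f = 𝟙 Y) (hgi : GeomIrredComp f g) (y : Y)
    (hopen : ∀ ξ ∈ connectedComponentIn (f.base ⁻¹' {y}) (g.base y),
      connectedComponentIn (f.base ⁻¹' {y}) (g.base y) ⊆ closure {ξ} → EGA43.IsUnivOpenAt f ξ)
    (hred : FBase.IsGeomReducedAt (f.fiberToSpecResidueField (f.base (g.base y))) (f.asFiber (g.base y)))
    {x : X} (hxy : f.base x = y) (hx : x ∈ connectedComponentIn (f.base ⁻¹' {y}) (g.base y))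
    (hredx : FBase.IsGeomReducedAt (f.fiberToSpecResidueField (f.base x)) (f.asFiber x))
    {x' : X} (hx' : x' ⤳ x) : x' ∈ MoreMor.sectionComponents f g := by
  have := LocallyOfFiniteType.isLocallyNoetherian f
  by_cases hne : f.base x' = y
  · show x' ∈ connectedComponentIn (f.base ⁻¹' {f.base x'}) (g.base (f.base x'))
    rw [hne]
    have hgy : f.base (g.base y) = y := by
      have : (g ≫ f).base y = y := by rw [hg]; rfl
      exact this
    have h := mem_connectedComponentIn_of_specializes f (x := g.base y) hx' (hne.trans hgy.symm) (hxy.trans hgy.symm)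
    rw [hgy] at h
    exact h.mp hx
  have hgy : f.base (g.base y) = y := by
    have : (g ≫ f).base y = y := by rw [hg]; rfl
    exact this
  obtain ⟨A, g₁, _, hg₁c, hg₁η⟩ := DvrDom.exists_dvr_through (𝟙 X) x' x (by simpa using hx')
    (by
      intro h
      have h' : x = x' := by simpa using h
      exact hne (h' ▸ hxy))
  let c : ↥(Spec (CommRingCat.of A)) := IsLocalRing.closedPoint A
  let η : ↥(Spec (CommRingCat.of A)) := ⟨⊥, Ideal.isPrime_bot⟩
  have hηc : η ⤳ c := (PrimeSpectrum.le_iff_specializes η c).mp bot_le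
  have hηne : η ≠ c := fun h ↦ IsDiscreteValuationRing.not_a_field A
    (congrArg PrimeSpectrum.asIdeal h).symm
  have hmax : ∀ t : ↥(Spec (CommRingCat.of A)), t ≠ c → t = η := fun t ht ↦ by
    by_contra h
    have : t.asIdeal.IsMaximal := t.2.isMaximal fun hb ↦ h (PrimeSpectrum.ext hb)
    exact ht (PrimeSpectrum.ext (IsLocalRing.eq_maximalIdeal this))
  have hη' : g₁.base η = x' := by
    have h1 := congr($hg₁η (default : PrimeSpectrum (X.residueField x')))
    rw [Scheme.Hom.comp_apply, Scheme.Hom.comp_apply] at h1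
    have h2 : Spec.map (CommRingCat.ofHom A.subtype) (default : PrimeSpectrum (X.residueField x')) = η := by
      refine PrimeSpectrum.ext ?_
      show Ideal.comap A.subtype _ = ⊥
      rw [show (default : PrimeSpectrum (X.residueField x')).asIdeal = ⊥ from
        ((Ideal.eq_bot_or_top _).resolve_right (default : PrimeSpectrum (X.residueField x')).2.ne_top)]
      exact Ideal.comap_bot_of_injective _ Subtype.val_injective
    rw [h2] at h1
    simpa using h1
  let g₀ := g₁ ≫ f
  let f' := pullback.snd f g₀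
  let e := pullback.fst f g₀
  have hsq : IsPullback e f' f g₀ := IsPullback.of_hasPullback f g₀
  let g' : Spec (CommRingCat.of A) ⟶ pullback f g₀ :=
    pullback.lift (g₀ ≫ g) (𝟙 _) (by rw [Category.assoc, hg, Category.comp_id, Category.id_comp])
  have hg' : g' ≫ f' = 𝟙 _ := pullback.lift_snd _ _ _
  have hge : g' ≫ e = g₀ ≫ g := pullback.lift_fst _ _ _
  obtain ⟨hCc, hirrc, hdimc⟩ := hgi.component_baseChange hg hsq hg' hge c
  obtain ⟨-, hirrη, hdimη⟩ := hgi.component_baseChange hg hsq hg' hge η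
  have hyc : g₀.base c = y := by rw [show g₀.base c = f.base (g₁.base c) from rfl, hg₁c]; exact hxy
  have hgc : f'.base (g'.base c) = c := by
    have : (g' ≫ f').base c = c := by rw [hg']; rfl
    exact this
  have hgη : f'.base (g'.base η) = η := by
    have : (g' ≫ f').base η = η := by rw [hg']; rfl
    exact this
  have hegc : e.base (g'.base c) = g.base y := by
    have : (g' ≫ e).base c = (g₀ ≫ g).base c := by rw [hge]
    exact this.trans (congrArg g.base hyc)
  have key : ∀ (a : Y) (q : ↥(f.fiber a)) (x : X), f.fiberι a q = x →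
      FBase.IsGeomReducedAt (f.fiberToSpecResidueField (f.base x)) (f.asFiber x) →
      FBase.IsGeomReducedAt (f.fiberToSpecResidueField a) q := by
    intro a q x hqx h
    obtain rfl : f.base x = a := hqx ▸ (f.range_fiberι a).le ⟨q, rfl⟩
    obtain rfl : q = f.asFiber x := (f.fiberι _).isEmbedding.injective
      (hqx.trans (f.fiberι_asFiber x).symm)
    exact h
  have hredat : ∀ (z : ↥(pullback f g₀)) (p : ↥(f'.fiber c)), f'.fiberι c p = z →
      FBase.IsGeomReducedAt (f.fiberToSpecResidueField (f.base (e.base z))) (f.asFiber (e.base z)) →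
      _root_.IsReduced ((f'.fiber c).presheaf.stalk p) := by
    intro z p hp h
    refine isReduced_stalk_fiber_of_geomReduced hsq c p (key _ _ _ ?_ h)
    rw [← Scheme.Hom.comp_apply, ConsEngine.fiberBC_fiberι, Scheme.Hom.comp_apply, hp]
  -- the tautological point of the base change
  let l : Spec (CommRingCat.of A) ⟶ pullback f g₀ := pullback.lift g₁ (𝟙 _) (by rw [Category.id_comp])
  have hle : l ≫ e = g₁ := pullback.lift_fst _ _ _
  have hlf : ∀ t, f'.base (l.base t) = t := fun t ↦ by
    have : (l ≫ f').base t = t := by rw [show l ≫ f' = 𝟙 _ from pullback.lift_snd _ _ _]; rfl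
    exact this
  have hel : ∀ t, e.base (l.base t) = g₁.base t := fun t ↦ by
    show (l ≫ e).base t = _
    rw [hle]
  obtain ⟨p₁, hp₁⟩ := (f'.range_fiberι c).ge hgc
  obtain ⟨p₂, hp₂⟩ := (f'.range_fiberι c).ge (hlf c)
  have helc : e.base (l.base c) = x := (hel c).trans hg₁c
  have hlC : l.base c ∈ connectedComponentIn (f'.base ⁻¹' {c}) (g'.base c) := by
    rw [hCc, hyc]
    exact ⟨hlf c, show e.base (l.base c) ∈ _ from helc.symm ▸ hx⟩
  have hlift : ∀ ξ ∈ connectedComponentIn (f'.base ⁻¹' {c}) (g'.base c),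
      connectedComponentIn (f'.base ⁻¹' {c}) (g'.base c) ⊆ closure {ξ} → ∃ ζ, ζ ⤳ ξ ∧ f'.base ζ = η := by
    intro ξ hξ hgen
    obtain ⟨ξ₀, hξ₀C, hξ₀y, hξ₀max, hC₀, -⟩ :=
      exists_genericPoint_connectedComponent f (y := y) hgy (hgi.isIrreducible y)
    have hmem : ξ ∈ f'.base ⁻¹' {c} ∩ e.base ⁻¹' connectedComponentIn (f.base ⁻¹' {y}) (g.base y) := by
      rw [← hyc, ← hCc]; exact hξ
    have heξ : e.base ξ = ξ₀ := by
      obtain ⟨w, hw₁, hw₂⟩ := Scheme.Pullback.exists_preimage_pullback (f := f) (g := g₀) ξ₀ c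
        (hξ₀y.trans hyc.symm)
      have hwC : w ∈ connectedComponentIn (f'.base ⁻¹' {c}) (g'.base c) := by
        rw [hCc, hyc]
        exact ⟨hw₂, show e.base w ∈ _ from hw₁.symm ▸ hξ₀C⟩
      have hsp : e.base ξ ⤳ ξ₀ := hw₁ ▸ (specializes_iff_mem_closure.mpr (hgen hwC)).map e.continuous
      refine hξ₀max _ ?_ hsp
      exact connectedComponentIn_subset (f.base ⁻¹' {y}) _ hmem.2
    have hU := hopen (e.base ξ) hmem.2 (by rw [heξ, hC₀]; exact Set.inter_subset_left)
    have hOpen : EGA43.IsOpenAt f'.base ξ := hU (Spec (CommRingCat.of A)) g₀ ξ rfl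
    obtain ⟨ζ, hζ, hfζ⟩ := exists_specializes_of_isOpenAt f' hOpen (η := η)
      (by rw [show f' ξ = c from hmem.1]; exact hηc)
    exact ⟨ζ, hζ, hfζ⟩
  obtain ⟨ζ₁, hfζ₁, huniq₁, -⟩ := exists_generic_component_of_dvr f' g' hg' hηc hηne hmax hirrc p₁
    (by rw [hp₁]; exact mem_connectedComponentIn hgc) (hredat _ p₁ hp₁ (by rw [hegc]; exact hred)) hlift
  obtain ⟨ζ₂, hfζ₂, huniq₂, -⟩ := exists_generic_component_of_dvr f' g' hg' hηc hηne hmax hirrc p₂
    (by rw [hp₂]; exact hlC) (hredat _ p₂ hp₂ (by rw [helc]; exact hredx)) hlift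
  obtain ⟨ξ, hξC, -, -, hCeq, -⟩ := exists_genericPoint_connectedComponent f' hgc hirrc
  obtain ⟨ζ, hζ, -⟩ := hlift ξ hξC (hCeq.le.trans Set.inter_subset_left)
  have hspec : ∀ {w}, w ∈ connectedComponentIn (f'.base ⁻¹' {c}) (g'.base c) → ζ ⤳ w := fun {w} hw ↦
    hζ.trans (specializes_iff_mem_closure.mpr (hCeq.le hw).1)
  have hζ₂ζ : ζ₂ ⤳ ζ := huniq₂ ζ (hspec (by rw [hp₂]; exact hlC))
  have hζ₂g : ζ₂ ⤳ f'.fiberι c p₁ :=
    hζ₂ζ.trans (hspec (by rw [hp₁]; exact mem_connectedComponentIn hgc))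
  have hζ₁₂ : ζ₁ ⤳ ζ₂ := huniq₁ ζ₂ hζ₂g
  have hζ₁g : ζ₁ ⤳ g'.base η := huniq₁ _ (by rw [hp₁]; exact hηc.map g'.continuous)
  have hζ₂x : ζ₂ ⤳ l.base η := huniq₂ _ (by rw [hp₂]; exact hηc.map l.continuous)
  have h1 := mem_connectedComponentIn_of_specializes f' (x := g'.base η) hζ₁g (hfζ₁.trans hgη.symm) rfl
  have h2 := mem_connectedComponentIn_of_specializes f' (x := g'.base η) hζ₁₂ (hfζ₁.trans hgη.symm) (hfζ₂.trans hgη.symm)
  have h3 := mem_connectedComponentIn_of_specializes f' (x := g'.base η) hζ₂x (hfζ₂.trans hgη.symm) ((hlf η).trans hgη.symm)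
  have hmem := h3.mpr (h2.mpr (h1.mp (mem_connectedComponentIn rfl)))
  rw [hgη, (hgi.component_baseChange hg hsq hg' hge η).1] at hmem
  have h4 : x' ∈ connectedComponentIn (f.base ⁻¹' {g₀.base η}) (g.base (g₀.base η)) := by
    exact Eq.mp (congrArg (· ∈ connectedComponentIn (f.base ⁻¹' {g₀.base η}) (g.base (g₀.base η)))
      ((hel η).trans hη')) hmem.2
  show x' ∈ connectedComponentIn (f.base ⁻¹' {f.base x'}) (g.base (f.base x'))
  rwa [show g₀.base η = f.base x' from (show g₀.base η = f.base (g₁.base η) from rfl).trans (congrArg f.base hη')] at h4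

end Groth.Agent.Unibranch
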