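import Groth.Agent.Unibranch.LiftDim
import Groth.Agent.Unibranch.ComponentDim
import Mathlib.RingTheory.Spectrum.Prime.Chevalley

/-!
# The dimension of the closure of a family of images lifts to generisations
-/

set_option linter.style.haveILetI false
universe u

open PrimeSpectrum TensorProduct

namespace Groth.Agent.Unibranch

variable {A B : Type u} [CommRing A] [CommRing B] [Algebra A B] {σ : Type u}

theorem isOpenMap_comap_mvPolynomial_map {K L : Type u} [Field K] [Field L] [Algebra K L] :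
    IsOpenMap (comap (MvPolynomial.map (σ := σ) (algebraMap K L))) := by
  let e := ((Algebra.TensorProduct.comm K (MvPolynomial σ K) L).toRingEquiv.trans
    (MvPolynomial.algebraTensorAlgEquiv (σ := σ) K L).toRingEquiv)
  have h : MvPolynomial.map (σ := σ) (algebraMap K L) =
      (e : MvPolynomial σ K ⊗[K] L →+* MvPolynomial σ L).comp (algebraMap (MvPolynomial σ K) (MvPolynomial σ K ⊗[K] L)) := by
    refine MvPolynomial.ringHom_ext (fun x ↦ ?_) (fun i ↦ ?_) <;>
      simp [e, Algebra.TensorProduct.algebraMap_apply]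
  rw [h, PrimeSpectrum.comap_comp]
  exact isOpenMap_comap_algebraMap_tensorProduct_of_field.comp (PrimeSpectrum.homeomorphOfRingEquiv e).symm.isOpenMap

/-- Two field points with the same kernel lie in a common field. -/
theorem exists_common_field {R L F : Type u} [CommRing R] [Field L] [Field F] (a : R →+* L) (b : R →+* F)
    (h : RingHom.ker a = RingHom.ker b) :
    ∃ (Ω : Type u) (_ : Field Ω) (i : L →+* Ω) (j : F →+* Ω), ∀ x, i (a x) = j (b x) := by
  letI : Algebra (R ⧸ RingHom.ker b) L := (Ideal.Quotient.lift _ a fun x hx ↦ (h.ge hx : x ∈ RingHom.ker a)).toAlgebra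
  letI : Algebra (R ⧸ RingHom.ker b) F := (RingHom.kerLift b).toAlgebra
  haveI : Nontrivial (L ⊗[R ⧸ RingHom.ker b] F) :=
    Algebra.TensorProduct.nontrivial_of_algebraMap_injective_of_isDomain _ _ _
      (RingHom.lift_injective_of_ker_le_ideal _ _ h.le) (RingHom.kerLift_injective b)
  obtain ⟨M, hM⟩ := Ideal.exists_maximal (L ⊗[R ⧸ RingHom.ker b] F)
  exact ⟨_, Ideal.Quotient.field M, (Ideal.Quotient.mk M).comp Algebra.TensorProduct.includeLeftRingHom,
    (Ideal.Quotient.mk M).comp (Algebra.TensorProduct.includeRight : F →ₐ[R ⧸ RingHom.ker b] L ⊗[R ⧸ RingHom.ker b] F).toRingHom,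
    fun x ↦ congrArg (Ideal.Quotient.mk M)
      (((Algebra.TensorProduct.includeRight : F →ₐ[R ⧸ RingHom.ker b] L ⊗[R ⧸ RingHom.ker b] F).commutes
        (Ideal.Quotient.mk _ x)).symm)⟩

set_option maxHeartbeats 1000000 in
/-- If `t` is generic at a prime in the closure of the part over `P` of a set `T` of primes which
lifts generisations universally, then it is generic at a prime in the closure of the part over `p`. -/
theorem exists_genAt_of_dense_lifts (T : Set (PrimeSpectrum B)) (n : PrimeSpectrum B) [Finite σ] (t : σ → B)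
    (ht : GenAt (A := A) t n.asIdeal) (p : Ideal A) [p.IsPrime] (hp : p ≤ n.asIdeal.under A)
    (hdense : ∀ b ∉ n.asIdeal, ∃ q ∈ T, q.asIdeal.under A = n.asIdeal.under A ∧ b ∉ q.asIdeal)
    (hlift : ∀ (V : Type u) [CommRing V] [IsDomain V] [Algebra A V] (P : PrimeSpectrum (V ⊗[A] B)),
      comap (Algebra.TensorProduct.includeRight : B →ₐ[A] V ⊗[A] B).toRingHom P ∈ T →
      ∃ Q, Q.asIdeal ≤ P.asIdeal ∧ Q.asIdeal.comap (algebraMap V (V ⊗[A] B)) = ⊥ ∧
        comap (Algebra.TensorProduct.includeRight : B →ₐ[A] V ⊗[A] B).toRingHom Q ∈ T) :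
    ∃ q : PrimeSpectrum B, q.asIdeal.under A = p ∧ GenAt (A := A) t q.asIdeal ∧
      ∀ b ∉ q.asIdeal, ∃ q' ∈ T, q'.asIdeal.under A = p ∧ b ∉ q'.asIdeal := by
  classical
  let P := n.asIdeal.under A
  let aev : MvPolynomial σ A →+* B := (MvPolynomial.aeval (R := A) t).toRingHom
  let J : Ideal B := sInf {I | ∃ q ∈ T, q.asIdeal.under A = p ∧ q.asIdeal = I}
  suffices hJ : J.comap aev = p.map (MvPolynomial.C : A →+* MvPolynomial σ A) by
    haveI : (p.map (MvPolynomial.C : A →+* MvPolynomial σ A)).IsPrime := by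
      rw [← Ideal.mk_ker (I := p), ← MvPolynomial.ker_map]
      exact RingHom.ker_isPrime _
    obtain ⟨q, hq, hJq, hqe⟩ := Ideal.exists_comap_eq_of_mem_minimalPrimes aev
      (p.map (MvPolynomial.C : A →+* MvPolynomial σ A))
      (by rw [hJ, Ideal.minimalPrimes_eq_subsingleton_self]; rfl)
    have hqp : q.under A = p := by
      ext a
      have h1 := SetLike.ext_iff.mp hqe (MvPolynomial.C a)
      simp only [Ideal.mem_comap, aev, AlgHom.toRingHom_eq_coe, RingHom.coe_coe, MvPolynomial.aeval_C] at h1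
      rw [Ideal.mem_comap, h1, MvPolynomial.mem_map_C_iff]
      refine ⟨fun h => by simpa using h 0, fun h m => ?_⟩
      rw [MvPolynomial.coeff_C]
      split_ifs
      exacts [h, zero_mem _]
    refine ⟨⟨q, hq⟩, hqp, ?_, fun b hb => ?_⟩
    · rw [genAt_iff_comap, show (⟨q, hq⟩ : PrimeSpectrum B).asIdeal.under A = p from hqp]
      exact hqe
    · by_contra hno
      push Not at hno
      exact hb (hJq (Ideal.mem_sInf.mpr fun {I} ⟨q', hq', hq'p, hI⟩ => hI ▸ hno q' hq' hq'p))
  -- a valuation ring of `κ(p)` centred at `P`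
  let K := FractionRing (A ⧸ p)
  have hkerK : ∀ a : A, algebraMap A K a = 0 ↔ a ∈ p := fun a ↦ by
    rw [IsScalarTower.algebraMap_apply A (A ⧸ p) K,
      map_eq_zero_iff _ (IsFractionRing.injective (A ⧸ p) K), Ideal.Quotient.algebraMap_eq,
      Ideal.Quotient.eq_zero_iff_mem]
  let f : Localization.AtPrime P →+* K := IsLocalization.lift (M := P.primeCompl)
    (g := algebraMap A K) fun s ↦ IsUnit.mk0 _ fun h ↦ s.2 (hp ((hkerK _).mp h))
  obtain ⟨Vs, hmem, hloc⟩ := IsLocalRing.exists_factor_valuationRing f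
  let g : A →+* Vs := (f.codRestrict Vs.toSubring hmem).comp (algebraMap A (Localization.AtPrime P))
  let := g.toAlgebra
  have hgK : ∀ a, ((algebraMap A Vs a : Vs) : K) = algebraMap A K a := fun a ↦
    IsLocalization.lift_eq _ a
  have hmax : (IsLocalRing.maximalIdeal Vs).comap (algebraMap A Vs) = P := by
    show (IsLocalRing.maximalIdeal Vs).comap g = P
    have : IsLocalHom (f.codRestrict Vs.toSubring hmem) := hloc
    exact (Ideal.comap_comap _ _).symm.trans
      (by rw [IsLocalRing.maximalIdeal_comap]; exact IsLocalization.AtPrime.under_maximalIdeal _ P)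
  let κV := IsLocalRing.ResidueField Vs
  let κP := FractionRing (A ⧸ P)
  let φP : A ⧸ P →+* κV := Ideal.Quotient.lift P ((IsLocalRing.residue Vs).comp (algebraMap A Vs)) fun a ha ↦ by
    rw [← hmax] at ha
    exact (IsLocalRing.residue_eq_zero_iff _).mpr ha
  have hφP : Function.Injective φP := RingHom.lift_injective_of_ker_le_ideal _ _ fun a ha ↦ by
    rw [← hmax]
    exact (IsLocalRing.residue_eq_zero_iff _).mp ha
  letI : Algebra κP κV := (IsFractionRing.lift hφP).toAlgebra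
  have hκ : ∀ a : A, algebraMap κP κV (algebraMap A κP a) = IsLocalRing.residue Vs (algebraMap A Vs a) := fun a ↦ by
    rw [IsScalarTower.algebraMap_apply A (A ⧸ P) κP]
    exact IsFractionRing.lift_algebraMap hφP _
  let inc : B →+* Vs ⊗[A] B := (Algebra.TensorProduct.includeRight : B →ₐ[A] Vs ⊗[A] B).toRingHom
  refine le_antisymm (fun F₀ hF₀ ↦ ?_) ?_
  swap
  · rw [Ideal.map_le_iff_le_comap]
    refine fun a ha ↦ Ideal.mem_sInf.mpr fun {I} ⟨q', _, hq'p, hI⟩ ↦ ?_
    subst hI
    show MvPolynomial.aeval t (MvPolynomial.C a) ∈ q'.asIdeal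
    rw [MvPolynomial.aeval_C]
    exact hq'p.ge ha
  rw [MvPolynomial.mem_map_C_iff]
  intro m
  rw [← hkerK, ← hgK, ZeroMemClass.coe_eq_zero, ← MvPolynomial.coeff_map]
  suffices hG : MvPolynomial.map (algebraMap A Vs) F₀ = 0 by rw [hG, MvPolynomial.coeff_zero]
  let G := MvPolynomial.map (algebraMap A Vs) F₀
  by_contra hG
  obtain ⟨m₀, hm₀, hdvd⟩ := exists_dvd_forall G.support (MvPolynomial.support_nonempty.mpr hG)
    fun m ↦ G.coeff m
  let c := G.coeff m₀
  have hc : c ≠ 0 := MvPolynomial.mem_support_iff.mp hm₀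
  obtain ⟨G₁, hG₁⟩ : MvPolynomial.C c ∣ G := (MvPolynomial.C_dvd_iff_dvd_coeff c G).mpr fun i ↦ by
    by_cases hi : i ∈ G.support
    · exact hdvd i hi
    · rw [MvPolynomial.notMem_support_iff.mp hi]; exact dvd_zero _
  have hG₁m : G₁.coeff m₀ = 1 := by
    have := congrArg (MvPolynomial.coeff m₀) hG₁
    rw [MvPolynomial.coeff_C_mul] at this
    exact mul_left_cancel₀ hc ((show c = c * G₁.coeff m₀ from this).symm.trans (mul_one c).symm)
  let g₁ := MvPolynomial.map (IsLocalRing.residue Vs) G₁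
  have hg₁ : g₁ ≠ 0 := fun h ↦ by
    have h4 := congrArg (MvPolynomial.coeff m₀) h
    rw [MvPolynomial.coeff_map, hG₁m, map_one, MvPolynomial.coeff_zero] at h4
    exact one_ne_zero h4
  -- where `g₁` is invertible, seen over `κ(P)`
  let R := MvPolynomial σ κP
  let ι : R →+* MvPolynomial σ κV := MvPolynomial.map (algebraMap κP κV)
  have hιi : Function.Injective ι := MvPolynomial.map_injective _ (algebraMap κP κV).injective
  obtain ⟨_, ⟨H, rfl⟩, hH0, hHU⟩ := PrimeSpectrum.isTopologicalBasis_basic_opens.exists_subset_of_mem_open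
    (show (⟨⊥, Ideal.isPrime_bot⟩ : PrimeSpectrum R) ∈ comap ι '' basicOpen g₁ from
      ⟨⟨⊥, Ideal.isPrime_bot⟩, fun h ↦ hg₁ (Ideal.mem_bot.mp h),
        PrimeSpectrum.ext (Ideal.comap_bot_of_injective ι hιi)⟩)
    (isOpenMap_comap_mvPolynomial_map _ (basicOpen g₁).2)
  have hH : H ≠ 0 := fun h ↦ hH0 (by rw [h]; exact zero_mem _)
  obtain ⟨d, hd⟩ := IsLocalization.exist_integer_multiples_of_finset (nonZeroDivisors (A ⧸ P))
    (H.support.image fun i ↦ H.coeff i)
  obtain ⟨d₀, hd₀⟩ := Ideal.Quotient.mk_surjective (d : A ⧸ P)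
  have hcoef : ∀ i, ∃ a : A, algebraMap A κP a = algebraMap A κP d₀ * H.coeff i := fun i ↦ by
    by_cases hi : i ∈ H.support
    · obtain ⟨x, hx⟩ := hd (H.coeff i) (Finset.mem_image_of_mem _ hi)
      obtain ⟨a, rfl⟩ := Ideal.Quotient.mk_surjective x
      refine ⟨a, ?_⟩
      rw [IsScalarTower.algebraMap_apply A (A ⧸ P) κP, IsScalarTower.algebraMap_apply A (A ⧸ P) κP d₀,
        Ideal.Quotient.algebraMap_eq, hd₀]
      simpa [Algebra.smul_def] using hx
    · exact ⟨0, by rw [MvPolynomial.notMem_support_iff.mp hi, map_zero, mul_zero]⟩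
  choose a ha using hcoef
  let Fd : MvPolynomial σ A := ∑ i ∈ H.support, MvPolynomial.monomial i (a i)
  have hFd : MvPolynomial.map (algebraMap A κP) Fd = MvPolynomial.C (algebraMap A κP d₀) * H := by
    conv_rhs => rw [H.as_sum, Finset.mul_sum]
    simp only [Fd, map_sum, MvPolynomial.map_monomial, MvPolynomial.C_mul_monomial, ha]
  have hd₀0 : algebraMap A κP d₀ ≠ 0 := by
    rw [IsScalarTower.algebraMap_apply A (A ⧸ P) κP, Ideal.Quotient.algebraMap_eq, hd₀]
    exact (map_ne_zero_iff _ (IsFractionRing.injective (A ⧸ P) κP)).mpr (nonZeroDivisors.coe_ne_zero d)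
  have hFdn : aev Fd ∉ n.asIdeal := fun h ↦ by
    have h1 : Fd ∈ n.asIdeal.comap aev := h
    rw [(genAt_iff_comap t n.asIdeal).mp ht, MvPolynomial.mem_map_C_iff] at h1
    have h2 : MvPolynomial.map (algebraMap A κP) Fd = 0 := MvPolynomial.ext _ _ fun i ↦ by
      rw [MvPolynomial.coeff_map, MvPolynomial.coeff_zero, IsScalarTower.algebraMap_apply A (A ⧸ P) κP,
        Ideal.Quotient.algebraMap_eq, Ideal.Quotient.eq_zero_iff_mem.mpr (h1 i), map_zero]
    rw [hFd, mul_eq_zero, MvPolynomial.C_eq_zero] at h2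
    exact h2.elim hd₀0 hH
  obtain ⟨b, hbT, hbP, hbF⟩ := hdense _ hFdn
  -- a field point of `B` over `b` which is a point of `R` in the basic open of `H`
  let Fb := FractionRing (B ⧸ b.asIdeal)
  let χb : B →+* Fb := algebraMap B Fb
  have hkerb : ∀ x, χb x = 0 ↔ x ∈ b.asIdeal := fun x ↦ by
    show algebraMap B Fb x = 0 ↔ _
    rw [IsScalarTower.algebraMap_apply B (B ⧸ b.asIdeal) Fb,
      map_eq_zero_iff _ (IsFractionRing.injective (B ⧸ b.asIdeal) Fb), Ideal.Quotient.algebraMap_eq,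
      Ideal.Quotient.eq_zero_iff_mem]
  let ψP : A ⧸ P →+* Fb := Ideal.Quotient.lift P (χb.comp (algebraMap A B)) fun x hx ↦
    (hkerb _).mpr (show x ∈ b.asIdeal.under A by rw [hbP]; exact hx)
  have hψP : Function.Injective ψP := RingHom.lift_injective_of_ker_le_ideal _ _ fun x hx ↦ by
    show x ∈ n.asIdeal.under A
    rw [← hbP]
    exact (hkerb _).mp hx
  let ψ : κP →+* Fb := IsFractionRing.lift hψP
  have hψ : ∀ x : A, ψ (algebraMap A κP x) = χb (algebraMap A B x) := fun x ↦ by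
    rw [IsScalarTower.algebraMap_apply A (A ⧸ P) κP]
    exact IsFractionRing.lift_algebraMap hψP _
  let evb : R →+* Fb := MvPolynomial.eval₂Hom ψ fun i ↦ χb (t i)
  have hevb : evb H ≠ 0 := fun h ↦ by
    have h1 : evb.comp (MvPolynomial.map (algebraMap A κP)) = χb.comp aev := by
      refine MvPolynomial.ringHom_ext (fun x ↦ ?_) (fun i ↦ ?_)
      · rw [RingHom.comp_apply, RingHom.comp_apply, MvPolynomial.map_C]
        exact ((MvPolynomial.eval₂Hom_C ψ _ _).trans (hψ x)).trans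
          (congrArg χb (MvPolynomial.aeval_C t x).symm)
      · rw [RingHom.comp_apply, RingHom.comp_apply, MvPolynomial.map_X]
        exact (MvPolynomial.eval₂Hom_X' ψ _ i).trans (congrArg χb (MvPolynomial.aeval_X t i).symm)
    have h2 := RingHom.congr_fun h1 Fd
    rw [RingHom.comp_apply, hFd, map_mul, h, mul_zero] at h2
    exact hbF ((hkerb _).mp h2.symm)
  obtain ⟨r', hr'g, hr'r⟩ := hHU (show (⟨RingHom.ker evb, RingHom.ker_isPrime _⟩ : PrimeSpectrum R) ∈ basicOpen H from hevb)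
  let L := FractionRing (MvPolynomial σ κV ⧸ r'.asIdeal)
  let χ' : MvPolynomial σ κV →+* L := algebraMap _ L
  have hker' : ∀ x, χ' x = 0 ↔ x ∈ r'.asIdeal := fun x ↦ by
    show algebraMap _ L x = 0 ↔ _
    rw [IsScalarTower.algebraMap_apply _ (MvPolynomial σ κV ⧸ r'.asIdeal) L,
      map_eq_zero_iff _ (IsFractionRing.injective (MvPolynomial σ κV ⧸ r'.asIdeal) L), Ideal.Quotient.algebraMap_eq,
      Ideal.Quotient.eq_zero_iff_mem]
  obtain ⟨Ω, _, iL, iB, hΩ⟩ := exists_common_field (χ'.comp ι) evb (by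
    rw [← RingHom.comap_ker, show RingHom.ker χ' = r'.asIdeal from Ideal.ext hker']
    exact congrArg PrimeSpectrum.asIdeal hr'r)
  let gV : Vs →+* Ω := iL.comp (χ'.comp (MvPolynomial.C.comp (IsLocalRing.residue Vs)))
  letI : Algebra A Ω := (gV.comp (algebraMap A Vs)).toAlgebra
  let gVₐ : Vs →ₐ[A] Ω := { gV with commutes' := fun _ ↦ rfl }
  let χBₐ : B →ₐ[A] Ω :=
    { iB.comp χb with
      commutes' := fun x ↦ by
        show iB (χb (algebraMap A B x)) = gV (algebraMap A Vs x)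
        have h1 := (hΩ (MvPolynomial.C (algebraMap A κP x))).trans
          (congrArg iB ((MvPolynomial.eval₂Hom_C ψ _ _).trans (hψ x)))
        rw [← h1]
        exact congrArg (fun y ↦ iL (χ' y))
          ((MvPolynomial.map_C _ _).trans (congrArg MvPolynomial.C (hκ x))) }
  let Ψ : Vs ⊗[A] B →ₐ[A] Ω := Algebra.TensorProduct.lift gVₐ χBₐ fun _ _ ↦ .all _ _
  let P' : PrimeSpectrum (Vs ⊗[A] B) := ⟨RingHom.ker Ψ.toRingHom, RingHom.ker_isPrime _⟩
  have hP'b : comap inc P' = b := by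
    refine PrimeSpectrum.ext (Ideal.ext fun x ↦ ?_)
    show Ψ (1 ⊗ₜ x) = 0 ↔ x ∈ b.asIdeal
    rw [Algebra.TensorProduct.lift_tmul, map_one, one_mul, ← hkerb]
    exact map_eq_zero_iff iB iB.injective
  obtain ⟨Q, hQle, hQV, hQT⟩ := hlift Vs P' (hP'b.symm ▸ hbT)
  have hQ0 : ∀ v : Vs, algebraMap Vs (Vs ⊗[A] B) v ∈ Q.asIdeal → v = 0 := fun v hv ↦ by
    have h1 : v ∈ Q.asIdeal.comap (algebraMap Vs (Vs ⊗[A] B)) := hv
    rw [hQV] at h1
    exact h1
  have hqp : (comap inc Q).asIdeal.under A = p := by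
    ext x
    rw [← hkerK, ← hgK, ZeroMemClass.coe_eq_zero]
    show (1 : Vs) ⊗ₜ[A] algebraMap A B x ∈ Q.asIdeal ↔ _
    rw [← Algebra.TensorProduct.algebraMap_apply', IsScalarTower.algebraMap_apply A Vs (Vs ⊗[A] B)]
    exact ⟨hQ0 _, fun h ↦ by rw [h, map_zero]; exact Ideal.zero_mem _⟩
  have hF₀Q : inc (aev F₀) ∈ Q.asIdeal :=
    (Ideal.mem_sInf.mp hF₀) ⟨_, hQT, hqp, rfl⟩
  let ev : MvPolynomial σ Vs →+* Vs ⊗[A] B :=
    MvPolynomial.eval₂Hom (algebraMap Vs (Vs ⊗[A] B)) fun i ↦ inc (t i)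
  have hev : ev G ∈ Q.asIdeal := by
    have : ev.comp (MvPolynomial.map (algebraMap A Vs)) = inc.comp aev := by
      refine MvPolynomial.ringHom_ext (fun a ↦ ?_) (fun i ↦ ?_)
      · simp only [RingHom.comp_apply, MvPolynomial.map_C, ev, MvPolynomial.eval₂Hom_C, aev,
          AlgHom.toRingHom_eq_coe, RingHom.coe_coe, MvPolynomial.aeval_C]
        rw [← IsScalarTower.algebraMap_apply A Vs (Vs ⊗[A] B)]
        exact (Algebra.TensorProduct.includeRight.commutes a).symm
      · simp [ev, aev]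
    rw [show ev G = inc (aev F₀) from RingHom.congr_fun this F₀]
    exact hF₀Q
  rw [hG₁, map_mul] at hev
  have hcQ : ev (MvPolynomial.C c) ∉ Q.asIdeal := fun h ↦ hc (hQ0 c (by simpa [ev] using h))
  have h1 : Ψ (ev G₁) = 0 := hQle ((Q.isPrime.mem_or_mem hev).resolve_left hcQ)
  have h2 : Ψ.toRingHom.comp ev = (iL.comp χ').comp (MvPolynomial.map (IsLocalRing.residue Vs)) := by
    refine MvPolynomial.ringHom_ext (fun v ↦ ?_) (fun i ↦ ?_)
    · simp only [RingHom.comp_apply, MvPolynomial.map_C, ev, MvPolynomial.eval₂Hom_C]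
      show Ψ (v ⊗ₜ 1) = _
      rw [Algebra.TensorProduct.lift_tmul, map_one, mul_one]
      rfl
    · simp only [RingHom.comp_apply, MvPolynomial.map_X, ev, MvPolynomial.eval₂Hom_X']
      show Ψ (1 ⊗ₜ t i) = _
      rw [Algebra.TensorProduct.lift_tmul, map_one, one_mul]
      show iB (χb (t i)) = _
      have h1 := (hΩ (MvPolynomial.X i)).trans (congrArg iB (MvPolynomial.eval₂Hom_X' ψ _ i))
      rw [← h1]
      exact congrArg (fun y ↦ iL (χ' y)) (MvPolynomial.map_X _ i)
  have h3 := RingHom.congr_fun h2 G₁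
  rw [RingHom.comp_apply, AlgHom.toRingHom_eq_coe, RingHom.coe_coe, h1, RingHom.comp_apply, eq_comm,
    RingHom.comp_apply, map_eq_zero_iff _ iL.injective] at h3
  exact hr'g ((hker' _).mp h3)

end Groth.Agent.Unibranch
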