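import Groth.Agent.Unibranch.Local
import Groth.Agent.GoingDown.AffineSpace

/-!
# Universal openness of quasi-finite algebras over geometrically unibranch primes
-/

universe u

open PrimeSpectrum TensorProduct

namespace Groth.Agent.Unibranch

theorem isIntegral_algebraMvPolynomial {R S σ : Type u} [CommRing R] [CommRing S] [Algebra R S]
    [Algebra.IsIntegral R S] :
    letI := MvPolynomial.algebraMvPolynomial (σ := σ) (R := R) (S := S)
    Algebra.IsIntegral (MvPolynomial σ R) (MvPolynomial σ S) := by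
  letI := MvPolynomial.algebraMvPolynomial (σ := σ) (R := R) (S := S)
  refine ⟨fun f ↦ ?_⟩
  induction f using MvPolynomial.induction_on with
  | C z =>
    exact IsIntegral.map_of_comp_eq (MvPolynomial.C : R →+* MvPolynomial σ R)
      (MvPolynomial.C : S →+* MvPolynomial σ S)
      (RingHom.ext fun x ↦ algebraMap_mvPolynomial_C (R' := S) x)
      (Algebra.IsIntegral.isIntegral z)
  | add f g hf hg => exact hf.add hg
  | mul_X f i hf =>
    refine hf.mul ?_
    rw [← algebraMap_mvPolynomial_X (R := R) i]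
    exact isIntegral_algebraMap

/-- Openness of `Spec B[T] → Spec R[T]` over a quasi-finite point over a geometrically unibranch
prime. -/
theorem image_comap_mvPolynomial_mem_nhds {R B σ : Type u} [CommRing R] [IsDomain R] [CommRing B]
    [IsDomain B] [Algebra R B] [Algebra.FiniteType R B] [FaithfulSMul R B] [Finite σ]
    (n : PrimeSpectrum B) (hG : GUAt R (n.asIdeal.comap (algebraMap R B)))
    [Algebra.QuasiFiniteAt R n.asIdeal] (N : PrimeSpectrum (MvPolynomial σ B))
    (hN : comap MvPolynomial.C N = n) {s : Set (PrimeSpectrum (MvPolynomial σ B))}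
    (hs : s ∈ nhds N) :
    comap (MvPolynomial.map (algebraMap R B)) '' s ∈
      nhds (comap (MvPolynomial.map (algebraMap R B)) N) := by
  obtain ⟨S', hfg, r, hr, hbij⟩ :=
    Algebra.QuasiFiniteAt.exists_fg_and_exists_notMem_and_awayMap_bijective (R := R) n.asIdeal
  have : Module.Finite R S' := ⟨(Submodule.fg_top _).mpr hfg⟩
  let ν : MvPolynomial σ S' →+* MvPolynomial σ B := MvPolynomial.map S'.val.toRingHom
  have hν : Function.Injective ν := MvPolynomial.map_injective _ Subtype.val_injective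
  have hνC : ν (MvPolynomial.C r) = MvPolynomial.C r.1 := MvPolynomial.map_C _ _
  have hb : Function.Bijective (Localization.awayMap ν (MvPolynomial.C r)) := by
    refine awayMap_bijective_of_forall ν hν _ fun b ↦ ?_
    rw [hνC]
    induction b using MvPolynomial.induction_on with
    | C z =>
      obtain ⟨k, y, hy⟩ := exists_pow_mul_mem_of_awayMap S'.val.toRingHom r hbij z
      refine ⟨k, MvPolynomial.C y, ?_⟩
      rw [← map_pow, ← map_mul]
      exact (MvPolynomial.map_C _ _).trans (congrArg _ hy)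
    | add f g hf hg =>
      obtain ⟨k, y, hy⟩ := hf
      obtain ⟨l, z, hz⟩ := hg
      refine ⟨k + l, MvPolynomial.C r ^ l * y + MvPolynomial.C r ^ k * z, ?_⟩
      rw [map_add, map_mul, map_mul, map_pow, map_pow, hνC, hy, hz]
      ring
    | mul_X f i hf =>
      obtain ⟨k, y, hy⟩ := hf
      refine ⟨k, y * MvPolynomial.X i, ?_⟩
      rw [map_mul, hy, MvPolynomial.map_X, mul_assoc]
  have h2 := image_comap_mem_nhds_of_awayMap ν (MvPolynomial.C r) hb N
    (by rw [hνC]; exact fun h ↦ hr (hN ▸ h)) hs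
  let P' := comap (MvPolynomial.map (algebraMap R B)) N
  have hG' : GUAt R (P'.asIdeal.comap MvPolynomial.C) := by
    convert hG using 1
    rw [← hN]
    show ((N.asIdeal.comap (MvPolynomial.map (algebraMap R B))).comap MvPolynomial.C) = _
    rw [comap_asIdeal, Ideal.comap_comap, Ideal.comap_comap]
    congr 1
    exact RingHom.ext fun x ↦ MvPolynomial.map_C _ _
  obtain ⟨R₁, _, _, _, _, _, _, hrad⟩ := hG'.mvPolynomial P'.asIdeal
  letI := MvPolynomial.algebraMvPolynomial (σ := σ) (R := R) (S := S')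
  haveI : Algebra.IsIntegral (MvPolynomial σ R) (MvPolynomial σ S') :=
    isIntegral_algebraMvPolynomial
  haveI : FaithfulSMul (MvPolynomial σ R) (MvPolynomial σ S') := by
    rw [faithfulSMul_iff_algebraMap_injective, MvPolynomial.algebraMap_def]
    exact MvPolynomial.map_injective _ fun a b h ↦
      FaithfulSMul.algebraMap_injective R B (congrArg Subtype.val h)
  have hcomp : ν.comp (algebraMap (MvPolynomial σ R) (MvPolynomial σ S')) =
      MvPolynomial.map (algebraMap R B) := by
    refine RingHom.ext fun f ↦ ?_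
    show MvPolynomial.map S'.val.toRingHom (MvPolynomial.map (algebraMap R S') f) = _
    rw [MvPolynomial.map_map]
    rfl
  refine Filter.mem_of_superset (image_comap_mem_nhds (R' := R₁) P' hrad.uniqueOver (comap ν N)
    (by rw [← comap_comp_apply, hcomp]) h2) ?_
  rintro _ ⟨_, ⟨q, hq, rfl⟩, rfl⟩
  exact ⟨q, hq, by rw [← comap_comp_apply, hcomp]⟩

variable {A B D : Type u} [CommRing A] [CommRing B] [CommRing D] [Algebra A B] [Algebra A D]

/-- Pointwise version of `GoingDown.isOpenMap_comap_of_mvPolynomial`. -/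
theorem image_comap_mem_nhds_of_mvPolynomial (n : PrimeSpectrum B)
    (H : ∀ (k : ℕ) (P₀ : PrimeSpectrum (MvPolynomial (ULift.{u} (Fin (k + 1))) A ⊗[A] B)),
      comap (Algebra.TensorProduct.includeRight :
        B →ₐ[A] MvPolynomial (ULift.{u} (Fin (k + 1))) A ⊗[A] B).toRingHom P₀ = n →
      ∀ s ∈ nhds P₀, comap (algebraMap (MvPolynomial (ULift.{u} (Fin (k + 1))) A)
        (MvPolynomial (ULift.{u} (Fin (k + 1))) A ⊗[A] B)) '' s ∈
        nhds (comap (algebraMap (MvPolynomial (ULift.{u} (Fin (k + 1))) A)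
          (MvPolynomial (ULift.{u} (Fin (k + 1))) A ⊗[A] B)) P₀))
    (P : PrimeSpectrum (D ⊗[A] B))
    (hP : comap (Algebra.TensorProduct.includeRight : B →ₐ[A] D ⊗[A] B).toRingHom P = n)
    {U : Set (PrimeSpectrum (D ⊗[A] B))} (hU : U ∈ nhds P) :
    comap (algebraMap D (D ⊗[A] B)) '' U ∈ nhds (comap (algebraMap D (D ⊗[A] B)) P) := by
  obtain ⟨_, ⟨s, rfl⟩, hPs, hsU⟩ :=
    PrimeSpectrum.isTopologicalBasis_basic_opens.mem_nhds_iff.mp hU
  refine Filter.mem_of_superset ?_ (Set.image_mono hsU)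
  obtain ⟨S, hS⟩ := TensorProduct.exists_finset s
  let k := S.card
  let M := MvPolynomial (ULift.{u} (Fin (k + 1))) A
  let d : ULift.{u} (Fin (k + 1)) → D := fun i ↦
    if h : (i.down : ℕ) < k then (S.equivFin.symm ⟨i.down, h⟩).1.1 else 0
  let ψ : M →ₐ[A] D := MvPolynomial.aeval d
  letI : Algebra M D := ψ.toRingHom.toAlgebra
  haveI : IsScalarTower A M D := IsScalarTower.of_algebraMap_eq fun a ↦ (ψ.commutes a).symm
  let μ := Algebra.TensorProduct.map (IsScalarTower.toAlgHom A M D) (AlgHom.id A B)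
  let s₀ : M ⊗[A] B := ∑ i : S, MvPolynomial.X ⟨(S.equivFin i).castSucc⟩ ⊗ₜ[A] i.1.2
  have hs₀ : μ s₀ = s := by
    rw [hS, map_sum, ← Finset.sum_coe_sort S]
    refine Finset.sum_congr rfl fun i _ ↦ ?_
    rw [Algebra.TensorProduct.map_tmul]
    congr 1
    show MvPolynomial.aeval d (MvPolynomial.X _) = _
    rw [MvPolynomial.aeval_X]
    simp [d, k]
  let P₀ := comap μ.toRingHom P
  have hP₀ : comap (Algebra.TensorProduct.includeRight : B →ₐ[A] M ⊗[A] B).toRingHom P₀ = n := by
    rw [← hP, ← comap_comp_apply]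
    congr 1
    refine RingHom.ext fun b ↦ ?_
    show μ (1 ⊗ₜ b) = 1 ⊗ₜ b
    rw [Algebra.TensorProduct.map_tmul, map_one]
    rfl
  have h0 := H k P₀ hP₀ (basicOpen s₀) ((basicOpen s₀).2.mem_nhds (fun h ↦ hPs (hs₀ ▸ h)))
  have hq : comap ψ.toRingHom (comap (algebraMap D (D ⊗[A] B)) P) =
      comap (algebraMap M (M ⊗[A] B)) P₀ := by
    rw [← comap_comp_apply, ← comap_comp_apply]
    congr 1
  rw [← hq] at h0
  refine Filter.mem_of_superset ((continuous_comap ψ.toRingHom).continuousAt.preimage_mem_nhds h0) ?_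
  rintro q ⟨Q₀, hQ₀, hQq⟩
  obtain ⟨Q, hQ, hQD, hQM⟩ := GoingDown.exists_prime_tensor Q₀.asIdeal q.asIdeal
    (congrArg PrimeSpectrum.asIdeal hQq).symm
  refine ⟨⟨Q, hQ⟩, fun h ↦ hQ₀ ?_, PrimeSpectrum.ext hQD⟩
  show s₀ ∈ Q₀.asIdeal
  rw [← hQM]
  show μ s₀ ∈ Q
  rw [hs₀]
  exact h

theorem image_comap_mvPolynomial_tensor_mem_nhds [Algebra.FiniteType A B] (q₀ : Ideal B)
    [q₀.IsPrime] (n : PrimeSpectrum B) (hle : q₀ ≤ n.asIdeal)
    (hmin : ∀ p' : Ideal A, p'.IsPrime → q₀.under A ≤ p')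
    (hG : GUAt (A ⧸ q₀.under A) ((n.asIdeal.under A).map (Ideal.Quotient.mk (q₀.under A))))
    [Algebra.QuasiFiniteAt A n.asIdeal] {σ : Type u} [Finite σ]
    (P₀ : PrimeSpectrum (MvPolynomial σ A ⊗[A] B))
    (hP₀ : comap (Algebra.TensorProduct.includeRight :
        B →ₐ[A] MvPolynomial σ A ⊗[A] B).toRingHom P₀ = n)
    {s : Set (PrimeSpectrum (MvPolynomial σ A ⊗[A] B))} (hs : s ∈ nhds P₀) :
    comap (algebraMap (MvPolynomial σ A) (MvPolynomial σ A ⊗[A] B)) '' s ∈
      nhds (comap (algebraMap (MvPolynomial σ A) (MvPolynomial σ A ⊗[A] B)) P₀) := by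
  let p₀ := q₀.under A
  let R := A ⧸ p₀
  let Bb := B ⧸ q₀
  have hinj : Function.Injective (algebraMap R Bb) := by
    rw [injective_iff_map_eq_zero]
    intro x hx
    obtain ⟨a, rfl⟩ := Ideal.Quotient.mk_surjective x
    have h1 : Ideal.Quotient.mk q₀ (algebraMap A B a) = 0 := hx
    exact Ideal.Quotient.eq_zero_iff_mem.mpr
      (Ideal.mem_comap.mpr (Ideal.Quotient.eq_zero_iff_mem.mp h1))
  haveI : FaithfulSMul R Bb := (faithfulSMul_iff_algebraMap_injective _ _).mpr hinj
  haveI : Algebra.FiniteType A Bb := .trans (R := A) (S := B) inferInstance inferInstance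
  haveI : Algebra.FiniteType R Bb := Algebra.FiniteType.of_restrictScalars_finiteType A R Bb
  have hnb : (n.asIdeal.map (Ideal.Quotient.mk q₀)).IsPrime :=
    Ideal.map_isPrime_of_surjective Ideal.Quotient.mk_surjective (by rw [Ideal.mk_ker]; exact hle)
  let nb : PrimeSpectrum Bb := ⟨_, hnb⟩
  have hnb' : nb.asIdeal.comap (Ideal.Quotient.mk q₀) = n.asIdeal := by
    rw [Ideal.comap_map_of_surjective _ Ideal.Quotient.mk_surjective, ← RingHom.ker_eq_comap_bot,
      Ideal.mk_ker, sup_eq_left.mpr hle]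
  have hqA : Algebra.QuasiFiniteAt A nb.asIdeal :=
    .of_surjectiveOnStalks n.asIdeal (Ideal.Quotient.mkₐ A q₀)
      (RingHom.surjectiveOnStalks_of_surjective Ideal.Quotient.mk_surjective) _ hnb'.symm
  haveI : Algebra.QuasiFiniteAt R nb.asIdeal := Algebra.QuasiFinite.of_restrictScalars A R _
  have hGR : GUAt R (nb.asIdeal.comap (algebraMap R Bb)) := by
    convert hG using 1
    refine Ideal.comap_injective_of_surjective (Ideal.Quotient.mk p₀) Ideal.Quotient.mk_surjective ?_
    rw [Ideal.comap_map_of_surjective _ Ideal.Quotient.mk_surjective, ← RingHom.ker_eq_comap_bot,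
      Ideal.mk_ker, sup_eq_left.mpr (Ideal.comap_mono hle), Ideal.under_def, ← hnb',
      Ideal.comap_comap, Ideal.comap_comap]
    rfl
  -- the map onto `Bb[T]`
  let e : MvPolynomial σ A ⊗[A] B ≃ₐ[A] MvPolynomial σ B :=
    (Algebra.TensorProduct.comm A _ _).trans
      ((MvPolynomial.algebraTensorAlgEquiv A B).restrictScalars A)
  let θ : MvPolynomial σ A ⊗[A] B →+* MvPolynomial σ Bb :=
    (MvPolynomial.map (Ideal.Quotient.mk q₀)).comp e.toRingEquiv.toRingHom
  have hθs : Function.Surjective θ :=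
    (MvPolynomial.map_surjective _ Ideal.Quotient.mk_surjective).comp e.surjective
  have hθR : θ.comp (Algebra.TensorProduct.includeRight :
      B →ₐ[A] MvPolynomial σ A ⊗[A] B).toRingHom = MvPolynomial.C.comp (Ideal.Quotient.mk q₀) := by
    refine RingHom.ext fun b ↦ ?_
    show MvPolynomial.map _ (MvPolynomial.algebraTensorAlgEquiv A B (b ⊗ₜ 1)) = _
    simp [Algebra.smul_def]
  have hθL : θ.comp (algebraMap (MvPolynomial σ A) (MvPolynomial σ A ⊗[A] B)) =
      (MvPolynomial.map (algebraMap R Bb)).comp (MvPolynomial.map (Ideal.Quotient.mk p₀)) := by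
    refine RingHom.ext fun f ↦ ?_
    show MvPolynomial.map _ (MvPolynomial.algebraTensorAlgEquiv A B (1 ⊗ₜ f)) =
      MvPolynomial.map _ (MvPolynomial.map _ f)
    rw [MvPolynomial.algebraTensorAlgEquiv_tmul, one_smul, MvPolynomial.map_map,
      MvPolynomial.map_map]
    rfl
  obtain ⟨N, hN⟩ : P₀ ∈ Set.range (comap θ) := by
    rw [range_comap_of_surjective _ _ hθs, mem_zeroLocus, SetLike.coe_subset_coe]
    have h1 : RingHom.ker θ ≤ (q₀.map (MvPolynomial.C : B →+* MvPolynomial σ B)).map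
        e.toRingEquiv.symm.toRingHom := by
      intro x hx
      have : e x ∈ RingHom.ker (MvPolynomial.map (σ := σ) (Ideal.Quotient.mk q₀)) := hx
      rw [MvPolynomial.ker_map, Ideal.mk_ker] at this
      simpa using Ideal.mem_map_of_mem e.toRingEquiv.symm.toRingHom this
    refine h1.trans (Ideal.map_le_iff_le_comap.mpr (Ideal.map_le_iff_le_comap.mpr fun b hb ↦ ?_))
    rw [Ideal.mem_comap, Ideal.mem_comap]
    have h2 : e.toRingEquiv.symm.toRingHom (MvPolynomial.C b) =
        (1 : MvPolynomial σ A) ⊗ₜ[A] b := by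
      show e.symm (MvPolynomial.C b) = _
      rw [AlgEquiv.symm_apply_eq]
      show _ = MvPolynomial.algebraTensorAlgEquiv A B (b ⊗ₜ 1)
      simp [Algebra.smul_def]
    rw [h2]
    have := hle hb
    rw [← hP₀] at this
    exact this
  have hNn : comap MvPolynomial.C N = nb := by
    refine PrimeSpectrum.ext (Ideal.comap_injective_of_surjective _ Ideal.Quotient.mk_surjective ?_)
    rw [hnb', ← hP₀, ← hN, comap_asIdeal, comap_asIdeal, comap_asIdeal, Ideal.comap_comap,
      Ideal.comap_comap, hθR]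
  have h3 := image_comap_mvPolynomial_mem_nhds nb hGR N hNn
    ((continuous_comap θ).continuousAt.preimage_mem_nhds (hN ▸ hs : s ∈ nhds (comap θ N)))
  -- `Spec R[T] → Spec A[T]` is a homeomorphism
  let π : MvPolynomial σ A →+* MvPolynomial σ R := MvPolynomial.map (Ideal.Quotient.mk p₀)
  have hπs : Function.Surjective π := MvPolynomial.map_surjective _ Ideal.Quotient.mk_surjective
  have hπr : Set.range (comap π) = Set.univ := by
    refine Set.eq_univ_of_forall fun q ↦ ?_
    rw [range_comap_of_surjective _ _ hπs, mem_zeroLocus, SetLike.coe_subset_coe,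
      MvPolynomial.ker_map, Ideal.mk_ker, Ideal.map_le_iff_le_comap]
    exact hmin _ (q.isPrime.comap _)
  have hπo : Topology.IsOpenEmbedding (comap π) :=
    ⟨(isClosedEmbedding_comap_of_surjective _ _ hπs).isEmbedding, hπr ▸ isOpen_univ⟩
  have h4 := hπo.isOpenMap.image_mem_nhds h3
  rw [← comap_comp_apply, ← hθL, comap_comp_apply, hN] at h4
  refine Filter.mem_of_superset h4 ?_
  rintro _ ⟨_, ⟨z, hz, rfl⟩, rfl⟩
  refine ⟨comap θ z, hz, ?_⟩
  rw [← comap_comp_apply, ← comap_comp_apply, hθL]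

/-- Universal openness at a quasi-finite point over a geometrically unibranch prime. -/
theorem image_comap_tensor_mem_nhds [Algebra.FiniteType A B] (q₀ : Ideal B) [q₀.IsPrime]
    (n : PrimeSpectrum B) (hle : q₀ ≤ n.asIdeal)
    (hmin : ∀ p' : Ideal A, p'.IsPrime → q₀.under A ≤ p')
    (hG : GUAt (A ⧸ q₀.under A) ((n.asIdeal.under A).map (Ideal.Quotient.mk (q₀.under A))))
    [Algebra.QuasiFiniteAt A n.asIdeal] (P : PrimeSpectrum (D ⊗[A] B))
    (hP : comap (Algebra.TensorProduct.includeRight : B →ₐ[A] D ⊗[A] B).toRingHom P = n)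
    {U : Set (PrimeSpectrum (D ⊗[A] B))} (hU : U ∈ nhds P) :
    comap (algebraMap D (D ⊗[A] B)) '' U ∈ nhds (comap (algebraMap D (D ⊗[A] B)) P) :=
  image_comap_mem_nhds_of_mvPolynomial n
    (fun _ P₀ hP₀ _ hs ↦ image_comap_mvPolynomial_tensor_mem_nhds q₀ n hle hmin hG P₀ hP₀ hs)
    P hP hU

end Groth.Agent.Unibranch
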