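import Groth.Agent.Unibranch.TrDeg
import Groth.Agent.Unibranch.UnivOpen
import Groth.Agent.GoingDown.Algebra

/-!
# Generic lifts over an integral extension from those over its finite subextensions
-/

universe u

open TensorProduct

namespace Groth.Agent.Unibranch

variable {A B N : Type u} [CommRing A] [CommRing B] [CommRing N] [Algebra A B] [Algebra A N]

/-- In a fibre of a base change the generisations of the image lift. -/
theorem exists_le_over_fibre (n' : PrimeSpectrum (N ⊗[A] B)) (n₁ : PrimeSpectrum B)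
    (hle : n₁.asIdeal ≤
      n'.asIdeal.comap (Algebra.TensorProduct.includeRight : B →ₐ[A] N ⊗[A] B).toRingHom)
    (hn : n₁.asIdeal.under A = (n'.asIdeal.under N).under A) :
    ∃ z : PrimeSpectrum (N ⊗[A] B), z.asIdeal ≤ n'.asIdeal ∧
      z.asIdeal.comap (Algebra.TensorProduct.includeRight : B →ₐ[A] N ⊗[A] B).toRingHom = n₁.asIdeal ∧
      z.asIdeal.under N = n'.asIdeal.under N := by
  let P' := n'.asIdeal.under N
  let p : PrimeSpectrum A := ⟨P'.under A, inferInstance⟩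
  let κ := p.asIdeal.ResidueField
  let K' := P'.ResidueField
  let L := n'.asIdeal.ResidueField
  let inc : B →ₐ[A] N ⊗[A] B := Algebra.TensorProduct.includeRight
  let ι₁ : κ →+* K' := Ideal.ResidueField.map p.asIdeal P' (algebraMap A N) rfl
  let ι₂ : K' →+* L := Ideal.ResidueField.map P' n'.asIdeal (algebraMap N (N ⊗[A] B)) rfl
  let : Algebra κ K' := ι₁.toAlgebra
  let : Algebra K' L := ι₂.toAlgebra
  let : Algebra κ L := (ι₂.comp ι₁).toAlgebra
  have : IsScalarTower κ K' L := IsScalarTower.of_algebraMap_eq fun _ ↦ rfl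
  have hK : ∀ a, algebraMap A K' a = ι₁ (algebraMap A κ a) := fun a ↦ by
    rw [Ideal.ResidueField.map_algebraMap, ← IsScalarTower.algebraMap_apply A N K']
  have hL : ∀ m : N, ι₂ (algebraMap N K' m) = algebraMap (N ⊗[A] B) L (algebraMap N (N ⊗[A] B) m) :=
    fun m ↦ Ideal.ResidueField.map_algebraMap _ _ _ _ _
  have : IsScalarTower A κ K' := IsScalarTower.of_algebraMap_eq hK
  have : IsScalarTower A κ L := IsScalarTower.of_algebraMap_eq fun a ↦ by
    show _ = ι₂ (ι₁ (algebraMap A κ a))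
    rw [← hK, IsScalarTower.algebraMap_apply A N K', hL,
      ← IsScalarTower.algebraMap_apply A N (N ⊗[A] B),
      ← IsScalarTower.algebraMap_apply A (N ⊗[A] B) L]
  let Bk := p.asIdeal.Fiber B
  let uB : B →ₐ[A] L := (IsScalarTower.toAlgHom A (N ⊗[A] B) L).comp inc
  let χ₀ : Bk →ₐ[κ] L := Algebra.TensorProduct.lift (Algebra.ofId κ L) uB fun _ _ ↦ Commute.all _ _
  let χ : Bk ⊗[κ] K' →ₐ[κ] L :=
    Algebra.TensorProduct.lift χ₀ (IsScalarTower.toAlgHom κ K' L) fun _ _ ↦ Commute.all _ _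
  let c : PrimeSpectrum (Bk ⊗[κ] K') := ⟨RingHom.ker χ.toRingHom, RingHom.ker_isPrime _⟩
  let o := PrimeSpectrum.preimageOrderIsoFiber A B p
  have hn' : PrimeSpectrum.comap (algebraMap A B) n₁ = p := PrimeSpectrum.ext hn
  let b₁ := o ⟨n₁, hn'⟩
  let b' := PrimeSpectrum.comap (algebraMap Bk (Bk ⊗[κ] K')) c
  have hsymm : ∀ b : PrimeSpectrum Bk, (o.symm b).1.asIdeal =
      b.asIdeal.comap (Algebra.TensorProduct.includeRight : B →ₐ[A] Bk).toRingHom := fun b ↦ rfl
  have hb : b₁ ≤ b' := by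
    rw [← o.symm.le_iff_le]
    show (o.symm (o ⟨n₁, hn'⟩)).1.asIdeal ≤ (o.symm b').1.asIdeal
    rw [OrderIso.symm_apply_apply, hsymm]
    intro b hb
    show χ (((1 : κ) ⊗ₜ[A] b) ⊗ₜ[κ] (1 : K')) = 0
    rw [Algebra.TensorProduct.lift_tmul, Algebra.TensorProduct.lift_tmul, map_one, map_one, mul_one,
      one_mul]
    exact Ideal.algebraMap_residueField_eq_zero.mpr (hle hb)
  have : Algebra.HasGoingDown Bk (Bk ⊗[κ] K') := .of_flat
  have : c.asIdeal.IsPrime := c.2
  have : c.asIdeal.LiesOver b'.asIdeal := ⟨rfl⟩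
  obtain ⟨c₁, hc₁, hc₁p, hc₁o⟩ :=
    Ideal.exists_ideal_le_liesOver_of_le (S := Bk ⊗[κ] K') (p := b₁.asIdeal) (q := b'.asIdeal)
      c.asIdeal hb
  let lN : N →ₐ[A] Bk ⊗[κ] K' :=
    ((Algebra.TensorProduct.includeRight : K' →ₐ[κ] Bk ⊗[κ] K').restrictScalars A).comp
      (IsScalarTower.toAlgHom A N K')
  let lB : B →ₐ[A] Bk ⊗[κ] K' :=
    (IsScalarTower.toAlgHom A Bk (Bk ⊗[κ] K')).comp Algebra.TensorProduct.includeRight
  let Ψ : N ⊗[A] B →ₐ[A] Bk ⊗[κ] K' := Algebra.TensorProduct.lift lN lB fun a b ↦ Commute.all (lN a) (lB b)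
  have hχΨ : ∀ x, χ (Ψ x) = algebraMap (N ⊗[A] B) L x := fun x ↦ by
    induction x using TensorProduct.induction_on with
    | zero => simp
    | add a b ha hb => rw [map_add, map_add, map_add, ha, hb]
    | tmul m b =>
      rw [Algebra.TensorProduct.lift_tmul, map_mul]
      show χ ((1 : Bk) ⊗ₜ algebraMap N K' m) * χ (((1 : κ) ⊗ₜ[A] b) ⊗ₜ[κ] (1 : K')) = _
      rw [Algebra.TensorProduct.lift_tmul, Algebra.TensorProduct.lift_tmul,
        Algebra.TensorProduct.lift_tmul, map_one, map_one, map_one, one_mul, one_mul, mul_one,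
        show m ⊗ₜ[A] b = algebraMap N (N ⊗[A] B) m * (1 : N) ⊗ₜ[A] b by simp, map_mul]
      congr 1
      exact hL m
  refine ⟨⟨c₁.comap Ψ.toRingHom, hc₁p.comap _⟩, fun x hx ↦ ?_, ?_, ?_⟩
  · have := hc₁ hx
    rw [← Ideal.algebraMap_residueField_eq_zero (I := n'.asIdeal), ← hχΨ]
    exact this
  · rw [Ideal.comap_comap]
    have h1 : Ψ.toRingHom.comp inc.toRingHom = lB.toRingHom :=
      RingHom.ext fun b ↦ by
        show Ψ ((1 : N) ⊗ₜ b) = lB b
        rw [Algebra.TensorProduct.lift_tmul, map_one, one_mul]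
    refine (congrArg (fun f ↦ c₁.comap f) h1).trans ?_
    show c₁.comap ((algebraMap Bk (Bk ⊗[κ] K')).comp
      (Algebra.TensorProduct.includeRight : B →ₐ[A] Bk).toRingHom) = _
    rw [← Ideal.comap_comap, ← Ideal.under_def, ← hc₁o.over, ← hsymm, OrderIso.symm_apply_apply]
  · ext m
    show Ψ (algebraMap N (N ⊗[A] B) m) ∈ c₁ ↔ m ∈ P'
    rw [Algebra.TensorProduct.algebraMap_apply, Algebra.algebraMap_self_apply,
      Algebra.TensorProduct.lift_tmul, map_one, mul_one]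
    show (Algebra.TensorProduct.includeRight (R := κ) (A := Bk)) (algebraMap N K' m) ∈ c₁ ↔ _
    constructor
    · intro h
      by_contra hm
      exact hc₁p.ne_top (Ideal.eq_top_of_isUnit_mem _ h
        ((IsUnit.mk0 _ fun h0 ↦ hm (Ideal.algebraMap_residueField_eq_zero.mp h0)).map _))
    · intro hm
      rw [Ideal.algebraMap_residueField_eq_zero.mpr hm, map_zero]
      exact c₁.zero_mem

/-- Independence over a domain persists over an integral extension. -/
theorem genAt_of_isIntegral {N₀ T₀ T σ : Type u} [CommRing N₀] [IsDomain N] [Algebra N₀ N]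
    [Algebra.IsIntegral N₀ N] [CommRing T₀] [Algebra N₀ T₀] [CommRing T] [Algebra N T] [Finite σ]
    (j : T₀ →+* T) (hj : j.comp (algebraMap N₀ T₀) = (algebraMap N T).comp (algebraMap N₀ N))
    (t : σ → T₀) (R : Ideal T) [R.IsPrime] (hR : R.under N = ⊥)
    (hN₀ : (R.comap j).under N₀ = ⊥) (h : GenAt (A := N₀) t (R.comap j)) :
    GenAt (A := N) (fun i ↦ j (t i)) R := by
  rw [genAt_iff_comap, hR, Ideal.map_bot]
  rw [genAt_iff_comap, hN₀, Ideal.map_bot] at h
  let := MvPolynomial.algebraMvPolynomial (σ := σ) (R := N₀) (S := N)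
  have := isIntegral_algebraMvPolynomial (R := N₀) (S := N) (σ := σ)
  have : Nontrivial N₀ := (algebraMap N₀ N).domain_nontrivial
  let Q := R.comap (MvPolynomial.aeval (R := N) fun i ↦ j (t i)).toRingHom
  refine Ideal.eq_bot_of_comap_eq_bot (R := MvPolynomial σ N₀) (I := Q) ?_
  have hcomp : (MvPolynomial.aeval (R := N) fun i ↦ j (t i)).toRingHom.comp
      (algebraMap (MvPolynomial σ N₀) (MvPolynomial σ N)) =
      j.comp (MvPolynomial.aeval (R := N₀) t).toRingHom := by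
    refine MvPolynomial.ringHom_ext (fun a ↦ ?_) fun i ↦ ?_
    · show MvPolynomial.aeval _ (MvPolynomial.map (algebraMap N₀ N) (MvPolynomial.C a)) =
        j (MvPolynomial.aeval t (MvPolynomial.C a))
      rw [MvPolynomial.map_C, MvPolynomial.aeval_C, MvPolynomial.aeval_C]
      exact (RingHom.congr_fun hj a).symm
    · show MvPolynomial.aeval _ (MvPolynomial.map (algebraMap N₀ N) (MvPolynomial.X i)) =
        j (MvPolynomial.aeval t (MvPolynomial.X i))
      rw [MvPolynomial.map_X, MvPolynomial.aeval_X, MvPolynomial.aeval_X]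
  show Q.comap (algebraMap (MvPolynomial σ N₀) (MvPolynomial σ N)) = ⊥
  rw [Ideal.comap_comap, hcomp, ← Ideal.comap_comap]
  exact h

theorem exists_finite_subalgebra_range [Algebra.IsIntegral A N] (x : N ⊗[A] B) :
    ∃ N₀ : Subalgebra A N, Module.Finite A N₀ ∧
      x ∈ Set.range (Algebra.TensorProduct.map N₀.val (AlgHom.id A B)) := by
  classical
  obtain ⟨S, rfl⟩ := TensorProduct.exists_finset x
  let N₀ := Algebra.adjoin A ((S.image Prod.fst : Finset N) : Set N)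
  refine ⟨N₀, Module.Finite.iff_fg.mpr
    (fg_adjoin_of_finite (Finset.finite_toSet _) fun a _ ↦ Algebra.IsIntegral.isIntegral a), ?_⟩
  show _ ∈ (Algebra.TensorProduct.map N₀.val (AlgHom.id A B)).range
  refine sum_mem fun i hi ↦ ?_
  exact ⟨(⟨i.1, Algebra.subset_adjoin (Finset.mem_coe.mpr (Finset.mem_image_of_mem _ hi))⟩ : N₀) ⊗ₜ i.2,
    Algebra.TensorProduct.map_tmul _ _ _ _⟩

/-- Generic lifts over all finite subextensions give one over the whole extension. -/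
theorem exists_genAt_of_finite [IsDomain N] [Algebra.IsIntegral A N] [Algebra.FiniteType A B]
    {σ : Type u} [Finite σ] (t : σ → B) (n' : PrimeSpectrum (N ⊗[A] B))
    (H : ∀ N₀ : Subalgebra A N, Module.Finite A N₀ → ∃ q : PrimeSpectrum (N₀ ⊗[A] B),
      q.asIdeal ≤ n'.asIdeal.comap (Algebra.TensorProduct.map N₀.val (AlgHom.id A B)).toRingHom ∧
      q.asIdeal.under N₀ = ⊥ ∧ GenAt (A := N₀) (fun i ↦ (1 : N₀) ⊗ₜ[A] t i) q.asIdeal) :
    ∃ Q : PrimeSpectrum (N ⊗[A] B), Q.asIdeal ≤ n'.asIdeal ∧ Q.asIdeal.under N = ⊥ ∧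
      GenAt (A := N) (fun i ↦ (1 : N) ⊗ₜ[A] t i) Q.asIdeal := by
  classical
  let K := FractionRing N
  let C := K ⊗[A] B
  have : IsNoetherianRing C := Algebra.FiniteType.isNoetherianRing K C
  let jK : N ⊗[A] B →ₐ[A] C :=
    Algebra.TensorProduct.map (IsScalarTower.toAlgHom A N K) (AlgHom.id A B)
  let S : Set (Ideal (N ⊗[A] B)) :=
    {Q | (∃ P₀ ∈ minimalPrimes C, P₀.comap jK.toRingHom = Q) ∧ Q.under N = ⊥ ∧
      GenAt (A := N) (fun i ↦ (1 : N) ⊗ₜ[A] t i) Q}
  have hS : S.Finite := ((minimalPrimes.finite_of_isNoetherianRing C).image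
    fun P₀ ↦ P₀.comap jK.toRingHom).subset fun Q hQ ↦ by
      obtain ⟨P₀, hP₀, rfl⟩ := hQ.1
      exact ⟨P₀, hP₀, rfl⟩
  by_contra hno
  push Not at hno
  have hbad : ∀ Q : S, ∃ N₀ : Subalgebra A N, Module.Finite A N₀ ∧ ∃ b : N₀ ⊗[A] B,
      Algebra.TensorProduct.map N₀.val (AlgHom.id A B) b ∈ Q.1 ∧
      Algebra.TensorProduct.map N₀.val (AlgHom.id A B) b ∉ n'.asIdeal := by
    rintro ⟨Q, ⟨P₀, hP₀, hP₀Q⟩, hQN, hQg⟩
    have hQp : Q.IsPrime := hP₀Q ▸ hP₀.1.1.comap jK.toRingHom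
    obtain ⟨b, hbQ, hbn⟩ := SetLike.not_le_iff_exists.mp fun h ↦ hno ⟨Q, hQp⟩ h hQN hQg
    obtain ⟨N₀, hN₀, b₀, rfl⟩ := exists_finite_subalgebra_range b
    exact ⟨N₀, hN₀, b₀, hbQ, hbn⟩
  choose F hF b hbQ hbn using hbad
  have := hS.fintype
  let G := (Finset.univ.image F).biUnion fun N₀ ↦
    if h : Module.Finite A N₀ then (Module.Finite.fg_top (R := A) (M := N₀)).choose.image Subtype.val
    else ∅
  let N₁ := Algebra.adjoin A (G : Set N)
  have hN₁ : Module.Finite A N₁ := Module.Finite.iff_fg.mpr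
    (fg_adjoin_of_finite (Finset.finite_toSet _) fun a _ ↦ Algebra.IsIntegral.isIntegral a)
  have hle : ∀ Q, F Q ≤ N₁ := fun Q a ha ↦ by
    have h1 : (⟨a, ha⟩ : F Q) ∈ (⊤ : Submodule A (F Q)) := trivial
    rw [← (Module.Finite.fg_top (R := A) (M := F Q)).choose_spec] at h1
    refine Submodule.span_induction (p := fun (x : F Q) _ ↦ (x : N) ∈ N₁) (fun x hx ↦ ?_) (zero_mem N₁)
      (fun x y _ _ hx hy ↦ add_mem hx hy) (fun r x _ hx ↦ Subalgebra.smul_mem _ hx r) h1
    refine Algebra.subset_adjoin (Finset.mem_coe.mpr (Finset.mem_biUnion.mpr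
      ⟨F Q, Finset.mem_image_of_mem _ (Finset.mem_univ _), ?_⟩))
    rw [dif_pos (hF Q)]
    exact Finset.mem_image_of_mem _ hx
  obtain ⟨q, hqn, hqN, hqg⟩ := H N₁ hN₁
  let j₁ : N₁ ⊗[A] B →ₐ[A] N ⊗[A] B := Algebra.TensorProduct.map N₁.val (AlgHom.id A B)
  have : Algebra.IsIntegral N₁ N := Algebra.IsIntegral.tower_top (R := A)
  obtain ⟨R, hRp, hRN, hRq⟩ := GoingDown.exists_prime_tensor (A := A) (B := B) (D := N₁) (R := N)
    q.asIdeal (⊥ : Ideal N) (by
      rw [← RingHom.ker_eq_comap_bot, (RingHom.injective_iff_ker_eq_bot _).mp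
        (show Function.Injective (algebraMap N₁ N) from Subtype.val_injective)]
      exact hqN.symm)
  have hRN : R.under N = ⊥ := hRN
  obtain ⟨P, hP, hPK, hPR⟩ := GoingDown.exists_prime_tensor (A := A) (B := B) (D := N) (R := K)
    R (⊥ : Ideal K) (by
      rw [← RingHom.ker_eq_comap_bot, (RingHom.injective_iff_ker_eq_bot _).mp
        (IsFractionRing.injective N K)]
      exact hRN.symm)
  have hPR' : P.comap jK.toRingHom = R := hPR
  have hRq' : R.comap j₁.toRingHom = q.asIdeal := hRq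
  obtain ⟨P₀, hP₀, hP₀P⟩ := Ideal.exists_minimalPrimes_le (I := (⊥ : Ideal C)) (J := P) bot_le
  have := hP₀.1.1
  have := hRp
  let Q := P₀.comap jK.toRingHom
  have hQR : Q ≤ R := hPR' ▸ Ideal.comap_mono hP₀P
  have hQN : Q.under N = ⊥ := le_bot_iff.mp (hRN ▸ Ideal.comap_mono hQR)
  have hgR : GenAt (A := N) (fun i ↦ (1 : N) ⊗ₜ[A] t i) R := by
    have h1 : GenAt (A := N) (fun i ↦ j₁.toRingHom ((1 : N₁) ⊗ₜ[A] t i)) R :=
      genAt_of_isIntegral (N := N) j₁.toRingHom (RingHom.ext fun a ↦ by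
        show j₁ (a ⊗ₜ 1) = algebraMap N₁ N a ⊗ₜ 1
        rw [Algebra.TensorProduct.map_tmul, map_one]
        rfl) _ R hRN (by rw [hRq']; exact hqN) (by rw [hRq']; exact hqg)
    exact h1
  have hQg : GenAt (A := N) (fun i ↦ (1 : N) ⊗ₜ[A] t i) Q := by
    rw [genAt_iff_comap, hQN, Ideal.map_bot, eq_bot_iff]
    rw [genAt_iff_comap, hRN, Ideal.map_bot] at hgR
    exact (Ideal.comap_mono hQR).trans hgR.le
  let Q' : S := ⟨Q, ⟨P₀, hP₀, rfl⟩, hQN, hQg⟩
  refine hbn Q' ?_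
  let b₁ := Algebra.TensorProduct.map (Subalgebra.inclusion (hle Q')) (AlgHom.id A B) (b Q')
  have hb₁ : j₁ b₁ = Algebra.TensorProduct.map (F Q').val (AlgHom.id A B) (b Q') := by
    rw [← AlgHom.comp_apply, ← Algebra.TensorProduct.map_comp]
    rfl
  rw [← hb₁]
  refine hqn ?_
  rw [← hRq']
  show j₁ b₁ ∈ R
  rw [hb₁]
  exact hQR (hbQ Q')

end Groth.Agent.Unibranch
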