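import Mathlib

/-!
# Finite birational modifications with prescribed sections over an affine open

Given `f : X ⟶ Y` and an ideal sheaf `I` on `Y`, the sections of `X` integral over `Y` whose
products with `I` come from `Y` generate a quasi-coherent finite algebra (EGA I 9.4.9 in this case).
-/

universe u

open CategoryTheory AlgebraicGeometry Limits Opposite Polynomial TopologicalSpace

namespace Groth.Agent.Unibranch

variable {X Y : Scheme.{u}} (f : X ⟶ Y) (I : Y.IdealSheafData)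

/-- Sections integral over the base with denominators in `I`. -/
def denomSet (U : Y.AffineZariskiSite) : Set Γ(X, f ⁻¹ᵁ U.toOpens) :=
  {a | (f.app U.toOpens).hom.IsIntegralElem a ∧
    ∀ c ∈ I.ideal ⟨U.1, U.2⟩, ∃ e, f.app U.toOpens c * a = f.app U.toOpens e}

/-- The algebra generated by `denomSet`. -/
def denomAlg (U : Y.AffineZariskiSite) : Subring Γ(X, f ⁻¹ᵁ U.toOpens) :=
  letI := (f.app U.toOpens).hom.toAlgebra
  (Algebra.adjoin Γ(Y, U.toOpens) (denomSet f I U)).toSubring

theorem app_mem_denomAlg (U : Y.AffineZariskiSite) (r : Γ(Y, U.toOpens)) :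
    f.app U.toOpens r ∈ denomAlg f I U :=
  letI := (f.app U.toOpens).hom.toAlgebra
  (Algebra.adjoin Γ(Y, U.toOpens) (denomSet f I U)).algebraMap_mem r

theorem mem_denomAlg_of_mem {U : Y.AffineZariskiSite} {a : Γ(X, f ⁻¹ᵁ U.toOpens)}
    (ha : a ∈ denomSet f I U) : a ∈ denomAlg f I U :=
  letI := (f.app U.toOpens).hom.toAlgebra
  Algebra.subset_adjoin ha

/-- Restriction of sections of `X` over affine opens of `Y`. -/
noncomputable def resX {U V : Y.AffineZariskiSite} (h : U ≤ V) :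
    Γ(X, f ⁻¹ᵁ V.toOpens) ⟶ Γ(X, f ⁻¹ᵁ U.toOpens) :=
  X.presheaf.map (homOfLE (f.preimage_mono (Scheme.AffineZariskiSite.toOpens_mono h))).op

/-- Restriction of sections of `Y` over affine opens. -/
noncomputable def resY {U V : Y.AffineZariskiSite} (h : U ≤ V) :
    Γ(Y, V.toOpens) ⟶ Γ(Y, U.toOpens) :=
  Y.presheaf.map (homOfLE (Scheme.AffineZariskiSite.toOpens_mono h)).op

theorem resX_app {U V : Y.AffineZariskiSite} (h : U ≤ V) (r : Γ(Y, V.toOpens)) :
    resX f h (f.app V.toOpens r) = f.app U.toOpens (resY h r) :=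
  (congr($(f.naturality (homOfLE (Scheme.AffineZariskiSite.toOpens_mono h)).op) r)).symm

theorem resX_mem_denomSet {U V : Y.AffineZariskiSite} (h : U ≤ V) {a : Γ(X, f ⁻¹ᵁ V.toOpens)}
    (ha : a ∈ denomSet f I V) : resX f h a ∈ denomSet f I U := by
  obtain ⟨⟨P, hP, hPa⟩, hI⟩ := ha
  refine ⟨⟨P.map (resY h).hom, hP.map _, ?_⟩, fun c hc ↦ ?_⟩
  · rw [eval₂_map, show (f.app U.toOpens).hom.comp (resY h).hom =
      (resX f h).hom.comp (f.app V.toOpens).hom from RingHom.ext fun r ↦ (resX_app f h r).symm,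
      ← Polynomial.hom_eval₂, hPa, map_zero]
  · let J : Ideal Γ(Y, U.toOpens) :=
      { carrier := {c | ∃ e, f.app U.toOpens c * resX f h a = f.app U.toOpens e}
        add_mem' := fun {c d} ⟨e, he⟩ ⟨e', he'⟩ ↦ ⟨e + e', by rw [map_add, add_mul, he, he', map_add]⟩
        zero_mem' := ⟨0, by rw [map_zero, zero_mul]⟩
        smul_mem' := fun r c ⟨e, he⟩ ↦ ⟨r * e, by
          rw [smul_eq_mul, map_mul, mul_assoc, he, map_mul]⟩ }
    have hJ : (I.ideal ⟨V.1, V.2⟩).map (resY h).hom ≤ J := Ideal.map_le_iff_le_comap.mpr fun d hd ↦ by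
      obtain ⟨e, he⟩ := hI d hd
      exact ⟨resY h e, by
        show f.app U.toOpens (resY h d) * resX f h a = f.app U.toOpens (resY h e)
        rw [← resX_app, ← map_mul, he, resX_app]⟩
    refine hJ ?_
    rw [show (I.ideal ⟨V.1, V.2⟩).map (resY h).hom = I.ideal ⟨U.1, U.2⟩ from
      I.map_ideal (U := ⟨U.1, U.2⟩) (V := ⟨V.1, V.2⟩) (Scheme.AffineZariskiSite.toOpens_mono h)]
    exact hc

theorem resX_mem_denomAlg {U V : Y.AffineZariskiSite} (h : U ≤ V) {a : Γ(X, f ⁻¹ᵁ V.toOpens)}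
    (ha : a ∈ denomAlg f I V) : resX f h a ∈ denomAlg f I U := by
  let := (f.app V.toOpens).hom.toAlgebra
  change a ∈ Algebra.adjoin Γ(Y, V.toOpens) (denomSet f I V) at ha
  induction ha using Algebra.adjoin_induction with
  | mem x hx => exact mem_denomAlg_of_mem f I (resX_mem_denomSet f I h hx)
  | algebraMap r =>
    rw [RingHom.algebraMap_toAlgebra, resX_app]
    exact app_mem_denomAlg f I U _
  | add x y _ _ hx hy => rw [map_add]; exact add_mem hx hy
  | mul x y _ _ hx hy => rw [map_mul]; exact mul_mem hx hy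

/-- The presheaf of algebras. -/
noncomputable def denomDiagram : Y.AffineZariskiSiteᵒᵖ ⥤ CommRingCat.{u} where
  obj U := .of (denomAlg f I U.unop)
  map {V U} i := CommRingCat.ofHom ((resX f i.unop.le).hom.restrict _ _ fun _ hx ↦
    resX_mem_denomAlg f I i.unop.le hx)
  map_id U := by
    ext x
    show resX f _ x.1 = x.1
    exact congr($(X.presheaf.map_id _) x.1)
  map_comp {U V W} i j := by
    ext x
    show resX f _ x.1 = resX f _ (resX f _ x.1)
    exact congr($(X.presheaf.map_comp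
      (homOfLE (f.preimage_mono (Scheme.AffineZariskiSite.toOpens_mono i.unop.le))).op
      (homOfLE (f.preimage_mono (Scheme.AffineZariskiSite.toOpens_mono j.unop.le))).op) x.1)

/-- The structure map of the presheaf of algebras. -/
noncomputable def denomMap :
    (Scheme.AffineZariskiSite.toOpensFunctor Y).op ⋙ Y.presheaf ⟶ denomDiagram f I where
  app U := CommRingCat.ofHom ((f.app U.unop.toOpens).hom.codRestrict _ (app_mem_denomAlg f I U.unop))
  naturality {U V} i := by
    ext x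
    refine Subtype.ext ?_
    exact (resX_app f i.unop.le x).symm

variable [QuasiCompact f] [QuasiSeparated f]

theorem isLocalization_preimage_basicOpen (U : Y.affineOpens) (r : Γ(Y, U.1)) :
    letI := (X.presheaf.map (homOfLE (f.preimage_mono (Y.basicOpen_le r))).op).hom.toAlgebra
    IsLocalization.Away (f.app U.1 r) Γ(X, f ⁻¹ᵁ Y.basicOpen r) := by
  let inst : Algebra Γ(X, f ⁻¹ᵁ U.1) Γ(X, f ⁻¹ᵁ Y.basicOpen r) :=
    (X.presheaf.map (homOfLE (f.preimage_mono (Y.basicOpen_le r))).op).hom.toAlgebra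
  let : Algebra Γ(X, f ⁻¹ᵁ U.1) Γ(X, X.basicOpen (f.app _ r)) :=
    (X.presheaf.map (homOfLE (X.basicOpen_le _)).op).hom.toAlgebra
  dsimp +instances [inst]
  rw! (castMode := .all) [f.preimage_basicOpen r]
  exact isLocalization_basicOpen_of_qcqs (f.isCompact_preimage U.2.isCompact)
    (f.isQuasiSeparated_preimage U.2.isQuasiSeparated) (f.app _ r)

theorem isLocalization_resX (U : Y.AffineZariskiSite) (r : Γ(Y, U.toOpens)) :
    letI := (resX f (U.basicOpen_le r)).hom.toAlgebra
    IsLocalization.Away (f.app U.toOpens r) Γ(X, f ⁻¹ᵁ (U.basicOpen r).toOpens) :=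
  isLocalization_preimage_basicOpen f ⟨U.1, U.2⟩ r

theorem exists_pow_mul_mem_denomSet [IsLocallyNoetherian Y] (U : Y.AffineZariskiSite)
    (r : Γ(Y, U.toOpens)) {z : Γ(X, f ⁻¹ᵁ (U.basicOpen r).toOpens)}
    (hz : z ∈ denomSet f I (U.basicOpen r)) :
    ∃ (k : ℕ) (a : Γ(X, f ⁻¹ᵁ U.toOpens)), a ∈ denomSet f I U ∧
      z * resX f (U.basicOpen_le r) (f.app U.toOpens r) ^ k = resX f (U.basicOpen_le r) a := by
  classical
  let ρ := resX f (U.basicOpen_le r)
  let := ρ.hom.toAlgebra
  have hloc := isLocalization_resX f U r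
  have hρr : IsUnit (ρ (f.app U.toOpens r)) := IsLocalization.Away.algebraMap_isUnit (f.app U.toOpens r)
  let := (f.app (U.basicOpen r).toOpens).hom.toAlgebra
  let := (resY (U.basicOpen_le r)).hom.toAlgebra
  let := ((f.app (U.basicOpen r).toOpens).hom.comp (resY (U.basicOpen_le r)).hom).toAlgebra
  have : IsScalarTower Γ(Y, U.toOpens) Γ(Y, (U.basicOpen r).toOpens)
      Γ(X, f ⁻¹ᵁ (U.basicOpen r).toOpens) := IsScalarTower.of_algebraMap_eq' rfl
  have : IsLocalization.Away r Γ(Y, (U.basicOpen r).toOpens) := U.2.isLocalization_basicOpen r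
  obtain ⟨⟨_, k₀, rfl⟩, hk₀⟩ := IsIntegral.exists_multiple_integral_of_isLocalization
    (Submonoid.powers r) (Rₘ := Γ(Y, (U.basicOpen r).toOpens)) z hz.1
  obtain ⟨k₁, b, hb⟩ := IsLocalization.Away.surj (f.app U.toOpens r)
    (z * ρ (f.app U.toOpens r) ^ k₀)
  -- an integral lift
  have hb' : IsIntegral Γ(Y, U.toOpens) (ρ b) := by
    rw [show (ρ b) = z * ρ (f.app U.toOpens r) ^ k₀ * ρ (f.app U.toOpens r) ^ k₁ from hb.symm]
    refine IsIntegral.mul ?_ ?_
    · convert hk₀ using 1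
      rw [Submonoid.smul_def, Algebra.smul_def, mul_comm, RingHom.algebraMap_toAlgebra, map_pow,
        RingHom.comp_apply, ← map_pow, ← map_pow]
      show _ = f.app _ (resY _ r) ^ k₀ * z
      rw [← resX_app, ← map_pow, map_pow]
    · exact IsIntegral.pow (by
        rw [resX_app]
        exact isIntegral_algebraMap) k₁
  obtain ⟨P, hP, hPb⟩ := hb'
  let Q := P * Polynomial.X
  have hQm : Q.Monic := hP.mul monic_X
  have hQb : ρ (Q.eval₂ (f.app U.toOpens).hom b) = 0 := by
    rw [Polynomial.hom_eval₂, show ρ.hom.comp (f.app U.toOpens).hom =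
      algebraMap Γ(Y, U.toOpens) Γ(X, f ⁻¹ᵁ (U.basicOpen r).toOpens) from
      RingHom.ext fun x ↦ resX_app f (U.basicOpen_le r) x, eval₂_mul, hPb, zero_mul]
  obtain ⟨l, hl⟩ := IsLocalization.Away.exists_of_eq (S := Γ(X, f ⁻¹ᵁ (U.basicOpen r).toOpens))
    (f.app U.toOpens r) (a := Q.eval₂ (f.app U.toOpens).hom b) (b := 0) (hQb.trans (map_zero _).symm)
  rw [mul_zero] at hl
  let φ := (f.app U.toOpens).hom
  have hdint : φ.IsIntegralElem (φ (r ^ l) * b) := by
    rcases subsingleton_or_nontrivial Γ(Y, U.toOpens) with hs | hs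
    · have : Subsingleton Γ(X, f ⁻¹ᵁ U.toOpens) := φ.codomain_trivial
      exact ⟨Polynomial.X, monic_X, Subsingleton.elim _ _⟩
    refine ⟨Q.scaleRoots (r ^ l), Polynomial.monic_scaleRoots_iff _ |>.mpr hQm, ?_⟩
    rw [scaleRoots_eval₂_mul]
    have hdeg : 1 ≤ Q.natDegree := by
      rw [hP.natDegree_mul monic_X, natDegree_X]
      omega
    rw [show φ (r ^ l) ^ Q.natDegree = φ (r ^ l) ^ (Q.natDegree - 1) * φ (r ^ l) by
      rw [← pow_succ, Nat.sub_add_cancel hdeg], mul_assoc, map_pow φ r l]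
    rw [show φ r ^ l * Q.eval₂ φ b = 0 from hl, mul_zero]
  let d := φ (r ^ l) * b
  have hρd : ρ d = z * ρ (φ r) ^ (k₀ + k₁ + l) := by
    rw [map_mul, map_pow φ, map_pow, show ρ b = z * ρ (φ r) ^ k₀ * ρ (φ r) ^ k₁ from hb.symm,
      pow_add, pow_add]
    ring
  -- clearing denominators on generators of the ideal
  have hkey : ∀ c ∈ I.ideal ⟨U.1, U.2⟩, ∃ m e, φ c * (φ r ^ m * d) = φ e := fun c hc ↦ by
    obtain ⟨e', he'⟩ := hz.2 (resY (U.basicOpen_le r) c) (by
      rw [← I.map_ideal (U := ⟨(U.basicOpen r).1, (U.basicOpen r).2⟩) (V := ⟨U.1, U.2⟩)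
        (Y.basicOpen_le r)]
      exact Ideal.mem_map_of_mem _ hc)
    obtain ⟨q, e, he⟩ := IsLocalization.Away.surj (S := Γ(Y, (U.basicOpen r).toOpens)) r e'
    have h1 : ρ (φ c * (φ r ^ q * d)) = ρ (φ (e * r ^ (k₀ + k₁ + l))) := by
      rw [map_mul, map_mul, map_pow, hρd, map_mul φ, map_mul, map_pow φ, map_pow,
        show ρ (φ c) = f.app _ (resY (U.basicOpen_le r) c) from resX_app f _ c,
        show ρ (φ e) = f.app _ e' * ρ (φ r) ^ q by
          rw [show ρ (φ e) = f.app _ (resY (U.basicOpen_le r) e) from resX_app f _ e,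
            show resY (U.basicOpen_le r) e = e' * resY (U.basicOpen_le r) r ^ q from he.symm,
            map_mul, map_pow, ← resX_app], ← he']
      ring
    obtain ⟨m, hm⟩ := IsLocalization.Away.exists_of_eq (S := Γ(X, f ⁻¹ᵁ (U.basicOpen r).toOpens))
      (f.app U.toOpens r) h1
    refine ⟨m + q, r ^ m * (e * r ^ (k₀ + k₁ + l)), ?_⟩
    rw [map_mul φ (r ^ m), map_pow φ, pow_add]
    refine Eq.trans ?_ hm
    ring
  have : IsNoetherianRing Γ(Y, U.toOpens) := IsLocallyNoetherian.component_noetherian ⟨U.1, U.2⟩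
  obtain ⟨G, hG⟩ := (IsNoetherian.noetherian (I.ideal ⟨U.1, U.2⟩) : (I.ideal ⟨U.1, U.2⟩).FG)
  choose! m e hme using hkey
  let M := G.sup m
  refine ⟨k₀ + k₁ + l + M, φ r ^ M * d, ⟨?_, fun c hc ↦ ?_⟩, ?_⟩
  · let := φ.toAlgebra
    exact IsIntegral.mul (IsIntegral.pow isIntegral_algebraMap M) hdint
  · let J : Ideal Γ(Y, U.toOpens) :=
      { carrier := {c | ∃ e, φ c * (φ r ^ M * d) = φ e}
        add_mem' := fun {c c'} ⟨e, he⟩ ⟨e', he'⟩ ↦ ⟨e + e', by rw [map_add, add_mul, he, he', map_add]⟩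
        zero_mem' := ⟨0, by rw [map_zero, zero_mul]⟩
        smul_mem' := fun s c ⟨e, he⟩ ↦ ⟨s * e, by
          rw [smul_eq_mul, map_mul, mul_assoc, he, map_mul]⟩ }
    refine (show I.ideal ⟨U.1, U.2⟩ ≤ J from ?_) hc
    rw [← hG, Ideal.span_le]
    intro g hg
    have hgI : g ∈ I.ideal ⟨U.1, U.2⟩ := hG ▸ Ideal.subset_span hg
    refine ⟨r ^ (M - m g) * e g, ?_⟩
    have hle : m g ≤ M := Finset.le_sup hg
    rw [map_mul φ, map_pow φ, ← hme g hgI,
      show φ r ^ M = φ r ^ (M - m g) * φ r ^ m g by rw [← pow_add, Nat.sub_add_cancel hle]]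
    ring
  · show z * ρ (φ r) ^ (k₀ + k₁ + l + M) = ρ (φ r ^ M * d)
    rw [map_mul, map_pow, hρd, pow_add]
    ring

theorem coequifibered_denomMap [IsLocallyNoetherian Y] : (denomMap f I).Coequifibered := by
  refine Scheme.AffineZariskiSite.coequifibered_iff_forall_isLocalizationAway.mpr fun U r ↦ ?_
  let ρ := resX f (U.basicOpen_le r)
  let := ρ.hom.toAlgebra
  have hloc := isLocalization_resX f U r
  let φ := (f.app U.toOpens).hom
  let inst := ((denomDiagram f I).map (homOfLE (U.basicOpen_le r)).op).hom.toAlgebra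
  refine @IsLocalization.Away.mk _ _ _ _ inst _ ?_ (fun s ↦ ?_) fun a b hab ↦ ?_
  · have hu : IsUnit (resY (U.basicOpen_le r) r) := by
      let := (resY (U.basicOpen_le r)).hom.toAlgebra
      have : IsLocalization.Away r Γ(Y, (U.basicOpen r).toOpens) := U.2.isLocalization_basicOpen r
      exact IsLocalization.Away.algebraMap_isUnit (S := Γ(Y, (U.basicOpen r).toOpens)) r
    have h1 := hu.map ((denomMap f I).app (.op (U.basicOpen r))).hom
    convert h1 using 1
    exact Subtype.ext (resX_app f (U.basicOpen_le r) r)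
  · obtain ⟨s, hs⟩ := s
    suffices h : ∃ (n : ℕ) (a : Γ(X, f ⁻¹ᵁ U.toOpens)), a ∈ denomAlg f I U ∧ s * ρ (φ r) ^ n = ρ a by
      obtain ⟨n, a, ha, hn⟩ := h
      exact ⟨n, ⟨a, ha⟩, Subtype.ext hn⟩
    let := (f.app (U.basicOpen r).toOpens).hom.toAlgebra
    change s ∈ Algebra.adjoin Γ(Y, (U.basicOpen r).toOpens) (denomSet f I (U.basicOpen r)) at hs
    induction hs using Algebra.adjoin_induction with
    | mem x hx =>
      obtain ⟨k, a, ha, hk⟩ := exists_pow_mul_mem_denomSet f I U r hx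
      exact ⟨k, a, mem_denomAlg_of_mem f I ha, hk⟩
    | algebraMap x =>
      let := (resY (U.basicOpen_le r)).hom.toAlgebra
      have : IsLocalization.Away r Γ(Y, (U.basicOpen r).toOpens) := U.2.isLocalization_basicOpen r
      obtain ⟨n, a, ha⟩ := IsLocalization.Away.surj (S := Γ(Y, (U.basicOpen r).toOpens)) r x
      refine ⟨n, φ a, app_mem_denomAlg f I U a, ?_⟩
      show f.app _ x * ρ (φ r) ^ n = ρ (φ a)
      rw [show ρ (φ a) = f.app _ (resY (U.basicOpen_le r) a) from resX_app f _ a,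
        show resY (U.basicOpen_le r) a = x * resY (U.basicOpen_le r) r ^ n from ha.symm, map_mul,
        map_pow, ← resX_app]
    | add x y _ _ hx hy =>
      obtain ⟨n, a, ha, hn⟩ := hx
      obtain ⟨n', a', ha', hn'⟩ := hy
      refine ⟨n + n', a * φ r ^ n' + a' * φ r ^ n, add_mem
        (mul_mem ha (pow_mem (app_mem_denomAlg f I U r) n'))
        (mul_mem ha' (pow_mem (app_mem_denomAlg f I U r) n)), ?_⟩
      rw [map_add, map_mul, map_mul, map_pow, map_pow, ← hn, ← hn', pow_add]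
      ring
    | mul x y _ _ hx hy =>
      obtain ⟨n, a, ha, hn⟩ := hx
      obtain ⟨n', a', ha', hn'⟩ := hy
      refine ⟨n + n', a * a', mul_mem ha ha', ?_⟩
      rw [map_mul, ← hn, ← hn', pow_add]
      ring
  · obtain ⟨n, hn⟩ := IsLocalization.Away.exists_of_eq (S := Γ(X, f ⁻¹ᵁ (U.basicOpen r).toOpens))
      (f.app U.toOpens r) (a := a.1) (b := b.1) (congrArg Subtype.val hab)
    exact ⟨n, Subtype.ext hn⟩

/-- The finite modification. -/
noncomputable def denomData [IsLocallyNoetherian Y] :=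
  Scheme.AffineZariskiSite.relativeGluingData (coequifibered_denomMap f I)

instance [IsLocallyNoetherian Y] :
    ((denomData f I).functor ⋙ Scheme.forget).IsLocallyDirected :=
  Scheme.Cover.RelativeGluingData.instIsLocallyDirectedI₀CompFunctorForgetOfIsThin ..

omit [QuasiCompact f] [QuasiSeparated f] in
theorem finite_denomMap [IsLocallyNoetherian Y] (U : Y.AffineZariskiSite)
    (h : ∃ c ∈ I.ideal ⟨U.1, U.2⟩, IsUnit (f.app U.toOpens c)) :
    ((denomMap f I).app (.op U)).hom.Finite := by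
  obtain ⟨c, hc, hu⟩ := h
  let := (f.app U.toOpens).hom.toAlgebra
  have : IsNoetherianRing Γ(Y, U.toOpens) := IsLocallyNoetherian.component_noetherian ⟨U.1, U.2⟩
  let T := Algebra.adjoin Γ(Y, U.toOpens) (denomSet f I U)
  have hspan : (Submodule.span Γ(Y, U.toOpens) (denomSet f I U)).FG := by
    have h1 : Submodule.span Γ(Y, U.toOpens) (denomSet f I U) ≤
        Submodule.span Γ(Y, U.toOpens) {(hu.unit⁻¹ : _ˣ).1} := by
      rw [Submodule.span_le]
      intro a ha
      obtain ⟨e, he⟩ := ha.2 c hc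
      rw [SetLike.mem_coe, Submodule.mem_span_singleton]
      refine ⟨e, ?_⟩
      rw [Algebra.smul_def, RingHom.algebraMap_toAlgebra]
      show f.app U.toOpens e * _ = a
      rw [← he, mul_assoc, mul_comm a, ← mul_assoc, IsUnit.mul_val_inv, one_mul]
    have : Module.Finite Γ(Y, U.toOpens) (Submodule.span Γ(Y, U.toOpens)
        {(hu.unit⁻¹ : _ˣ).1}) := Module.Finite.span_of_finite _ (Set.finite_singleton _)
    exact Submodule.FG.of_le_of_isNoetherian h1
  obtain ⟨G, hGsub, hG⟩ := (Submodule.fg_span_iff_fg_span_finset_subset (denomSet f I U)).mp hspan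
  have hT : T = Algebra.adjoin Γ(Y, U.toOpens) (G : Set Γ(X, f ⁻¹ᵁ U.toOpens)) := by
    refine le_antisymm (Algebra.adjoin_le fun a ha ↦ ?_) (Algebra.adjoin_mono hGsub)
    exact Algebra.span_le_adjoin _ _ (hG ▸ Submodule.subset_span ha)
  have hfin : Module.Finite Γ(Y, U.toOpens) T := by
    rw [hT]
    exact Module.Finite.iff_fg.mpr (fg_adjoin_of_finite G.finite_toSet fun a ha ↦ (hGsub ha).1)
  exact RingHom.finite_algebraMap.mpr hfin

/-- A finite morphism to `Y` whose ring over `V` contains prescribed integral sections. -/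
theorem exists_finite_extension [IsLocallyNoetherian Y] (hI : ∀ U : Y.AffineZariskiSite,
      ∃ c ∈ I.ideal ⟨U.1, U.2⟩, IsUnit (f.app U.toOpens c))
    (V : Y.AffineZariskiSite) :
    ∃ (Y' : Scheme.{u}) (g : Y' ⟶ Y) (_ : IsFinite g)
      (j : Spec (CommRingCat.of (denomAlg f I V)) ⟶ Y'),
      IsOpenImmersion j ∧
        j ≫ g = Spec.map (CommRingCat.ofHom ((f.app V.toOpens).hom.codRestrict _
          (app_mem_denomAlg f I V))) ≫ V.2.fromSpec := by
  let d := denomData f I
  have hι : ∀ U, colimit.ι d.functor U ≫ d.toBase = Spec.map ((denomMap f I).app (.op U)) ≫ U.2.fromSpec := by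
    intro U
    refine (Scheme.Cover.RelativeGluingData.ι_toBase d U).trans ?_
    show (Spec.map _ ≫ U.2.isoSpec.inv) ≫ U.toOpens.ι = _
    rw [Category.assoc, IsAffineOpen.isoSpec_inv_ι]
    rfl
  refine ⟨d.glued, d.toBase, ?_, colimit.ι d.functor V, d.cover.map_prop V, hι V⟩
  refine (IsZariskiLocalAtTarget.iff_of_openCover (P := @IsFinite)
    (Scheme.AffineZariskiSite.directedCover Y)).mpr fun (U : Y.AffineZariskiSite) ↦ ?_
  have hpb := (Scheme.Cover.RelativeGluingData.isPullback_natTrans_ι_toBase d U).flip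
  show IsFinite (pullback.snd d.toBase _)
  have h1 : IsFinite (d.natTrans.app U) := by
    show IsFinite (Spec.map _ ≫ U.2.isoSpec.inv)
    rw [MorphismProperty.cancel_right_of_respectsIso (P := @IsFinite)]
    exact (IsFinite.SpecMap_iff _).mpr (finite_denomMap f I U (hI U))
  exact (MorphismProperty.cancel_left_of_respectsIso @IsFinite hpb.isoPullback.hom _).mp
    (hpb.isoPullback_hom_snd.symm ▸ h1)

end Groth.Agent.Unibranch
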