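import Mathlib

/-!
# Openness of integral extensions of domains over a unibranch prime
-/

universe u

open Polynomial PrimeSpectrum

namespace Groth.Agent.Unibranch

/-- `R'` has exactly one prime over the prime `P` of `R`. -/
def UniqueOver (R R' : Type u) [CommRing R] [CommRing R'] [Algebra R R'] (P : Ideal R) : Prop :=
  ∀ Q₁ Q₂ : Ideal R', Q₁.IsPrime → Q₂.IsPrime →
    Q₁.comap (algebraMap R R') = P → Q₂.comap (algebraMap R R') = P → Q₁ = Q₂

variable {R R' B : Type u} [CommRing R] [IsDomain R] [CommRing R'] [IsDomain R'] [CommRing B]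
  [IsDomain B] [Algebra R R'] [Algebra R B]

/-- If the normal integral extension `R'` of `R` has a unique prime over `P`, then any integral
extension `Spec B → Spec R` by a domain is open at every point over `P`. -/
theorem image_comap_mem_nhds [IsIntegrallyClosed R'] [Algebra.IsIntegral R R']
    [FaithfulSMul R R'] [Algebra.IsIntegral R B] [FaithfulSMul R B]
    (P : PrimeSpectrum R) (hU : UniqueOver R R' P.asIdeal)
    (n : PrimeSpectrum B) (hn : comap (algebraMap R B) n = P) {s : Set (PrimeSpectrum B)}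
    (hs : s ∈ nhds n) : comap (algebraMap R B) '' s ∈ nhds P := by
  obtain ⟨_, ⟨g, rfl⟩, hng, hgs⟩ :=
    PrimeSpectrum.isTopologicalBasis_basic_opens.mem_nhds_iff.mp hs
  refine Filter.mem_of_superset ?_ (Set.image_mono hgs)
  let K := FractionRing R'
  let Ω := AlgebraicClosure K
  have hRΩ : Function.Injective (algebraMap R Ω) := by
    rw [IsScalarTower.algebraMap_eq R R' Ω, IsScalarTower.algebraMap_eq R' K Ω]
    exact ((algebraMap K Ω).injective.comp (IsFractionRing.injective R' K)).comp
      (FaithfulSMul.algebraMap_injective R R')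
  have : FaithfulSMul R Ω := (faithfulSMul_iff_algebraMap_injective R Ω).mpr hRΩ
  have : Algebra.IsAlgebraic R B := Algebra.IsIntegral.isAlgebraic
  let φ : B →ₐ[R] Ω := IsAlgClosed.lift
  have hφ : Function.Injective φ := by
    rw [← φ.coe_toRingHom, RingHom.injective_iff_ker_eq_bot]
    refine Ideal.eq_bot_of_comap_eq_bot (R := R) ?_
    rw [RingHom.comap_ker]
    exact (RingHom.injective_iff_ker_eq_bot _).mp (by rwa [φ.comp_algebraMap])
  let T := integralClosure R Ω
  let ψ : B →ₐ[R] T := φ.codRestrict T fun b ↦ (Algebra.IsIntegral.isIntegral b).map φ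
  let ι : R' →ₐ[R] T := (IsScalarTower.toAlgHom R R' Ω).codRestrict T
    fun z ↦ (Algebra.IsIntegral.isIntegral z).map _
  have hι : ι.toRingHom.IsIntegral :=
    RingHom.IsIntegral.tower_top (algebraMap R R') ι.toRingHom
      (by rw [ι.toRingHom_eq_coe, ι.comp_algebraMap]; exact fun x ↦ Algebra.IsIntegral.isIntegral x)
  have hψ : ψ.toRingHom.IsIntegral :=
    RingHom.IsIntegral.tower_top (algebraMap R B) ψ.toRingHom
      (by rw [ψ.toRingHom_eq_coe, ψ.comp_algebraMap]; exact fun x ↦ Algebra.IsIntegral.isIntegral x)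
  have hψi : Function.Injective ψ := fun a b h ↦ hφ (congrArg Subtype.val h)
  have hιi : Function.Injective ι := fun a b h ↦ by
    have h' : algebraMap R' Ω a = algebraMap R' Ω b := congrArg Subtype.val h
    rw [IsScalarTower.algebraMap_apply R' K Ω, IsScalarTower.algebraMap_apply R' K Ω] at h'
    exact (IsFractionRing.injective R' K) ((algebraMap K Ω).injective h')
  obtain ⟨n₁, hn₁⟩ : ∃ n₁, comap ψ.toRingHom n₁ = n :=
    RingHom.IsIntegral.comap_surjective hψ hψi n
  let Q : PrimeSpectrum R' := comap ι.toRingHom n₁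
  have hQ : comap (algebraMap R R') Q = P := by
    rw [← hn, ← hn₁, ← comap_comp_apply, ← comap_comp_apply]
    simp [ι.comp_algebraMap, ψ.comp_algebraMap]
  let g' : Ω := φ g
  have hg' : IsIntegral R' g' :=
    ((Algebra.IsIntegral.isIntegral (R := R) g).map φ).tower_top
  let m := minpoly R' g'
  let d := m.natDegree
  let U' : Set (PrimeSpectrum R') := {Q' | ∃ i < d, m.coeff i ∉ Q'.asIdeal}
  have hU' : IsOpen U' := by
    have : U' = ⋃ i ∈ Finset.range d, (basicOpen (m.coeff i) : Set (PrimeSpectrum R')) := by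
      ext Q'; simp [U', PrimeSpectrum.mem_basicOpen]
    rw [this]; exact isOpen_biUnion fun i _ ↦ (basicOpen _).2
  have hm0 : Polynomial.eval₂ ι.toRingHom (ψ g) m = 0 := by
    apply Subtype.val_injective
    show T.val.toRingHom _ = _
    rw [Polynomial.hom_eval₂]
    exact minpoly.aeval R' g'
  have hQU : Q ∈ U' := by
    by_contra h
    simp only [U', Set.mem_ofPred_eq, not_exists, not_and, not_not] at h
    have h2 : Polynomial.eval₂ ((Ideal.Quotient.mk n₁.asIdeal).comp ι.toRingHom)
        (Ideal.Quotient.mk n₁.asIdeal (ψ g)) m = 0 := by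
      rw [← Polynomial.hom_eval₂, hm0, map_zero]
    rw [Polynomial.eval₂_eq_sum_range, Finset.sum_range_succ, Finset.sum_eq_zero, zero_add,
      (minpoly.monic hg').coeff_natDegree, map_one, one_mul] at h2
    · refine hng ?_
      rw [← hn₁]
      show ψ g ∈ n₁.asIdeal
      exact Ideal.Quotient.eq_zero_iff_mem.mp (eq_zero_of_pow_eq_zero h2)
    · intro i hi
      have h3 : ι (m.coeff i) ∈ n₁.asIdeal := h i (Finset.mem_range.mp hi)
      rw [RingHom.comp_apply]
      show Ideal.Quotient.mk _ (ι (m.coeff i)) * _ = 0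
      rw [Ideal.Quotient.eq_zero_iff_mem.mpr h3, zero_mul]
  have hlift : ∀ Q' ∈ U', ∃ q ∈ (basicOpen g : Set (PrimeSpectrum B)),
      comap (algebraMap R B) q = comap (algebraMap R R') Q' := by
    intro Q' ⟨i, hid, hi⟩
    obtain ⟨M, hM⟩ := RingHom.IsIntegral.comap_surjective hι hιi Q'
    have hmK : minpoly K g' = m.map (algebraMap R' K) :=
      minpoly.isIntegrallyClosed_eq_field_fractions' K hg'
    have hsplit : (m.map (algebraMap R' Ω)).Splits := IsAlgClosed.splits _
    have hmon : (m.map (algebraMap R' Ω)).Monic := (minpoly.monic hg').map _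
    have hroot : ∀ r ∈ (m.map (algebraMap R' Ω)).roots, aeval r m = 0 := fun r hr ↦ by
      rw [← aeval_map_algebraMap Ω]
      exact (mem_roots'.mp hr).2
    let rT : {r // r ∈ (m.map (algebraMap R' Ω)).roots} → T := fun r ↦
      ⟨r.1, isIntegral_trans (R := R) (A := R') r.1 ⟨m, minpoly.monic hg', hroot r.1 r.2⟩⟩
    let qT : T[X] := ((m.map (algebraMap R' Ω)).roots.attach.map fun r ↦ X - C (rT r)).prod
    have hqT : qT = m.map ι.toRingHom := by
      apply Polynomial.map_injective T.val.toRingHom Subtype.val_injective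
      rw [Polynomial.map_map, Polynomial.map_multiset_prod, Multiset.map_map]
      have h1 : T.val.toRingHom.comp ι.toRingHom = algebraMap R' Ω := rfl
      rw [h1]
      conv_rhs => rw [hsplit.eq_prod_roots_of_monic hmon]
      simp [rT, Function.comp_def]
      exact congrArg Multiset.prod (Multiset.attach_map_val' _ fun x ↦ X - C x)
    obtain ⟨r, hr, hrM⟩ : ∃ r, ∃ hr : r ∈ (m.map (algebraMap R' Ω)).roots,
        rT ⟨r, hr⟩ ∉ M.asIdeal := by
      by_contra hall
      simp only [not_exists, not_not] at hall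
      apply hi
      rw [← hM]
      show ι (m.coeff i) ∈ M.asIdeal
      rw [← Ideal.Quotient.eq_zero_iff_mem]
      have h1 : qT.map (Ideal.Quotient.mk M.asIdeal) = X ^ d := by
        rw [Polynomial.map_multiset_prod, Multiset.map_map,
          Multiset.map_congr rfl (g := fun _ ↦ X)]
        · rw [Multiset.map_const', Multiset.prod_replicate, Multiset.card_attach]
          congr 1
          rw [← hsplit.natDegree_eq_card_roots, (minpoly.monic hg').natDegree_map]
        · intro r _
          simp [Ideal.Quotient.eq_zero_iff_mem.mpr (hall r.1 r.2)]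
      have h2 := congrArg (fun p ↦ Polynomial.coeff p i) h1
      simp only [hqT, coeff_map, coeff_X_pow, if_neg hid.ne] at h2
      exact h2
    obtain ⟨σ, hσ⟩ : ∃ σ : Ω ≃ₐ[K] Ω, σ g' = r := by
      refine minpoly.exists_algEquiv_of_root' hg'.tower_top.isAlgebraic ?_
      rw [hmK, aeval_map_algebraMap]
      exact hroot r hr
    let σR : Ω →ₐ[R] Ω := (σ.toAlgHom.restrictScalars R')|>.restrictScalars R
    let σT : T →ₐ[R] T := (σR.comp T.val).codRestrict T fun x ↦ x.2.map σR
    refine ⟨comap ψ.toRingHom (comap σT.toRingHom M), ?_, ?_⟩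
    · show σT (ψ g) ∉ M.asIdeal
      have : σT (ψ g) = rT ⟨r, hr⟩ := Subtype.ext hσ
      rwa [this]
    · rw [← hM, ← comap_comp_apply, ← comap_comp_apply, ← comap_comp_apply]
      congr 1
      ext x
      show (σR ((φ (algebraMap R B x)))) = algebraMap R' Ω (algebraMap R R' x)
      rw [φ.commutes, σR.commutes, IsScalarTower.algebraMap_apply R R' Ω]
  have hcl : IsClosed (comap (algebraMap R R') '' U'ᶜ) :=
    isClosedMap_comap_of_isIntegral _ (fun x ↦ Algebra.IsIntegral.isIntegral x) _
      hU'.isClosed_compl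
  refine Filter.mem_of_superset (hcl.isOpen_compl.mem_nhds ?_) ?_
  · rintro ⟨Q', hQ', hQ'P⟩
    have : Q' = Q := PrimeSpectrum.ext (hU _ _ Q'.isPrime Q.isPrime
      (congrArg PrimeSpectrum.asIdeal hQ'P) (congrArg PrimeSpectrum.asIdeal hQ))
    exact hQ' (this ▸ hQU)
  · intro P' hP'
    obtain ⟨Q', hQ'⟩ := RingHom.IsIntegral.comap_surjective
      (f := algebraMap R R') (fun x ↦ Algebra.IsIntegral.isIntegral x)
      (FaithfulSMul.algebraMap_injective R R') P'
    obtain ⟨q, hq, hqQ⟩ := hlift Q' (by_contra fun h ↦ hP' ⟨Q', h, hQ'⟩)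
    exact ⟨q, hq, hqQ.trans hQ'⟩

omit [IsDomain R] [IsDomain B] [Algebra R B] in
/-- If `S → B` becomes bijective after inverting `r`, images of neighbourhoods inside `D(r)` are
neighbourhoods. -/
theorem image_comap_mem_nhds_of_awayMap {S : Type u} [CommRing S] (ν : S →+* B) (r : S)
    (hbij : Function.Bijective (Localization.awayMap ν r)) (n : PrimeSpectrum B)
    (hr : ν r ∉ n.asIdeal) {s : Set (PrimeSpectrum B)} (hs : s ∈ nhds n) :
    comap ν '' s ∈ nhds (comap ν n) := by
  let ρ := algebraMap B (Localization.Away (ν r))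
  have hcomp : IsOpenMap (fun q ↦ comap ν (comap ρ q)) := by
    have h1 : (fun q ↦ comap ν (comap ρ q)) =
        comap (algebraMap S (Localization.Away r)) ∘ comap (Localization.awayMap ν r) := by
      funext q
      rw [Function.comp_apply, ← comap_comp_apply, ← comap_comp_apply]
      congr 1
      exact (IsLocalization.map_comp _).symm
    rw [h1]
    exact (localization_away_isOpenEmbedding (Localization.Away r) r).isOpenMap.comp
      (isHomeomorph_comap_of_bijective hbij).isOpenMap
  obtain ⟨q, hq⟩ : n ∈ Set.range (comap ρ) := by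
    rw [localization_away_comap_range (Localization.Away (ν r)) (ν r)]; exact hr
  have h2 : (fun q ↦ comap ν (comap ρ q)) '' (comap ρ ⁻¹' s) ∈ nhds (comap ν n) := by
    rw [← hq]
    exact hcomp.image_mem_nhds ((continuous_comap ρ).continuousAt.preimage_mem_nhds (hq ▸ hs))
  refine Filter.mem_of_superset h2 ?_
  rintro _ ⟨q, hq, rfl⟩
  exact ⟨comap ρ q, hq, rfl⟩

omit [IsDomain R] [IsDomain B] [Algebra R B] in
theorem awayMap_bijective_of_forall {S : Type u} [CommRing S] (ν : S →+* B)
    (hν : Function.Injective ν) (r : S) (h : ∀ b, ∃ k : ℕ, ν r ^ k * b ∈ Set.range ν) :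
    Function.Bijective (Localization.awayMap ν r) := by
  refine ⟨IsLocalization.map_injective_of_injective _ _ _ hν, fun x ↦ ?_⟩
  obtain ⟨b, ⟨_, m, rfl⟩, rfl⟩ := IsLocalization.exists_mk'_eq (.powers (ν r)) x
  obtain ⟨k, y, hy⟩ := h b
  refine ⟨IsLocalization.mk' _ y (⟨r ^ (k + m), k + m, rfl⟩ : Submonoid.powers r), ?_⟩
  rw [Localization.awayMap, IsLocalization.Away.map, IsLocalization.map_mk',
    IsLocalization.mk'_eq_iff_eq]
  simp only [map_pow, hy]
  congr 1
  ring

omit [IsDomain R] [IsDomain B] [Algebra R B] in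
theorem exists_pow_mul_mem_of_awayMap {S : Type u} [CommRing S] (ν : S →+* B) (r : S)
    (hbij : Function.Bijective (Localization.awayMap ν r)) (b : B) :
    ∃ k : ℕ, ν r ^ k * b ∈ Set.range ν := by
  obtain ⟨x, hx⟩ := hbij.2 (algebraMap B _ b)
  obtain ⟨y, ⟨_, m, rfl⟩, rfl⟩ := IsLocalization.exists_mk'_eq (.powers r) x
  rw [Localization.awayMap, IsLocalization.Away.map, IsLocalization.map_mk', eq_comm,
    IsLocalization.eq_mk'_iff_mul_eq, ← map_mul, IsLocalization.eq_iff_exists (.powers (ν r))] at hx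
  obtain ⟨⟨_, j, rfl⟩, hj⟩ := hx
  simp only [map_pow] at hj
  exact ⟨j + m, r ^ j * y, by rw [map_mul, map_pow, ← hj]; ring⟩

/-- Quasi-finite finite type version of `image_comap_mem_nhds`, via Zariski's main theorem. -/
theorem image_comap_mem_nhds_of_quasiFiniteAt [IsIntegrallyClosed R'] [Algebra.IsIntegral R R']
    [FaithfulSMul R R'] [Algebra.FiniteType R B] [FaithfulSMul R B]
    (P : PrimeSpectrum R) (hU : UniqueOver R R' P.asIdeal)
    (n : PrimeSpectrum B) (hn : comap (algebraMap R B) n = P)
    [Algebra.QuasiFiniteAt R n.asIdeal] {s : Set (PrimeSpectrum B)}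
    (hs : s ∈ nhds n) : comap (algebraMap R B) '' s ∈ nhds P := by
  obtain ⟨S', hfg, r, hr, hbij⟩ :=
    Algebra.QuasiFiniteAt.exists_fg_and_exists_notMem_and_awayMap_bijective (R := R) n.asIdeal
  have : Module.Finite R S' := ⟨(Submodule.fg_top _).mpr hfg⟩
  have : FaithfulSMul R S' := (faithfulSMul_iff_algebraMap_injective R S').mpr fun a b h ↦
    FaithfulSMul.algebraMap_injective R B (congrArg Subtype.val h)
  have h2 := image_comap_mem_nhds_of_awayMap S'.val.toRingHom r hbij n hr hs
  refine Filter.mem_of_superset (image_comap_mem_nhds (B := S') P hU _ ?_ h2) ?_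
  · rw [← comap_comp_apply, ← hn]; rfl
  · rintro _ ⟨_, ⟨q, hq, rfl⟩, rfl⟩
    exact ⟨q, hq, rfl⟩

end Groth.Agent.Unibranch
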