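import Groth.Agent.Unibranch.TrDeg

/-!
# Quasi-sections: the algebra
-/

universe u

open PrimeSpectrum

namespace Groth.Agent.Unibranch

/-- Roots of monic polynomials in a field come from a flat algebra. -/
theorem exists_flat_of_monic {A : Type u} [CommRing A] {K : Type u} [Field K] [Algebra A K] :
    ∀ (m : ℕ) (a : Fin m → K) (g : Fin m → Polynomial A), (∀ i, (g i).Monic) →
      (∀ i, Polynomial.aeval (a i) (g i) = 0) →
      ∃ (R : Type u) (_ : CommRing R) (_ : Algebra A R), Module.Flat A R ∧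
        ∃ (r : Fin m → R) (χ : R →ₐ[A] K), (∀ i, χ (r i) = a i) ∧
          ∀ i, Polynomial.aeval (r i) (g i) = 0 := by
  intro m
  induction m with
  | zero => exact fun a g _ _ ↦
      ⟨A, inferInstance, inferInstance, inferInstance, fun i ↦ i.elim0, Algebra.ofId A K,
        fun i ↦ i.elim0, fun i ↦ i.elim0⟩
  | succ m ih =>
    intro a g hg hga
    obtain ⟨R, _, _, hflat, r, χ, hχ, hr⟩ := ih (fun i ↦ a i.castSucc) (fun i ↦ g i.castSucc)
      (fun i ↦ hg _) fun i ↦ hga _
    let G := (g (Fin.last m)).map (algebraMap A R)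
    have hG : G.Monic := (hg _).map _
    have := hflat
    have : Module.Free R (AdjoinRoot G) := hG.free_adjoinRoot
    have hev : G.eval₂ χ.toRingHom (a (Fin.last m)) = 0 := by
      rw [Polynomial.eval₂_map, show χ.toRingHom.comp (algebraMap A R) = algebraMap A K from
        χ.comp_algebraMap]
      exact hga _
    let χ' : AdjoinRoot G →+* K := AdjoinRoot.lift χ.toRingHom (a (Fin.last m)) hev
    let χₐ : AdjoinRoot G →ₐ[A] K := { χ' with
      commutes' := fun x ↦ by
        show χ' (algebraMap A (AdjoinRoot G) x) = _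
        rw [IsScalarTower.algebraMap_apply A R (AdjoinRoot G), AdjoinRoot.algebraMap_eq,
          AdjoinRoot.lift_of]
        exact χ.commutes x }
    refine ⟨AdjoinRoot G, inferInstance, inferInstance, Module.Flat.trans A R _,
      Fin.snoc (fun i ↦ AdjoinRoot.of G (r i)) (AdjoinRoot.root G), χₐ, fun i ↦ ?_, fun i ↦ ?_⟩
    · induction i using Fin.lastCases with
      | last => rw [Fin.snoc_last]; exact AdjoinRoot.lift_root hev
      | cast i => rw [Fin.snoc_castSucc]; exact (AdjoinRoot.lift_of hev).trans (hχ i)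
    · induction i using Fin.lastCases with
      | last =>
        rw [Fin.snoc_last, ← Polynomial.aeval_map_algebraMap R]
        exact (AdjoinRoot.aeval_eq G).trans AdjoinRoot.mk_self
      | cast i =>
        rw [Fin.snoc_castSucc, ← AdjoinRoot.algebraMap_eq, Polynomial.aeval_algebraMap_apply, hr,
          map_zero]

variable {A B : Type u} [CommRing A] [CommRing B] [Algebra A B]

/-- At a closed point of a fibre every element is algebraic over the residue field. -/
theorem exists_polynomial_of_closed [Algebra.FiniteType A B] (n : PrimeSpectrum B)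
    (hcl : ∀ n' : PrimeSpectrum B, n.asIdeal ≤ n'.asIdeal →
      n'.asIdeal.under A = n.asIdeal.under A → n' = n) (b : B) :
    ∃ g : Polynomial A, Polynomial.aeval b g ∈ n.asIdeal ∧ g.leadingCoeff ∉ n.asIdeal.under A := by
  let p := n.asIdeal.under A
  have h0 : rdim A n.asIdeal ≤ 0 := rdim_le_of_chains n n le_rfl
    (g := 1) n.isPrime.one_notMem fun l hl ↦ by
      by_contra hpos
      have h1 : ∀ i, l i = n := fun i ↦ hcl _ (hl i).2.1 (congrArg PrimeSpectrum.asIdeal (hl i).1)
      exact (l.step ⟨0, by omega⟩).ne ((h1 _).trans (h1 _).symm)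
  have htr : Algebra.trdeg (A ⧸ p) (B ⧸ n.asIdeal) = 0 := by
    rw [← natCast_rdim n.asIdeal, Nat.le_zero.mp h0, Nat.cast_zero]
  have : FaithfulSMul (A ⧸ p) (B ⧸ n.asIdeal) :=
    (faithfulSMul_iff_algebraMap_injective _ _).mpr (algebraMap_injective_quotient_under n.asIdeal)
  have halg : Algebra.IsAlgebraic (A ⧸ p) (B ⧸ n.asIdeal) := trdeg_eq_zero_iff.mp htr
  obtain ⟨g₀, hg₀, hgb⟩ := halg.isAlgebraic (Ideal.Quotient.mk n.asIdeal b)
  obtain ⟨g, hg, hdeg⟩ := Polynomial.exists_degree_eq_of_mem_lifts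
    ((Polynomial.mem_lifts _).mpr (Polynomial.map_surjective (Ideal.Quotient.mk p)
      Ideal.Quotient.mk_surjective g₀))
  refine ⟨g, Ideal.Quotient.eq_zero_iff_mem.mp ?_, fun h ↦ hg₀ ?_⟩
  · have hc : (Polynomial.aeval (R := A ⧸ p) (Ideal.Quotient.mk n.asIdeal b)) (g.map (Ideal.Quotient.mk p)) =
        Ideal.Quotient.mk n.asIdeal (Polynomial.aeval b g) := by
      rw [Polynomial.aeval_def, Polynomial.eval₂_map, Polynomial.aeval_def, Polynomial.hom_eval₂]
      rfl
    rw [← hc, hg]
    exact hgb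
  · have h2 := congrArg (fun q : Polynomial (A ⧸ p) ↦ q.coeff g.natDegree) hg
    simp only [Polynomial.coeff_map, Polynomial.coeff_natDegree] at h2
    rw [Ideal.Quotient.eq_zero_iff_mem.mpr h, Polynomial.natDegree_eq_of_degree_eq hdeg,
      Polynomial.coeff_natDegree] at h2
    exact Polynomial.leadingCoeff_eq_zero.mp h2.symm

/-- A prime of a polynomial ring below a point algebraic over the base, with algebraic coordinates,
over any generalisation of the base point. -/
theorem exists_prime_algebraic {σ : Type u} [Finite σ] (P : Ideal (MvPolynomial σ A)) [P.IsPrime]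
    (p₀ : Ideal A) [p₀.IsPrime] (hp₀ : p₀ ≤ P.comap MvPolynomial.C)
    (H : ∀ i, ∃ g : Polynomial A, Polynomial.aeval (MvPolynomial.X i) g ∈ P ∧
      g.leadingCoeff ∉ P.comap MvPolynomial.C) :
    ∃ Q : Ideal (MvPolynomial σ A), Q.IsPrime ∧ Q ≤ P ∧ Q.comap MvPolynomial.C = p₀ ∧
      ∀ i, ∃ g : Polynomial A, Polynomial.aeval (MvPolynomial.X i) g ∈ Q ∧
        g.leadingCoeff ∉ P.comap MvPolynomial.C := by
  classical
  have := Fintype.ofFinite σ
  choose g hgP hgl using H
  let M := MvPolynomial σ A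
  let p := P.comap (MvPolynomial.C : A →+* M)
  have : p.IsPrime := Ideal.IsPrime.comap _
  -- invert the leading coefficients
  let c := ∏ i, (g i).leadingCoeff
  have hc : c ∉ p := fun h ↦ by
    obtain ⟨i, -, hi⟩ := Ideal.IsPrime.prod_mem_iff.mp h
    exact hgl i hi
  let Ac := Localization.Away c
  have hu : ∀ i, IsUnit (algebraMap A Ac (g i).leadingCoeff) := fun i ↦
    isUnit_of_dvd_unit (map_dvd _ (Finset.dvd_prod_of_mem (fun i ↦ (g i).leadingCoeff) (Finset.mem_univ i)))
      (IsLocalization.Away.algebraMap_isUnit (S := Ac) c)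
  let K := FractionRing (M ⧸ P)
  have hkerK : ∀ a : A, algebraMap A K a = 0 ↔ a ∈ p := fun a ↦ by
    rw [IsScalarTower.algebraMap_apply A (M ⧸ P) K,
      map_eq_zero_iff _ (IsFractionRing.injective (M ⧸ P) K),
      IsScalarTower.algebraMap_apply A M (M ⧸ P), Ideal.Quotient.algebraMap_eq,
      Ideal.Quotient.eq_zero_iff_mem]
    rfl
  have hcK : IsUnit (algebraMap A K c) := IsUnit.mk0 _ fun h ↦ hc ((hkerK _).mp h)
  let : Algebra Ac K := (IsLocalization.Away.lift c hcK).toAlgebra
  have : IsScalarTower A Ac K :=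
    IsScalarTower.of_algebraMap_eq fun a ↦ (IsLocalization.Away.lift_eq c hcK a).symm
  let eσ := Fintype.equivFin σ
  let a : Fin (Fintype.card σ) → K := fun j ↦
    algebraMap (M ⧸ P) K (Ideal.Quotient.mk P (MvPolynomial.X (eσ.symm j)))
  let gc : Fin (Fintype.card σ) → Polynomial Ac := fun j ↦
    Polynomial.C ((hu (eσ.symm j)).unit⁻¹ : Acˣ).1 * (g (eσ.symm j)).map (algebraMap A Ac)
  have hmonic : ∀ j, (gc j).Monic := fun j ↦ by
    refine Polynomial.monic_C_mul_of_mul_leadingCoeff_eq_one ?_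
    have h1 : ((g (eσ.symm j)).map (algebraMap A Ac)).leadingCoeff =
        algebraMap A Ac (g (eσ.symm j)).leadingCoeff := by
      rcases subsingleton_or_nontrivial Ac with hs | hs
      · exact Subsingleton.elim _ _
      · exact Polynomial.leadingCoeff_map_of_leadingCoeff_ne_zero _ (hu _).ne_zero
    rw [h1, IsUnit.val_inv_mul]
  have hroot : ∀ j, Polynomial.aeval (a j) (gc j) = 0 := fun j ↦ by
    rw [map_mul, Polynomial.aeval_map_algebraMap]
    refine mul_eq_zero_of_right _ ?_
    have h2 : a j = (IsScalarTower.toAlgHom A (M ⧸ P) K).comp (Ideal.Quotient.mkₐ A P)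
        (MvPolynomial.X (eσ.symm j)) := rfl
    rw [h2, Polynomial.aeval_algHom_apply]
    show algebraMap (M ⧸ P) K (Ideal.Quotient.mk P _) = 0
    rw [Ideal.Quotient.eq_zero_iff_mem.mpr (hgP _), map_zero]
  obtain ⟨R, _, _, hflat, r, χ, hχ, hr⟩ := exists_flat_of_monic _ a gc hmonic hroot
  let : Algebra A R := ((algebraMap Ac R).comp (algebraMap A Ac)).toAlgebra
  have : IsScalarTower A Ac R := IsScalarTower.of_algebraMap_eq fun _ ↦ rfl
  have := hflat
  have : Module.Flat A Ac := IsLocalization.flat Ac (Submonoid.powers c)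
  have : Module.Flat A R := Module.Flat.trans A Ac R
  let PR : Ideal R := RingHom.ker χ.toRingHom
  have : PR.IsPrime := RingHom.ker_isPrime _
  have hPR : PR.under A = p := by
    ext x
    show χ (algebraMap A R x) = 0 ↔ _
    rw [IsScalarTower.algebraMap_apply A Ac R, AlgHom.commutes,
      ← IsScalarTower.algebraMap_apply A Ac K, hkerK]
  have : PR.LiesOver p := ⟨hPR.symm⟩
  have : Algebra.HasGoingDown A R := .of_flat
  obtain ⟨QR, hQRP, hQR, hQR₀⟩ := Ideal.exists_ideal_le_liesOver_of_le (S := R) (p := p₀) (q := p) PR hp₀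
  let ev : M →ₐ[A] R := MvPolynomial.aeval fun i ↦ r (eσ i)
  have hχev : ∀ F : M, χ (ev F) = algebraMap (M ⧸ P) K (Ideal.Quotient.mk P F) := fun F ↦ by
    have h3 : (χ.restrictScalars A).comp ev =
        (IsScalarTower.toAlgHom A (M ⧸ P) K).comp (Ideal.Quotient.mkₐ A P) :=
      MvPolynomial.algHom_ext fun i ↦ by
        show χ (ev (MvPolynomial.X i)) = algebraMap (M ⧸ P) K (Ideal.Quotient.mk P (MvPolynomial.X i))
        rw [MvPolynomial.aeval_X, hχ]
        simp only [a, Equiv.symm_apply_apply]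
    exact DFunLike.congr_fun h3 F
  refine ⟨QR.comap ev.toRingHom, hQR.comap _, fun F hF ↦ ?_, ?_, fun i ↦ ⟨g i, ?_, hgl i⟩⟩
  · have h4 : χ (ev F) = 0 := hQRP hF
    rw [hχev, map_eq_zero_iff _ (IsFractionRing.injective (M ⧸ P) K),
      Ideal.Quotient.eq_zero_iff_mem] at h4
    exact h4
  · rw [hQR₀.over, Ideal.under_def, Ideal.comap_comap]
    congr 1
    exact ev.comp_algebraMap
  · show ev (Polynomial.aeval (MvPolynomial.X i) (g i)) ∈ QR
    rw [← Polynomial.aeval_algHom_apply, MvPolynomial.aeval_X]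
    have h5 := hr (eσ i)
    simp only [gc, Equiv.symm_apply_apply, map_mul, Polynomial.aeval_map_algebraMap,
      Polynomial.aeval_C] at h5
    rw [(((hu i).unit⁻¹).isUnit.map (algebraMap Ac R)).mul_right_eq_zero.mp h5]
    exact QR.zero_mem

/-- Primes in a fibre with algebraic coordinates are incomparable. -/
theorem eq_of_le_of_algebraic {σ : Type u} [Finite σ] {P₀ P₁ : Ideal (MvPolynomial σ A)}
    [P₀.IsPrime] [P₁.IsPrime] (hle : P₀ ≤ P₁)
    (hC : P₀.comap MvPolynomial.C = P₁.comap MvPolynomial.C)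
    (H : ∀ i, ∃ g : Polynomial A, Polynomial.aeval (MvPolynomial.X i) g ∈ P₀ ∧
      g.leadingCoeff ∉ P₀.comap MvPolynomial.C) : P₀ = P₁ := by
  let M := MvPolynomial σ A
  let D := M ⧸ P₀
  let p := P₀.under A
  let R := A ⧸ p
  have : FaithfulSMul R D :=
    (faithfulSMul_iff_algebraMap_injective _ _).mpr (algebraMap_injective_quotient_under P₀)
  let x : σ → D := fun i ↦ Ideal.Quotient.mk P₀ (MvPolynomial.X i)
  have hgen : Algebra.adjoin R (Set.range x) = ⊤ := by
    rw [eq_top_iff]
    rintro z -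
    obtain ⟨F, rfl⟩ := Ideal.Quotient.mk_surjective z
    induction F using MvPolynomial.induction_on with
    | C a => exact (Algebra.adjoin R (Set.range x)).algebraMap_mem (Ideal.Quotient.mk p a)
    | add F G hF hG => rw [map_add]; exact add_mem hF hG
    | mul_X F i hF => rw [map_mul]; exact mul_mem hF (Algebra.subset_adjoin ⟨i, rfl⟩)
  have halg : ∀ i, IsAlgebraic R (x i) := fun i ↦ by
    obtain ⟨g, hgP, hgl⟩ := H i
    refine ⟨g.map (Ideal.Quotient.mk p), fun h ↦ hgl ?_, ?_⟩
    · have := congrArg (fun q : Polynomial R ↦ q.coeff g.natDegree) h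
      simp only [Polynomial.coeff_map, Polynomial.coeff_natDegree, Polynomial.coeff_zero] at this
      exact Ideal.Quotient.eq_zero_iff_mem.mp this
    · have hc : Polynomial.aeval (x i) (g.map (Ideal.Quotient.mk p)) =
          Ideal.Quotient.mk P₀ (Polynomial.aeval (MvPolynomial.X i) g) := by
        rw [Polynomial.aeval_def, Polynomial.eval₂_map, Polynomial.aeval_def, Polynomial.hom_eval₂]
        rfl
      rw [hc]
      exact Ideal.Quotient.eq_zero_iff_mem.mpr hgP
  refine le_antisymm hle fun F hF ↦ ?_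
  by_contra hF₀
  have hF' : Ideal.Quotient.mk P₀ F ≠ 0 := fun h ↦ hF₀ (Ideal.Quotient.eq_zero_iff_mem.mp h)
  have hadj : ∀ z ∈ Algebra.adjoin R (Set.range x), IsAlgebraic R z := fun z hz ↦
    Algebra.adjoin_le (S := Subalgebra.algebraicClosure R D) (by rintro _ ⟨i, rfl⟩; exact halg i) hz
  obtain ⟨r, hr0, w, hw⟩ := (hadj _ (hgen.ge trivial)).exists_nonzero_dvd
    (mem_nonZeroDivisors_of_ne_zero hF')
  obtain ⟨a, rfl⟩ := Ideal.Quotient.mk_surjective r
  obtain ⟨W, rfl⟩ := Ideal.Quotient.mk_surjective w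
  have h1 : algebraMap A M a - F * W ∈ P₀ := Ideal.Quotient.eq.mp (hw.trans (map_mul _ _ _).symm)
  have h2 : a ∈ P₁.comap MvPolynomial.C := by
    show algebraMap A M a ∈ P₁
    have h3 := P₁.add_mem (hle h1) (P₁.mul_mem_right W hF)
    rwa [sub_add_cancel] at h3
  rw [← hC] at h2
  exact hr0 (Ideal.Quotient.eq_zero_iff_mem.mpr h2)

end Groth.Agent.Unibranch
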