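import Groth.Agent.Unibranch.SectionBaseChange
import Groth.Agent.FibCrit.Stalk

/-!
# Reduced special fibres with one component: one component through the point
-/

set_option linter.style.haveILetI false

universe u

open CategoryTheory AlgebraicGeometry Topology TopologicalSpace Limits

namespace Groth.Agent.Unibranch

theorem eq_bot_of_le_span {B : Type u} [CommRing B] [IsNoetherianRing B] [IsLocalRing B] {a : B}
    (ha : ¬ IsUnit a) {P : Ideal B} [P.IsPrime] (hP : P ≤ Ideal.span {a}) (haP : a ∉ P) : P = ⊥ := by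
  refine Submodule.eq_bot_of_le_smul_of_le_jacobson_bot (Ideal.span {a}) P
    (IsNoetherian.noetherian P) (fun z hz ↦ ?_) ?_
  · obtain ⟨w, rfl⟩ := Ideal.mem_span_singleton'.mp (hP hz)
    have hw : w ∈ P := ((inferInstance : P.IsPrime).mem_or_mem hz).resolve_right haP
    rw [mul_comm, ← smul_eq_mul]
    exact Submodule.smul_mem_smul (Ideal.mem_span_singleton_self a) hw
  · rw [IsLocalRing.jacobson_eq_maximalIdeal ⊥ bot_ne_top, Ideal.span_singleton_le_iff_mem]
    exact ha

variable {X Y : Scheme.{u}}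

/-- A reduced fibre with a single component at `x`, over a point with principal maximal ideal: if
that component generises off the fibre, then a single component of the source passes through `x`. -/
theorem exists_unique_generalization [IsLocallyNoetherian X] (f : X ⟶ Y) (y : Y)
    (p : ↥(f.fiber y))
    (hprinc : (IsLocalRing.maximalIdeal (Y.presheaf.stalk (f (f.fiberι y p)))).IsPrincipal)
    (hred : _root_.IsReduced ((f.fiber y).presheaf.stalk p)) {ξ ζ₀ : X} (hξ : ξ ⤳ f.fiberι y p)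
    (hξy : f ξ = y) (hξgen : ∀ w : X, f w = y → w ⤳ f.fiberι y p → ξ ⤳ w)
    (hζ : ζ₀ ⤳ ξ) (hζy : f ζ₀ ≠ y) :
    ∀ w : X, w ⤳ f.fiberι y p → ζ₀ ⤳ w := by
  set x := f.fiberι y p with hx
  have hfx : f x = y := (f.range_fiberι y).le ⟨p, rfl⟩
  obtain ⟨hsurj, hker⟩ := FibCrit.fiberι_stalkMap f y p
  let ψ := (f.stalkMap x).hom
  let I : Ideal (X.presheaf.stalk x) := (IsLocalRing.maximalIdeal (Y.presheaf.stalk (f x))).map ψ
  have hI : I.IsRadical := by
    show ((IsLocalRing.maximalIdeal _).map _).IsRadical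
    rw [← hker]
    intro z hz
    obtain ⟨n, hn⟩ := hz
    rw [RingHom.mem_ker, map_pow] at hn
    exact RingHom.mem_ker.mpr (eq_zero_of_pow_eq_zero hn)
  let j := X.fromSpecStalk x
  have hj : ∀ a : X, a ⤳ x → ∃ P, j P = a := fun a ha ↦ by
    have : a ∈ Set.range j := by rw [Scheme.range_fromSpecStalk]; exact ha
    exact this
  have hjle : ∀ P Q, P.asIdeal ≤ Q.asIdeal ↔ j P ⤳ j Q := fun P Q ↦ by
    rw [PrimeSpectrum.asIdeal_le_asIdeal, PrimeSpectrum.le_iff_specializes]
    exact j.isEmbedding.isInducing.specializes_iff.symm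
  have hover : ∀ P, f (j P) = y ↔ I ≤ P.asIdeal := fun P ↦ by
    have h1 : f (j P) = Y.fromSpecStalk (f x) (PrimeSpectrum.comap ψ P) := by
      rw [← Scheme.Hom.comp_apply, ← Scheme.SpecMap_stalkMap_fromSpecStalk, Scheme.Hom.comp_apply]
      rfl
    rw [h1]
    constructor
    · intro h
      have h2 := (Y.fromSpecStalk (f x)).isEmbedding.injective
        ((h.trans hfx.symm).trans (Scheme.fromSpecStalk_closedPoint (X := Y) (x := f x)).symm)
      exact Ideal.map_le_iff_le_comap.mpr (congrArg PrimeSpectrum.asIdeal h2).ge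
    · intro h
      have h2 : PrimeSpectrum.comap ψ P = IsLocalRing.closedPoint (Y.presheaf.stalk (f x)) :=
        PrimeSpectrum.ext ((IsLocalRing.maximalIdeal.isMaximal _).eq_of_le
          (P.2.comap _).ne_top (Ideal.map_le_iff_le_comap.mp h)).symm
      rw [h2]
      exact Scheme.fromSpecStalk_closedPoint.trans hfx
  obtain ⟨Pξ, hPξ⟩ := hj ξ hξ
  obtain ⟨P₀, hP₀⟩ := hj ζ₀ (hζ.trans hξ)
  have hIPξ : Pξ.asIdeal = I := by
    refine le_antisymm ?_ ((hover Pξ).mp (by rw [hPξ]; exact hξy))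
    rw [← hI.radical, Ideal.radical_eq_sInf, le_sInf_iff]
    rintro J ⟨hIJ, hJ⟩
    let PJ : PrimeSpectrum (X.presheaf.stalk x) := ⟨J, hJ⟩
    refine (hjle Pξ PJ).mpr ?_
    rw [hPξ]
    refine hξgen _ ((hover PJ).mpr hIJ) ?_
    have : j PJ ∈ Set.range j := ⟨PJ, rfl⟩
    rwa [Scheme.range_fromSpecStalk] at this
  obtain ⟨t, ht⟩ := hprinc
  have hIt : I = Ideal.span {ψ t} := by
    show (IsLocalRing.maximalIdeal _).map ψ = _
    rw [ht, Ideal.submodule_span_eq, Ideal.map_span, Set.image_singleton]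
  have hle : P₀.asIdeal ≤ Ideal.span {ψ t} := by
    rw [← hIt, ← hIPξ, hjle, hPξ, hP₀]
    exact hζ
  have hnot : ψ t ∉ P₀.asIdeal := fun h ↦ hζy (by
    rw [← hP₀, hover, hIt, Ideal.span_singleton_le_iff_mem]
    exact h)
  have hnu : ¬ IsUnit (ψ t) := fun hu ↦ Pξ.2.ne_top (by
    rw [hIPξ, hIt, Ideal.span_singleton_eq_top]
    exact hu)
  have hbot := eq_bot_of_le_span hnu hle hnot
  intro w hw
  obtain ⟨P, rfl⟩ := hj w hw
  rw [← hP₀, ← hjle, hbot]
  exact bot_le

end Groth.Agent.Unibranch
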